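/-
PERM/Pq (S3579): an endomorphism killed by an irreducible polynomial
-/
import Mathlib

set_option autoImplicit false

namespace CL.Pq

open Polynomial

namespace Alg

theorem sub_dvd {A : Type*} [Ring A] [Algebra ℚ A] {a b : A} (c : Commute a b) (μ : ℚ[X]) :
    a - b ∣ aeval a μ - aeval b μ := by
  induction μ using Polynomial.induction_on' with
  | add p q hp hq => rw [map_add, map_add, add_sub_add_comm]; exact dvd_add hp hq
  | monomial n r =>
    obtain ⟨w, e⟩ := c.sub_dvd_pow_sub_pow n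
    exact ⟨r • w, by rw [aeval_monomial, aeval_monomial, ← mul_sub, e, ← Algebra.smul_def, mul_smul_comm]⟩

theorem mat {n : Type*} [Fintype n] [DecidableEq n] (A : Matrix n n ℚ) (μ : ℚ[X]) (mo : μ.Monic)
    (ir : Irreducible μ) (h : aeval A μ = 0) :
    ∃ k : ℕ, Fintype.card n = k * μ.natDegree ∧ A.trace = -(k * μ.nextCoeff) := by
  obtain ⟨w, e⟩ := sub_dvd (a := algebraMap ℚ[X] (Matrix n n ℚ[X]) X)
    (b := (Algebra.ofId ℚ ℚ[X]).mapMatrix A) (Algebra.commutes _ _) μ
  rw [aeval_algebraMap_apply, aeval_X_left_apply, aeval_algHom_apply, h, map_zero, sub_zero] at e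
  have d : A.charpoly ∣ μ ^ Fintype.card n := ⟨w.det, by
    have := congrArg Matrix.det e
    rwa [Algebra.algebraMap_eq_smul_one, Matrix.det_smul, Matrix.det_one, mul_one, Matrix.det_mul] at this⟩
  obtain ⟨k, -, a⟩ := (dvd_prime_pow ir.prime _).1 d
  have q := eq_of_monic_of_associated A.charpoly_monic (mo.pow k) a
  exact ⟨k, by rw [← A.charpoly_natDegree_eq_dim, q, mo.natDegree_pow], by
    rw [Matrix.trace_eq_neg_charpoly_nextCoeff, q, mo.nextCoeff_pow, nsmul_eq_mul]⟩

/-- the sum of the coordinates -/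
def sm (Ω : Type*) [Fintype Ω] : (Ω → ℚ) →ₗ[ℚ] ℚ := ∑ a, LinearMap.proj a

theorem sm_apply {Ω : Type*} [Fintype Ω] (v : Ω → ℚ) : sm Ω v = ∑ a, v a := by simp [sm]

theorem tr {Ω : Type*} [Fintype Ω] [Nonempty Ω] (F : Module.End ℚ (Ω → ℚ))
    (hF : ∀ v ∈ LinearMap.ker (sm Ω), F v ∈ LinearMap.ker (sm Ω)) (d : ℚ) (h1 : F 1 = d • (1 : Ω → ℚ)) :
    LinearMap.trace ℚ _ (F.restrict hF) = LinearMap.trace ℚ _ F - d := by
  have n0 : (Fintype.card Ω : ℚ) ≠ 0 := Nat.cast_ne_zero.2 Fintype.card_ne_zero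
  have s1 : sm Ω 1 = Fintype.card Ω := by simp [sm_apply]
  let π : (Ω → ℚ) →ₗ[ℚ] LinearMap.ker (sm Ω) := LinearMap.codRestrict _
    (LinearMap.id - (Fintype.card Ω : ℚ)⁻¹ • (sm Ω).smulRight 1) fun v => by
      simp only [LinearMap.mem_ker, LinearMap.sub_apply, LinearMap.id_apply, LinearMap.smul_apply,
        LinearMap.smulRight_apply, map_sub, map_smul, s1, smul_eq_mul]
      field_simp; ring
  have e1 : F.restrict hF = (F.restrict hF ∘ₗ π) ∘ₗ (LinearMap.ker (sm Ω)).subtype := by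
    ext ⟨v, hv⟩ : 1
    have : sm Ω v = 0 := hv
    simp only [LinearMap.comp_apply]
    congr 1
    ext : 1
    simp [π, this]
  have e2 : (LinearMap.ker (sm Ω)).subtype ∘ₗ (F.restrict hF ∘ₗ π) =
      F - (Fintype.card Ω : ℚ)⁻¹ • (sm Ω).smulRight (d • (1 : Ω → ℚ)) := by
    refine LinearMap.ext fun v => ?_
    simp [π, LinearMap.restrict_coe_apply, h1]
  rw [e1, LinearMap.trace_comp_comm', e2, map_sub, map_smul, LinearMap.trace_smulRight, map_smul, s1]
  simp [n0, mul_left_comm]

end Alg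

/-- PROOF. `charpoly f = μ ^ k`: every complex root of `charpoly f` is an eigenvalue of the complexified matrix, so a root
of `μ`; a monic rational polynomial all of whose complex roots are roots of `μ` is a power of `μ` (induction on the degree,
`μ = minpoly ℚ root` divides it). (Or: `V` is a vector space over the field `AdjoinRoot μ`.) Then `charpoly_natDegree`,
`Matrix.trace_eq_neg_charpoly_coeff`/`nextCoeff`, `Monic.nextCoeff_pow`. The case `finrank = 0` is `k = 0`. -/
theorem alg {V : Type*} [AddCommGroup V] [Module ℚ V] [FiniteDimensional ℚ V] (f : Module.End ℚ V)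
    (μ : ℚ[X]) (mo : μ.Monic) (ir : Irreducible μ) (h : aeval f μ = 0) :
    ∃ k : ℕ, Module.finrank ℚ V = k * μ.natDegree ∧ LinearMap.trace ℚ V f = -(k * μ.nextCoeff) := by
  classical
  let b := Module.finBasis ℚ V
  obtain ⟨k, e1, e2⟩ := Alg.mat (LinearMap.toMatrixAlgEquiv b f) μ mo ir (by
    rw [aeval_algHom_apply, h, map_zero])
  exact ⟨k, (Fintype.card_fin _).symm.trans e1, (LinearMap.trace_eq_matrix_trace ℚ b f).trans e2⟩

/-- matrix form: `X` has constant row and column sums `d`, and `μ(X)` has constant rows. PROOF. Apply `alg` to the restriction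
`f` of `X.mulVecLin` to `V = {v | ∑ v = 0}` (invariant by the column sums; `finrank V = n - 1`); `aeval f μ` is the restriction of
`(aeval X μ).mulVecLin`, zero on `V`. `trace X = trace f + d`: with `π v = v - (∑ v / n) • 1 : (Ω → ℚ) → V`,
`trace f = trace (ι ∘ f ∘ π)` (`LinearMap.trace_comp_comm`, `π ∘ ι = id`) and `ι ∘ f ∘ π` has matrix `X - (d / n) J`. -/
theorem algM {Ω : Type*} [Fintype Ω] [DecidableEq Ω] [Nonempty Ω] (X : Matrix Ω Ω ℚ) (d : ℚ)
    (row : ∀ a, ∑ b, X a b = d) (col : ∀ b, ∑ a, X a b = d) (μ : ℚ[X]) (mo : μ.Monic)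
    (ir : Irreducible μ) (h : ∀ a b c, aeval X μ a b = aeval X μ a c) :
    ∃ k : ℕ, Fintype.card Ω - 1 = k * μ.natDegree ∧ X.trace - d = -(k * μ.nextCoeff) := by
  have hF : ∀ v ∈ LinearMap.ker (Alg.sm Ω), Matrix.toLin' X v ∈ LinearMap.ker (Alg.sm Ω) := fun v hv => by
    rw [LinearMap.mem_ker, Alg.sm_apply] at hv ⊢
    simp only [Matrix.toLin'_apply, Matrix.mulVec, dotProduct]
    rw [Finset.sum_comm]
    simp only [← Finset.sum_mul, col, ← Finset.mul_sum, hv, mul_zero]
  have k : ∀ (p : ℚ[X]) (v : LinearMap.ker (Alg.sm Ω)),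
      (aeval ((Matrix.toLin' X).restrict hF) p v : Ω → ℚ) = (aeval X p).mulVec v := fun p => by
    induction p using Polynomial.induction_on with
    | C r => intro v; simp [Algebra.algebraMap_eq_smul_one, Matrix.smul_mulVec]
    | add p q hp hq => intro v; simp [hp, hq, Matrix.add_mulVec]
    | monomial n r ih =>
      intro v
      rw [pow_succ, ← mul_assoc, map_mul, map_mul (aeval X), aeval_X, aeval_X, Module.End.mul_apply, ih,
        ← Matrix.mulVec_mulVec]
      rfl
  obtain ⟨m, e1, e2⟩ := alg ((Matrix.toLin' X).restrict hF) μ mo ir (by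
    ext v a
    obtain ⟨c⟩ := ‹Nonempty Ω›
    have hv : ∑ b, v.1 b = 0 := (Alg.sm_apply _).symm.trans v.2
    rw [k, Matrix.mulVec, dotProduct, Finset.sum_congr rfl fun b _ => by rw [h a b c], ← Finset.mul_sum, hv]
    simp)
  have t := Alg.tr (Ω := Ω) LinearMap.id (fun _ hv => hv) 1 (one_smul _ _).symm
  rw [show (LinearMap.id : Module.End ℚ (Ω → ℚ)).restrict (fun _ hv => hv) = LinearMap.id from rfl,
    LinearMap.trace_id, LinearMap.trace_id, Module.finrank_fintype_fun_eq_card, e1, eq_sub_iff_add_eq] at t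
  rw [Alg.tr _ hF d (funext fun a => by simp [Matrix.mulVec, dotProduct, row]), Matrix.trace_toLin'_eq] at e2
  exact ⟨m, by norm_cast at t; omega, e2⟩

end CL.Pq
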