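/-
PERM/Pq (S3579, transitive groups of degree `2 p q` are not elusive): definitions.
-/
import Cfsg.Agent.SOLV.Basic
import Cfsg.Agent.CLAS.T2.Def

set_option autoImplicit false

namespace CL.Pq

open MulAction Pointwise

/-- standing hypotheses: an elusive transitive action of degree `2 p q`, `q < p < 2 q`
(always used with `[Finite G] [Finite Ω] [FaithfulSMul G Ω]`) -/
structure St (G Ω : Type*) [Group G] [MulAction G Ω] (p q : ℕ) : Prop where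
  hp : p.Prime
  hq : q.Prime
  q3 : 3 ≤ q
  lt : q < p
  lt2 : p < 2 * q
  tr : IsPretransitive G Ω
  card : Nat.card Ω = 2 * p * q
  el : ∀ g : G, (orderOf g).Prime → ∃ ω : Ω, g • ω = ω

variable {G Ω : Type*} [Group G] [MulAction G Ω]

/-- the long orbit `Δ` -/
def Dl (x : G) (δ : Ω) : Set Ω := {ω | ∃ i : ℕ, x ^ i • δ = ω}

/-- uniform configuration: `A = Ω₁(P)` is elementary abelian and all its orbits have length `p` -/
structure Uc (Ω : Type*) [MulAction G Ω] (p : ℕ) (P A : Subgroup G) : Prop where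
  syl : ∃ S : Sylow p G, (S : Subgroup G) = P
  le : A ≤ P
  om : ∀ y ∈ P, y ^ p = 1 → y ∈ A
  ex : ∀ a ∈ A, a ^ p = 1
  cm : ∀ a ∈ A, ∀ b ∈ A, a * b = b * a
  orb : ∀ ω : Ω, Nat.card A = p * Nat.card ↥(A ⊓ stabilizer G ω)

/-- the Sylow subgroup `P = A⟨x⟩` has one orbit `Δ` of length `p²`, a cycle of `x`, on which the orbits
of `A` are the cycles of `z = x ^ p`; the other orbits of `P` have length `p` -/
structure Pc (p : ℕ) (P A : Subgroup G) (x : G) (δ : Ω) : Prop where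
  syl : ∃ S : Sylow p G, (S : Subgroup G) = P
  le : A ≤ P
  card : Nat.card P = p * Nat.card A
  xP : x ∈ P
  xA : x ∉ A
  ex : ∀ a ∈ A, a ^ p = 1
  cm : ∀ a ∈ A, ∀ b ∈ A, a * b = b * a
  zA : x ^ p ∈ A
  inj : ∀ i j : ℕ, x ^ i • δ = x ^ j • δ ↔ i ≡ j [MOD p ^ 2]
  blk : ∀ a ∈ A, ∀ i : ℕ, ∃ s : ℕ, a • x ^ i • δ = x ^ (i + p * s) • δ
  sm : ∀ ω : Ω, ω ∉ Dl x δ → Nat.card P = p * Nat.card ↥(P ⊓ stabilizer G ω)

/-- moreover `A = Ω₁(P)` and `A` fixes every point outside `Δ` -/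
structure Bc (p : ℕ) (P A : Subgroup G) (x : G) (δ : Ω) : Prop extends Pc p P A x δ where
  om : ∀ y ∈ P, y ^ p = 1 → y ∈ A
  out : ∀ ω : Ω, ω ∉ Dl x δ → ∀ a ∈ A, a • ω = ω

/-- `x` has a cycle of length `p²` through `δ`, and `x ^ p` fixes the points off that cycle -/
structure Lc (p : ℕ) (x : G) (δ : Ω) : Prop where
  inj : ∀ i j : ℕ, x ^ i • δ = x ^ j • δ ↔ i ≡ j [MOD p ^ 2]
  out : ∀ ω : Ω, ω ∉ Dl x δ → x ^ p • ω = ω

theorem Bc.lc {p : ℕ} {P A : Subgroup G} {x : G} {δ : Ω} (h : Bc p P A x δ) : Lc p x δ :=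
  ⟨h.inj, fun ω hω => h.out ω hω _ h.zA⟩

/-- invariant matrices -/
def Inv (G : Type*) {Ω : Type*} [Group G] [MulAction G Ω] (X : Matrix Ω Ω ℚ) : Prop :=
  ∀ (g : G) (a b : Ω), X (g • a) (g • b) = X a b

/-- the eigenvalue of an invariant matrix on the eigenvector of `x` belonging to `ζ` -/
noncomputable def th {K : Type*} [Field K] [Algebra ℚ K] (p : ℕ) (x : G) (δ : Ω) (ζ : K)
    (X : Matrix Ω Ω ℚ) : K :=
  ∑ i ∈ Finset.range (p ^ 2), algebraMap ℚ K (X δ (x ^ i • δ)) * ζ ^ i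

/-- the kernel of the action on the translates of `B` -/
def Kb (x : G) (B : Set Ω) : Subgroup G := ⨅ i : ℕ, stabilizer G (x ^ i • B)

/-- a system of `p` blocks `x ^ i • B` of size `2 q` -/
structure Sy (p q : ℕ) (A : Subgroup G) (x : G) (δ : Ω) (B : Set Ω) : Prop where
  mem : δ ∈ B
  card : B.ncard = 2 * q
  per : x ^ p • B = B
  cov : ∀ ω : Ω, ∃ i < p, ω ∈ x ^ i • B
  dis : ∀ (i j : ℕ) (ω : Ω), ω ∈ x ^ i • B → ω ∈ x ^ j • B → i ≡ j [MOD p]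
  nrm : (Kb x B).Normal
  le : A ≤ Kb x B
  tr : ∀ a ∈ B, ∀ b ∈ B, ∃ k ∈ Kb x B, k • a = b

/-- `K` acts transitively on the set `B` of size `2 q` and `c ∈ K` induces a `p`-cycle on `B` -/
structure Cy (p q : ℕ) (K : Subgroup G) (B : Set Ω) (c : G) (β : Ω) : Prop where
  hp : p.Prime
  hq : q.Prime
  q3 : 3 ≤ q
  lt : q < p
  lt2 : p < 2 * q
  card : B.ncard = 2 * q
  inv : ∀ k ∈ K, ∀ b ∈ B, k • b ∈ B
  tr : ∀ a ∈ B, ∀ b ∈ B, ∃ k ∈ K, k • a = b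
  cK : c ∈ K
  mem : β ∈ B
  inj : ∀ i j : ℕ, c ^ i • β = c ^ j • β ↔ i ≡ j [MOD p]
  out : ∀ b ∈ B, b ∉ Dl c β → c • b = b

/-- `a` (of order `p`) induces a `p`-cycle on the set `Γ` of size `< 2 p` and normalises, without
centralising, a `p'`-group `M` supported on `Γ` -/
structure Jc (p : ℕ) (a : G) (β : Ω) (Γ : Set Ω) (M : Subgroup G) : Prop where
  ex : a ^ p = 1
  mv : a • β ≠ β
  sub : Dl a β ⊆ Γ
  card : Γ.ncard < 2 * p
  out : ∀ γ ∈ Γ, γ ∉ Dl a β → a • γ = γ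
  cop : ¬ p ∣ Nat.card M
  nrm : ∀ m ∈ M, a * m * a⁻¹ ∈ M
  sup : ∀ m ∈ M, ∀ ω : Ω, ω ∉ Γ → m • ω = ω
  nc : ∃ m ∈ M, a * m ≠ m * a

end CL.Pq
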