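/-
PERM/Pq (S3579): general lemmas
-/
import Cfsg.Agent.PERM.Pq.Defs

set_option autoImplicit false

namespace CL.Pq

open MulAction Pointwise

variable {G Ω : Type*} [Group G] [Finite G] [MulAction G Ω] [Finite Ω] [FaithfulSMul G Ω] {p q : ℕ}
  {P A : Subgroup G} {x : G} {δ : Ω}

omit [FaithfulSMul G Ω] [Finite Ω] [MulAction G Ω] [Finite G] in
theorem BasA.card_sub {H K : Subgroup G} (h : H ≤ K) : Nat.card (H.subgroupOf K) = Nat.card H :=
  Nat.card_congr (Subgroup.subgroupOfEquivOfLe h).toEquiv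

omit [FaithfulSMul G Ω] [Finite Ω] [MulAction G Ω] [Finite G] in
theorem BasA.rel_mul {H K : Subgroup G} (h : H ≤ K) : H.relIndex K * Nat.card H = Nat.card K := by
  rw [← BasA.card_sub h, mul_comm]; exact (H.subgroupOf K).card_mul_index

omit [FaithfulSMul G Ω] [Finite Ω] [MulAction G Ω] in
/-- At most `p` subgroups of index `≥ p` do not cover `Q`. PROOF. `|⋃ (H ⊓ Q)| ≤ 1 + ∑ (|H ⊓ Q| - 1)`,
times `p`: `≤ p + s.card * (|Q| - p)`; for `s.card ≥ 2` this is `< p |Q|`; `s.card ≤ 1` is trivial. -/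
theorem avoid (hp : 2 ≤ p) (Q : Subgroup G) (s : Finset (Subgroup G)) (hs : s.card ≤ p)
    (h : ∀ H ∈ s, p * Nat.card ↥(H ⊓ Q) ≤ Nat.card Q) : ∃ y ∈ Q, ∀ H ∈ s, y ∉ H := by
  classical
  by_contra hc
  push Not at hc
  have := Fintype.ofFinite G
  have cf : ∀ K : Subgroup G, Nat.card K = (Finset.univ.filter (· ∈ K)).card := fun K => by
    rw [Nat.card_eq_fintype_card, Fintype.card_subtype]
  have cf' : ∀ K : Subgroup G, ((Finset.univ.filter (· ∈ K)).erase 1).card + 1 = Nat.card K := fun K => by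
    rw [cf, Finset.card_erase_add_one (by simp)]
  have sub : (Finset.univ.filter (· ∈ Q)).erase 1 ⊆
      s.biUnion fun H => (Finset.univ.filter (· ∈ H ⊓ Q)).erase 1 := fun y hy => by
    simp only [Finset.mem_erase, Finset.mem_filter, Finset.mem_univ, true_and] at hy
    obtain ⟨H, hH, m⟩ := hc y hy.2
    exact Finset.mem_biUnion.2 ⟨H, hH, by simp [hy.1, hy.2, m]⟩
  have le := (Finset.card_le_card sub).trans Finset.card_biUnion_le
  have le2 : p * ∑ H ∈ s, ((Finset.univ.filter (· ∈ H ⊓ Q)).erase 1).card + s.card * p ≤ s.card * Nat.card Q := by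
    rw [Finset.mul_sum, ← smul_eq_mul s.card p, ← Finset.sum_const, ← Finset.sum_add_distrib, ← smul_eq_mul s.card,
      ← Finset.sum_const]
    refine Finset.sum_le_sum fun H hH => ?_
    have := h H hH
    rw [← cf' (H ⊓ Q)] at this
    linarith
  have e := cf' Q
  obtain ⟨H, hH, -⟩ := hc 1 Q.one_mem
  have pq : p ≤ Nat.card Q := (Nat.le_mul_of_pos_right p Nat.card_pos).trans (h H hH)
  have s1 : 1 ≤ s.card := Finset.card_pos.2 ⟨H, hH⟩
  generalize (∑ H ∈ s, ((Finset.univ.filter (· ∈ H ⊓ Q)).erase 1).card) = t at le le2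
  generalize ((Finset.univ.filter (· ∈ Q)).erase 1).card = n at le e
  obtain ⟨k, hk⟩ := Nat.exists_eq_add_of_le pq
  obtain ⟨d, hd⟩ := Nat.exists_eq_add_of_le hs
  rw [hk] at le2 e
  generalize s.card = c at *
  have a1 : p * n ≤ p * t := Nat.mul_le_mul_left p le
  have a2 : p * t ≤ c * k := by nlinarith
  have a3 : c * k ≤ p * k := Nat.mul_le_mul_right k hs
  have a4 : p * (k + 1) ≤ p * n := Nat.mul_le_mul_left p (by omega)
  nlinarith

omit [FaithfulSMul G Ω] [Finite Ω] [MulAction G Ω] in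
/-- Sylow's theorem inside `H`. PROOF. `S.subgroupOf H`, `T.subgroupOf H` are Sylow in `↥H`
(`IsPGroup.toSylow`); `MulAction.exists_smul_eq`. -/
theorem witt [Fact p.Prime] {H S T : Subgroup G} (hS : IsPGroup p S) (hT : IsPGroup p T) (sH : S ≤ H)
    (tH : T ≤ H) (hi : ¬ p ∣ S.relIndex H) (hc : Nat.card T = Nat.card S) :
    ∃ h ∈ H, MulAut.conj h • T = S := by
  have iS : IsPGroup p (S.subgroupOf H) := hS.comap_subtype
  have iT : IsPGroup p (T.subgroupOf H) := hT.comap_subtype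
  have hi' : ¬ p ∣ T.relIndex H := by
    have e := (BasA.rel_mul tH).trans (BasA.rel_mul sH).symm
    rw [hc] at e
    rwa [Nat.eq_of_mul_eq_mul_right Nat.card_pos e]
  obtain ⟨g, hg⟩ := MulAction.exists_smul_eq H (iT.toSylow hi') (iS.toSylow hi)
  have e : MulAut.conj g • T.subgroupOf H = S.subgroupOf H := congrArg Sylow.toSubgroup hg
  refine ⟨g, g.2, Subgroup.eq_of_le_of_card_ge (fun y hy => ?_) ?_⟩
  · obtain ⟨t, ht, rfl⟩ := hy
    have : MulAut.conj g • (⟨t, tH ht⟩ : H) ∈ S.subgroupOf H := e ▸ Subgroup.smul_mem_pointwise_smul _ _ _ ht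
    exact this
  · rw [← hc]
    exact (Nat.card_congr (Subgroup.equivSMul (MulAut.conj (g : G)) T).toEquiv).le

omit [FaithfulSMul G Ω] [Finite Ω] [MulAction G Ω] in
/-- a subgroup of index `p` of a `p`-group is normal. PROOF. `Subgroup.normal_of_index_eq_minFac_card`
(or: coatom + normalizer condition) in `↥P`; `Subgroup.pow_index_mem`. -/
theorem nrm_of_card (hp : p.Prime) (hP : IsPGroup p P) (le : A ≤ P)
    (hc : Nat.card P = p * Nat.card A) :
    (∀ g ∈ P, ∀ a ∈ A, g * a * g⁻¹ ∈ A) ∧ ∀ g ∈ P, g ^ p ∈ A := by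
  have := Fact.mk hp
  have ix : (A.subgroupOf P).index = p := by
    have e := (BasA.rel_mul le).trans hc
    exact Nat.eq_of_mul_eq_mul_right Nat.card_pos e
  obtain ⟨n, hn⟩ := hP.exists_card_eq
  have n0 : n ≠ 0 := by
    rintro rfl
    rw [hc, pow_zero] at hn
    exact hp.one_lt.ne' (Nat.eq_one_of_mul_eq_one_right hn)
  have nm : (A.subgroupOf P).Normal := Subgroup.normal_of_index_eq_minFac_card (by rw [ix, hn, hp.pow_minFac n0])
  refine ⟨fun g hg a ha => nm.conj_mem ⟨a, le ha⟩ ha ⟨g, hg⟩, fun g hg => ?_⟩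
  have := (A.subgroupOf P).pow_index_mem ⟨g, hg⟩
  rwa [ix] at this

omit [Finite Ω] in
/-- a `p`-group all of whose orbits have length `≤ p` is elementary abelian. PROOF. For each `ω` the
stabilizer `A_ω` is `A` or normal of index `p` in `A` (`nrm_of_card`), so contains all commutators and
`p`-th powers; these fix every point; faithfulness. -/
theorem elem (hp : p.Prime) (hA : IsPGroup p A)
    (h : ∀ ω : Ω, Nat.card A ≤ p * Nat.card ↥(A ⊓ stabilizer G ω)) :
    (∀ a ∈ A, a ^ p = 1) ∧ ∀ a ∈ A, ∀ b ∈ A, a * b = b * a := by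
  have := Fact.mk hp
  have key : ∀ ω : Ω, (∀ a ∈ A, a ^ p • ω = ω) ∧ ∀ a ∈ A, ∀ b ∈ A, (a * b * a⁻¹ * b⁻¹) • ω = ω := fun ω => by
    have e := BasA.rel_mul (inf_le_left : A ⊓ stabilizer G ω ≤ A)
    obtain ⟨n, hn⟩ := hA.index ((A ⊓ stabilizer G ω).subgroupOf A)
    have hn' : (A ⊓ stabilizer G ω).relIndex A = p ^ n := hn
    have le : p ^ n ≤ p := by
      have := h ω
      rw [← e, hn'] at this
      exact Nat.le_of_mul_le_mul_right this Nat.card_pos
    have n1 : n ≤ 1 := (Nat.pow_le_pow_iff_right hp.one_lt).1 (by rwa [pow_one])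
    interval_cases n
    · have t : A ≤ A ⊓ stabilizer G ω := Subgroup.relIndex_eq_one.1 (by simpa using hn')
      exact ⟨fun a ha => (t (A.pow_mem ha p)).2, fun a ha b hb =>
        (t (A.mul_mem (A.mul_mem (A.mul_mem ha hb) (A.inv_mem ha)) (A.inv_mem hb))).2⟩
    · rw [hn', pow_one] at e
      obtain ⟨nm, pw⟩ := nrm_of_card hp hA inf_le_left e.symm
      refine ⟨fun a ha => (pw a ha).2, fun a ha b hb => ?_⟩
      have N : ((A ⊓ stabilizer G ω).subgroupOf A).Normal := ⟨fun n hn g => nm g g.2 n hn⟩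
      have cy : IsCyclic (A ⧸ (A ⊓ stabilizer G ω).subgroupOf A) := isCyclic_of_prime_card (p := p) (hn.trans (pow_one p))
      have q : QuotientGroup.mk' ((A ⊓ stabilizer G ω).subgroupOf A)
          (⟨a, ha⟩ * ⟨b, hb⟩ * (⟨a, ha⟩ : A)⁻¹ * (⟨b, hb⟩ : A)⁻¹) = 1 := by
        rw [map_mul, map_mul, map_mul, map_inv, map_inv, cy.isMulCommutative.is_comm.comm (QuotientGroup.mk' _ ⟨a, ha⟩)]
        simp
      exact ((QuotientGroup.eq_one_iff _).1 q).2
  refine ⟨fun a ha => FaithfulSMul.eq_of_smul_eq_smul (α := Ω) fun ω => by rw [(key ω).1 a ha, one_smul],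
    fun a ha b hb => ?_⟩
  have : a * b * a⁻¹ * b⁻¹ = 1 :=
    FaithfulSMul.eq_of_smul_eq_smul (α := Ω) fun ω => by rw [(key ω).2 a ha b hb, one_smul]
  rwa [mul_inv_eq_one, mul_inv_eq_iff_eq_mul] at this

omit [FaithfulSMul G Ω] in
/-- few stabilizers. PROOF. `P ⊓ G_ω` is normal in `P` (`nrm_of_card`), hence constant on the
`P`-orbit of `ω`, which has `p` points and lies in `Y`; so every fibre of `ω ↦ P ⊓ G_ω` on `Y` has
`≥ p` points (`Finset.card_nsmul_le_card_of..`/`Finset.mul_card_image_le_card`). -/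
theorem few (hp : p.Prime) (hP : IsPGroup p P) (Y : Set Ω) (hY : ∀ g ∈ P, ∀ ω ∈ Y, g • ω ∈ Y)
    (h : ∀ ω ∈ Y, Nat.card P = p * Nat.card ↥(P ⊓ stabilizer G ω)) :
    ∃ s : Finset (Subgroup G), p * s.card ≤ Y.ncard ∧ (∀ ω ∈ Y, P ⊓ stabilizer G ω ∈ s) ∧
      ∀ H ∈ s, ∃ ω ∈ Y, H = P ⊓ stabilizer G ω := by
  classical
  have fin := Set.toFinite Y
  refine ⟨fin.toFinset.image fun ω => P ⊓ stabilizer G ω, ?_, fun ω hω => Finset.mem_image.2 ⟨ω, by simpa using hω, rfl⟩,
    fun H hH => ?_⟩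
  · rw [Set.ncard_eq_toFinset_card Y fin]
    refine Finset.mul_card_image_le_card _ _ fun H hH => ?_
    obtain ⟨ω, hω, rfl⟩ := Finset.mem_image.1 hH
    have hω' : ω ∈ Y := by simpa using hω
    have nm := (nrm_of_card hp hP inf_le_left (h ω hω')).1
    have ob : (orbit P ω).ncard = p := by
      rw [← index_stabilizer]
      have e : stabilizer P ω = (P ⊓ stabilizer G ω).subgroupOf P := by
        ext g; simp [Subgroup.mem_subgroupOf]; rfl
      rw [e]
      exact Nat.eq_of_mul_eq_mul_right Nat.card_pos ((BasA.rel_mul inf_le_left).trans (h ω hω'))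
    rw [← ob, Set.ncard_eq_toFinset_card _ (Set.toFinite _)]
    refine Finset.card_le_card fun y hy => ?_
    obtain ⟨g, rfl⟩ : y ∈ orbit P ω := by simpa using hy
    refine Finset.mem_filter.2 ⟨fin.mem_toFinset.2 (hY g g.2 ω hω'), ?_⟩
    ext a
    refine ⟨fun ha => ⟨ha.1, ?_⟩, fun ha => ⟨ha.1, ?_⟩⟩
    · have m : (g : G)⁻¹ * a * (g : G)⁻¹⁻¹ ∈ P ⊓ stabilizer G ω := by
        refine ⟨P.mul_mem (P.mul_mem (P.inv_mem g.2) ha.1) (by simp), ?_⟩
        have : a • (g : G) • ω = (g : G) • ω := ha.2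
        show _ • ω = ω
        rw [inv_inv, mul_smul, mul_smul, this, inv_smul_smul]
      simpa [mul_assoc] using (nm g g.2 _ m).2
    · have m : ((g : G)⁻¹ * a * (g : G)⁻¹⁻¹) • ω = ω := (nm _ (P.inv_mem g.2) a ha).2
      show a • (g : G) • ω = (g : G) • ω
      rwa [inv_inv, mul_smul, mul_smul, inv_smul_eq_iff] at m
  · obtain ⟨ω, hω, rfl⟩ := Finset.mem_image.1 hH
    exact ⟨ω, by simpa using hω, rfl⟩

omit [FaithfulSMul G Ω] [Finite Ω] [Finite G] in
/-- arithmetic -/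
theorem St.num (h : St G Ω p q) : q + 2 ≤ p ∧ 5 ≤ p ∧ Odd p ∧ Odd q ∧ ¬ p ∣ 2 * q ∧ ¬ q ∣ p - 1 := by
  have q3 := h.q3
  have lt := h.lt
  have lt2 := h.lt2
  have op : Odd p := h.hp.odd_of_ne_two (by omega)
  have oq : Odd q := h.hq.odd_of_ne_two (by omega)
  obtain ⟨a, ha⟩ := id op
  obtain ⟨b, hb⟩ := id oq
  refine ⟨by omega, by omega, op, oq, fun d => ?_, fun ⟨c, hc⟩ => ?_⟩
  · rcases (Nat.Prime.dvd_mul h.hp).1 d with d | d
    · have := Nat.le_of_dvd (by norm_num) d; omega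
    · have := Nat.le_of_dvd (by omega) d; omega
  · rcases c with _ | _ | c
    · omega
    · omega
    · have : q * (c + 1 + 1) = q * c + 2 * q := by ring
      omega

omit [FaithfulSMul G Ω] in
/-- orbit-stabilizer -/
theorem St.stab (h : St G Ω p q) (ω : Ω) :
    Nat.card G = 2 * p * q * Nat.card (stabilizer G ω) := by
  have := h.tr
  rw [← h.card, ← index_stabilizer_of_transitive G ω, mul_comm, Subgroup.card_mul_index]

omit [FaithfulSMul G Ω] in
/-- a `p`-subgroup fixing a point has order `≤ |P| / p`, and it is Sylow in the stabilizer in case of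
equality. PROOF. `|G|_p = |P|`, `|G| = p * (2 q) * |G_ω|`, `p ∤ 2 q`. -/
theorem St.syl (h : St G Ω p q) (hP : ∃ S : Sylow p G, (S : Subgroup G) = P) {T : Subgroup G}
    (hT : IsPGroup p T) {ω : Ω} (le : T ≤ stabilizer G ω) :
    p * Nat.card T ∣ Nat.card P ∧
      (Nat.card P = p * Nat.card T → ¬ p ∣ T.relIndex (stabilizer G ω)) := by
  have := Fact.mk h.hp
  obtain ⟨S, rfl⟩ := hP
  have e := h.stab ω
  rw [← BasA.rel_mul le, ← (S : Subgroup G).card_mul_index] at e
  obtain ⟨n, hn⟩ := hT.exists_card_eq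
  refine ⟨?_, fun c d => ?_⟩
  · refine Nat.Coprime.dvd_of_dvd_mul_right (n := (S : Subgroup G).index) ?_ ⟨2 * q * T.relIndex (stabilizer G ω), by rw [e]; ring⟩
    rw [hn, ← pow_succ']
    exact Nat.Coprime.pow_left _ ((Nat.Prime.coprime_iff_not_dvd h.hp).2 S.not_dvd_index)
  · obtain ⟨r, hr⟩ := d
    rw [c, hr] at e
    refine S.not_dvd_index ⟨2 * q * r, Nat.eq_of_mul_eq_mul_left (Nat.mul_pos h.hp.pos (Nat.card_pos (α := T))) ?_⟩
    rw [e]; ring

omit [FaithfulSMul G Ω] in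
/-- Sylow subgroups of point stabilizers are conjugate, by an element moving the points. PROOF. `g • ω' = ω`
(transitivity), then `witt` in `G_ω` for `T` and `conj g • T'`. -/
theorem St.conj (h : St G Ω p q) (hP : ∃ S : Sylow p G, (S : Subgroup G) = P) {T T' : Subgroup G}
    (hT : IsPGroup p T) (hT' : IsPGroup p T') {ω ω' : Ω} (le : T ≤ stabilizer G ω)
    (le' : T' ≤ stabilizer G ω') (c : Nat.card P = p * Nat.card T) (c' : Nat.card P = p * Nat.card T') :
    ∃ g : G, g • ω' = ω ∧ MulAut.conj g • T' = T := by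
  have := Fact.mk h.hp
  have := h.tr
  obtain ⟨g, rfl⟩ := MulAction.exists_smul_eq G ω' ω
  have cg : Nat.card ↥(MulAut.conj g • T') = Nat.card T' :=
    (Nat.card_congr (Subgroup.equivSMul (MulAut.conj g) T').toEquiv).symm
  have l : MulAut.conj g • T' ≤ stabilizer G (g • ω') := by
    rintro _ ⟨t, ht, rfl⟩
    show (g * t * g⁻¹) • g • ω' = g • ω'
    rw [mul_smul, inv_smul_smul, mul_smul, (le' ht : t • ω' = ω')]
  obtain ⟨k, hk, e⟩ := witt (T := MulAut.conj g • T') hT (hT'.of_equiv (Subgroup.equivSMul (MulAut.conj g) T')) le l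
    ((h.syl hP hT le).2 c) (by rw [cg]; exact Nat.eq_of_mul_eq_mul_left h.hp.pos (c'.symm.trans c))
  exact ⟨k * g, by rw [mul_smul]; exact hk, by rw [map_mul, mul_smul, e]⟩

end CL.Pq
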