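/-
PERM/Pq (S3579): basic facts on the configurations
-/
import Cfsg.Agent.PERM.Pq.BasA

set_option autoImplicit false

namespace CL.Pq

open MulAction Pointwise

variable {G Ω : Type*} [Group G] [Finite G] [MulAction G Ω] [Finite Ω] [FaithfulSMul G Ω] {p q : ℕ}
  {P A : Subgroup G} {x : G} {δ : Ω}

omit [FaithfulSMul G Ω] [Finite G] in
/-- `|Δ| = p²`. PROOF. `Dl x δ` is the image of `range (p ^ 2)` under the map `i ↦ x ^ i • δ`, injective there. -/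
theorem Lc.card (hp : p.Prime) (h : ∀ i j : ℕ, x ^ i • δ = x ^ j • δ ↔ i ≡ j [MOD p ^ 2]) :
    (Dl x δ).ncard = p ^ 2 := by
  have e : Dl x δ = (fun i : ℕ => x ^ i • δ) '' (Finset.range (p ^ 2) : Set ℕ) := Set.ext fun ω =>
    ⟨fun ⟨i, hi⟩ => ⟨i % p ^ 2, by simpa using Nat.mod_lt _ (pow_pos hp.pos 2),
      ((h _ _).2 (Nat.mod_modEq i _)).trans hi⟩, fun ⟨i, _, hi⟩ => ⟨i, hi⟩⟩
  rw [e, Set.InjOn.ncard_image fun i hi j hj k => Nat.ModEq.eq_of_lt_of_lt ((h i j).1 k) (by simpa using hi)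
    (by simpa using hj), Set.ncard_coe_finset, Finset.card_range]

omit [FaithfulSMul G Ω] in
/-- `|F| = (2 q - p) p` -/
theorem Pc.cardF (h : St G Ω p q) (c : Pc p P A x δ) : (Dl x δ)ᶜ.ncard = (2 * q - p) * p := by
  have := Set.ncard_add_ncard_compl (Dl x δ)
  rw [Lc.card h.hp c.inj, h.card] at this
  rw [Nat.sub_mul, ← pow_two, mul_right_comm]
  omega

omit [FaithfulSMul G Ω] [Finite Ω] in
/-- `A` is normal in `P`, `P = A⟨x⟩`. PROOF. `nrm_of_card`; the cosets `A x ^ j`, `j < p`, are distinct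
(`x ^ j ∈ A` with `p ∤ j` and `x ^ p ∈ A` give `x ∈ A`), or `A ⊔ zpowers x = P` by Lagrange. -/
theorem Pc.gen (hp : p.Prime) (c : Pc p P A x δ) : (∀ g ∈ P, ∀ a ∈ A, g * a * g⁻¹ ∈ A) ∧
    (∀ g ∈ P, ∃ a ∈ A, ∃ j < p, g = a * x ^ j) ∧ (∀ j : ℕ, x ^ j ∈ A ↔ p ∣ j) := by
  have := Fact.mk hp
  obtain ⟨S, hS⟩ := c.syl
  have n := nrm_of_card hp (hS ▸ S.isPGroup') c.le c.card
  have k : ∀ j : ℕ, x ^ j ∈ A ↔ p ∣ j := fun j => ⟨fun h => by
    by_contra d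
    obtain ⟨m, hm⟩ := Nat.exists_mul_mod_eq_one_of_coprime ((Nat.Prime.coprime_iff_not_dvd hp).2 d).symm hp.one_lt
    have e := Nat.div_add_mod (j * m) p
    have h1 := A.pow_mem h m
    rw [← pow_mul, ← e, hm.2, pow_succ, pow_mul] at h1
    exact c.xA ((A.mul_mem_cancel_left (A.pow_mem c.zA _)).1 h1), fun ⟨m, hm⟩ => by
    rw [hm, pow_mul]; exact A.pow_mem c.zA m⟩
  refine ⟨n.1, fun g hg => ?_, k⟩
  let H : Subgroup G :=
    { carrier := {g | ∃ a ∈ A, ∃ j : ℕ, g = a * x ^ j}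
      one_mem' := ⟨1, one_mem _, 0, by simp⟩
      mul_mem' := by
        rintro _ _ ⟨a, ha, i, rfl⟩ ⟨b, hb, j, rfl⟩
        exact ⟨_, mul_mem ha (n.1 _ (P.pow_mem c.xP i) b hb), i + j, by rw [pow_add]; group⟩
      inv_mem' := by
        rintro _ ⟨a, ha, i, rfl⟩
        refine ⟨_, n.1 _ (inv_mem (P.pow_mem c.xP i)) _ (inv_mem ha), i * (orderOf x - 1), ?_⟩
        have : x ^ (i * (orderOf x - 1)) = (x ^ i)⁻¹ := eq_inv_of_mul_eq_one_left (by
          rw [← pow_add, ← Nat.mul_succ, Nat.succ_eq_add_one, Nat.sub_add_cancel (orderOf_pos x), mul_comm, pow_mul,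
            pow_orderOf_eq_one, one_pow])
        rw [this]; group }
  have h1 : A ≤ H := fun a ha => ⟨a, ha, 0, by simp⟩
  have h2 : H ≤ P := by
    rintro _ ⟨a, ha, i, rfl⟩
    exact mul_mem (c.le ha) (P.pow_mem c.xP i)
  obtain ⟨m, hm⟩ := Subgroup.card_dvd_of_le h1
  have d := Subgroup.card_dvd_of_le h2
  rw [hm, c.card, mul_comm p] at d
  rcases (Nat.dvd_prime hp).1 (Nat.dvd_of_mul_dvd_mul_left Nat.card_pos d) with rfl | rfl
  · exact (c.xA ((Subgroup.eq_of_le_of_card_ge h1 (by rw [hm, mul_one])).ge ⟨1, one_mem _, 1, by simp⟩)).elim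
  obtain ⟨a, ha, j, rfl⟩ := (Subgroup.eq_of_le_of_card_ge h2 (by rw [hm, c.card, mul_comm])).ge hg
  refine ⟨a * (x ^ m) ^ (j / m), mul_mem ha (A.pow_mem c.zA _), j % m, Nat.mod_lt _ hp.pos, ?_⟩
  rw [mul_assoc, ← pow_mul, ← pow_add, Nat.div_add_mod]

omit [FaithfulSMul G Ω] [Finite Ω] in
/-- `P` preserves `Δ` and its complement; elements of `P ∖ A` move every point of `Δ`; `p`-th powers of
elements of `P` fix the points off `Δ` (`nrm_of_card` for `P ⊓ G_ω`). -/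
theorem Pc.dl (hp : p.Prime) (c : Pc p P A x δ) : (∀ g ∈ P, ∀ ω : Ω, g • ω ∈ Dl x δ ↔ ω ∈ Dl x δ) ∧
    (∀ g ∈ P, g ∉ A → ∀ ω ∈ Dl x δ, g • ω ≠ ω) ∧ (∀ g ∈ P, ∀ ω : Ω, ω ∉ Dl x δ → g ^ p • ω = ω) ∧
    (∀ ω ∈ Dl x δ, Nat.card A = p * Nat.card ↥(A ⊓ stabilizer G ω)) := by
  have := Fact.mk hp
  obtain ⟨n, g1, g2⟩ := c.gen hp
  obtain ⟨S, hS⟩ := c.syl
  have pP : IsPGroup p P := hS ▸ S.isPGroup'
  have act : ∀ g ∈ P, ∀ i : ℕ, ∃ j < p, (j = 0 → g ∈ A) ∧ ∃ s, g • x ^ i • δ = x ^ (j + i + p * s) • δ := fun g hg i => by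
    obtain ⟨a, ha, j, hj, rfl⟩ := g1 g hg
    obtain ⟨s, hs⟩ := c.blk a ha (j + i)
    exact ⟨j, hj, fun e => by simpa [e] using ha, s, by rw [mul_smul, smul_smul (x ^ j), ← pow_add, hs]⟩
  have inv : ∀ g ∈ P, ∀ ω ∈ Dl x δ, g • ω ∈ Dl x δ := by
    rintro g hg _ ⟨i, rfl⟩
    obtain ⟨j, -, -, s, e⟩ := act g hg i
    exact ⟨_, e.symm⟩
  refine ⟨fun g hg ω => ⟨fun h => by simpa using inv _ (inv_mem hg) _ h, inv g hg ω⟩, ?_, fun g hg ω hω =>
    ((nrm_of_card hp pP inf_le_left (c.sm ω hω)).2 g hg).2, ?_⟩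
  · rintro g hg gA _ ⟨i, rfl⟩ e
    obtain ⟨j, hj, j0, s, e'⟩ := act g hg i
    have := ((c.inj _ _).1 (e'.symm.trans e)).of_dvd (dvd_pow_self p two_ne_zero)
    have k : j + i ≡ 0 + i [MOD p] := by
      rw [zero_add]
      exact (show j + i ≡ j + i + p * s [MOD p] by simp [Nat.ModEq]).trans this
    exact gA (j0 (Nat.ModEq.eq_of_lt_of_lt (Nat.ModEq.add_right_cancel' i k) hj hp.pos))
  · rintro _ ⟨i, rfl⟩
    have e : Set.range (fun a : A => (a : G) • x ^ i • δ) =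
        (fun s : ℕ => x ^ (i + p * s) • δ) '' (Finset.range p : Set ℕ) := Set.ext fun ω => ⟨by
      rintro ⟨a, rfl⟩
      obtain ⟨s, hs⟩ := c.blk a a.2 i
      refine ⟨s % p, by simpa using Nat.mod_lt _ hp.pos, Eq.trans ((c.inj _ _).2 ?_) hs.symm⟩
      rw [pow_two]
      exact ((Nat.mod_modEq s p).mul_left' p).add_left i, by
      rintro ⟨s, -, rfl⟩
      exact ⟨⟨_, A.pow_mem c.zA s⟩, by simp only [smul_smul, ← pow_mul, ← pow_add, add_comm]⟩⟩
    have o : (orbit A (x ^ i • δ)).ncard = p := by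
      rw [show orbit A (x ^ i • δ) = _ from e, Set.InjOn.ncard_image fun s hs t ht k => ?_, Set.ncard_coe_finset,
        Finset.card_range]
      have := Nat.ModEq.add_left_cancel' i ((c.inj _ _).1 k)
      rw [pow_two] at this
      exact (Nat.ModEq.mul_left_cancel' hp.ne_zero this).eq_of_lt_of_lt (by simpa using hs) (by simpa using ht)
    rw [← index_stabilizer] at o
    rw [← (stabilizer A (x ^ i • δ)).card_mul_index, o, mul_comm, inf_comm, ← Subgroup.subgroupOf_map_subtype,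
      Subgroup.card_subtype]
    rfl

omit [Finite Ω] in
/-- an element of `A` commuting with `x` and trivial off `Δ` is a power of `z = x ^ p`; `x` has order `p²`.
PROOF. `a • δ = z ^ s • δ` (`blk`, `i = 0`); `a⁻¹ z ^ s` commutes with `x`, fixes `δ`, hence `Δ`. -/
theorem Pc.cen (hp : p.Prime) (c : Pc p P A x δ) : orderOf x = p ^ 2 ∧
    ∀ a ∈ A, a * x = x * a → (∀ ω : Ω, ω ∉ Dl x δ → a • ω = ω) → ∃ s : ℕ, a = x ^ (p * s) := by
  have fx : ∀ w : G, w * x = x * w → w • δ = δ → (∀ ω : Ω, ω ∉ Dl x δ → w • ω = ω) → w = 1 := fun w cw e o =>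
    eq_of_smul_eq_smul (α := Ω) fun ω => by
      rw [one_smul]
      refine (em _).elim ?_ (o ω)
      rintro ⟨i, rfl⟩
      rw [smul_smul, (Commute.pow_right cw i).eq, mul_smul, e]
  have z : ∀ s : ℕ, ∀ ω : Ω, ω ∉ Dl x δ → x ^ (p * s) • ω = ω := fun s ω hω => by
    rw [pow_mul]
    exact (stabilizer G ω).pow_mem ((c.dl hp).2.2.1 x c.xP ω hω) s
  refine ⟨Nat.dvd_antisymm (orderOf_dvd_of_pow_eq_one (fx _ (Commute.self_pow x _).symm ?_ (pow_two p ▸ z p))) ?_,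
    fun a ha cm o => ?_⟩
  · simpa using (c.inj (p ^ 2) 0).2 (by simp [Nat.ModEq])
  · exact (Nat.modEq_zero_iff_dvd).1 ((c.inj _ 0).1 (by rw [pow_orderOf_eq_one, pow_zero]))
  · obtain ⟨s, hs⟩ := c.blk a ha 0
    rw [pow_zero, one_smul, zero_add] at hs
    refine ⟨s, inv_mul_eq_one.1 (fx _ ((Commute.inv_left cm).mul_left (Commute.self_pow x _).symm)
      (by rw [mul_smul, ← hs, inv_smul_smul]) fun ω hω => by rw [mul_smul, z s ω hω, inv_smul_eq_iff, o ω hω])⟩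

omit [FaithfulSMul G Ω] [Finite Ω] [Finite G] in
/-- `Fix(A) = F`, so `N(A)` preserves `Δ`. PROOF. `z = x ^ p ∈ A` moves each `x ^ i • δ` (`inj`). -/
theorem Bc.fix (hp : p.Prime) (c : Bc p P A x δ) : (∀ ω : Ω, ω ∉ Dl x δ ↔ x ^ p • ω = ω) ∧
    ∀ n ∈ Subgroup.normalizer (A : Set G), ∀ ω : Ω, n • ω ∈ Dl x δ ↔ ω ∈ Dl x δ := by
  have k : ∀ ω : Ω, x ^ p • ω = ω → ω ∉ Dl x δ := by
    rintro _ e ⟨i, rfl⟩
    rw [smul_smul, ← pow_add, c.inj] at e
    have := Nat.le_of_dvd hp.pos ((Nat.modEq_zero_iff_dvd).1 (Nat.ModEq.add_right_cancel' i (by rwa [zero_add])))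
    nlinarith [hp.two_le]
  have m : ∀ n ∈ Subgroup.normalizer (A : Set G), ∀ ω : Ω, n • ω ∉ Dl x δ → ω ∉ Dl x δ := fun n hn ω h => k ω (by
    have := c.out _ h _ ((Subgroup.mem_normalizer_iff.1 hn _).1 c.zA)
    rwa [mul_smul, inv_smul_smul, mul_smul, smul_left_cancel_iff] at this)
  exact ⟨fun ω => ⟨fun h => c.out ω h _ c.zA, k ω⟩, fun n hn ω => not_iff_not.1
    ⟨m n hn ω, fun h => m _ (inv_mem hn) _ (by rwa [inv_smul_smul])⟩⟩

omit [FaithfulSMul G Ω] in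
/-- Witt's lemma for pairs of points of `F` (take `ω₁ = ω₂` for one point). PROOF. `A` and `conj g • A` lie in
`H = G_{gω₁} ⊓ G_{gω₂}`; `A.relIndex H ∣ A.relIndex G_{gω₁}` is prime to `p` (`St.syl`); `witt`. -/
theorem Bc.wit (h : St G Ω p q) (c : Bc p P A x δ) (g : G) {ω₁ ω₂ : Ω} (h₁ : ω₁ ∉ Dl x δ)
    (h₂ : ω₂ ∉ Dl x δ) (h₃ : g • ω₁ ∉ Dl x δ) (h₄ : g • ω₂ ∉ Dl x δ) :
    ∃ n ∈ Subgroup.normalizer (A : Set G), n • ω₁ = g • ω₁ ∧ n • ω₂ = g • ω₂ := by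
  have := Fact.mk h.hp
  have pA : IsPGroup p A := fun a => ⟨1, Subtype.ext (by simpa using c.ex a a.2)⟩
  have l : ∀ {ω : Ω}, ω ∉ Dl x δ → A ≤ stabilizer G ω := fun hω a ha => c.out _ hω a ha
  have l' : ∀ {ω : Ω}, ω ∉ Dl x δ → MulAut.conj g • A ≤ stabilizer G (g • ω) := fun hω => by
    rintro _ ⟨a, ha, rfl⟩
    change (g * a * g⁻¹) • g • _ = _
    rw [mul_smul, inv_smul_smul, mul_smul, c.out _ hω a ha]
  obtain ⟨k, hk, e⟩ := witt (H := stabilizer G (g • ω₁) ⊓ stabilizer G (g • ω₂)) (T := MulAut.conj g • A) pA (pA.map _)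
    (le_inf (l h₃) (l h₄)) (le_inf (l' h₁) (l' h₂)) (fun d => (h.syl c.syl pA (l h₃)).2 c.card (d.trans
      ⟨_, (Subgroup.relIndex_mul_relIndex _ _ _ (le_inf (l h₃) (l h₄)) inf_le_left).symm⟩))
    (Subgroup.card_map_of_injective (MulAut.conj g).injective)
  refine ⟨k * g, ?_, by rw [mul_smul]; exact hk.1, by rw [mul_smul]; exact hk.2⟩
  rw [← mul_smul, ← map_mul] at e
  refine Subgroup.mem_normalizer_fintype fun a ha => ?_
  rw [← e]
  exact ⟨a, ha, rfl⟩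

omit [Finite Ω] in
/-- no element of `A` is a `p`-cycle. PROOF. Suppose `a` moves `β = x ^ i • δ` but fixes every point of `Δ`
off the `z`-cycle of `β`. `a • β = z ^ s • β`, `p ∤ s`; take `j` with `s j + 1 ≡ 0 [MOD p]`, `b = a ^ j`, so
`b • z • β = β`. For `0 < k < p`, `(b x) ^ k • β = x ^ k • β`, so `(b x) ^ p • β = b • z • β = β`.
`w = (b x) ^ p ∈ A` commutes with `b x` and `A`, so with `x`, fixes `β`, so `Δ`, and `F`: `w = 1`; then `om`
gives `b x ∈ A`, contradiction. -/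
theorem Bc.nocyc (hp : p.Prime) (c : Bc p P A x δ) {a : G} (ha : a ∈ A) (i : ℕ)
    (hm : a • x ^ i • δ ≠ x ^ i • δ) :
    ∃ j : ℕ, ¬ i ≡ j [MOD p] ∧ a • x ^ j • δ ≠ x ^ j • δ := by
  by_contra hn
  push Not at hn
  obtain ⟨n, -, g2⟩ := c.toPc.gen hp
  obtain ⟨s, hs⟩ := c.blk a ha i
  have zc : ∀ b ∈ A, ∀ t : ℕ, b * x ^ (p * t) = x ^ (p * t) * b := fun b hb t =>
    c.cm b hb _ ((g2 _).2 (dvd_mul_right p t))
  have ps : ¬ p ∣ s := by
    rintro ⟨t, rfl⟩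
    exact hm (hs.trans ((c.inj _ _).2 (by rw [← mul_assoc, ← pow_two]; simp [Nat.ModEq])))
  obtain ⟨m, -, hm'⟩ := Nat.exists_mul_mod_eq_one_of_coprime ((Nat.Prime.coprime_iff_not_dvd hp).2 ps).symm hp.one_lt
  have aj : ∀ j : ℕ, a ^ j • x ^ i • δ = x ^ (i + p * (s * j)) • δ := fun j => by
    induction j with
    | zero => simp
    | succ j ih =>
      rw [pow_succ', mul_smul, ih, add_comm i, pow_add, mul_smul, smul_smul a, zc a ha, mul_smul, hs, smul_smul,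
        ← pow_add]
      congr 2; ring
  have hb := A.pow_mem ha (m * (p - 1))
  have b1 : a ^ (m * (p - 1)) • x ^ (p + i) • δ = x ^ i • δ := by
    have z := zc _ hb 1
    rw [mul_one] at z
    rw [pow_add, mul_smul, smul_smul (a ^ _), z, mul_smul, aj, smul_smul, ← pow_add, c.inj]
    obtain ⟨q, rfl⟩ := Nat.exists_eq_add_of_le' hp.one_le
    have e := Nat.div_add_mod (s * m) (q + 1)
    rw [hm'] at e
    rw [Nat.add_sub_cancel, ← mul_assoc s, ← e,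
      show q + 1 + (i + (q + 1) * (((q + 1) * (s * m / (q + 1)) + 1) * q)) =
        i + (q + 1) ^ 2 * (s * m / (q + 1) * q + 1) by ring]
    simp [Nat.ModEq]
  have b2 : ∀ j : ℕ, ¬ i ≡ j [MOD p] → a ^ (m * (p - 1)) • x ^ j • δ = x ^ j • δ := fun j hj =>
    (stabilizer G _).pow_mem (hn j hj) _
  generalize a ^ (m * (p - 1)) = b at hb b1 b2
  have k : ∀ k < p, (b * x) ^ k • x ^ i • δ = x ^ (k + i) • δ := fun k hk => by
    induction k with
    | zero => simp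
    | succ k ih =>
      rw [pow_succ', mul_smul, ih (by omega), mul_smul, smul_smul x, ← pow_succ', show k + i + 1 = k + 1 + i by ring]
      refine b2 _ fun e => ?_
      have := Nat.ModEq.eq_of_lt_of_lt (Nat.ModEq.add_right_cancel' i (show 0 + i ≡ _ [MOD p] by rwa [zero_add])) hp.pos hk
      omega
  have bx : b * x ∈ P := mul_mem (c.le hb) c.xP
  obtain ⟨S, hS⟩ := c.syl
  have wA : (b * x) ^ p ∈ A := (nrm_of_card hp (hS ▸ S.isPGroup') c.le c.card).2 _ bx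
  have w1 : (b * x) ^ p • x ^ i • δ = x ^ i • δ := by
    obtain ⟨q, rfl⟩ := Nat.exists_eq_add_of_le' hp.one_le
    rw [pow_succ', mul_smul, k q (by omega), mul_smul, smul_smul x, ← pow_succ', show q + i + 1 = q + 1 + i by ring, b1]
  have cw : Commute ((b * x) ^ p) x := by
    have := (Commute.inv_right (c.cm _ wA b hb)).mul_right (Commute.self_pow (b * x) p).symm
    rwa [inv_mul_cancel_left] at this
  have w0 : (b * x) ^ p • δ = δ := by
    rwa [smul_smul, (cw.pow_right i).eq, mul_smul, smul_left_cancel_iff] at w1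
  refine c.xA ((A.mul_mem_cancel_left hb).1 (c.om _ bx (eq_of_smul_eq_smul (α := Ω) fun ω => ?_)))
  rw [one_smul]
  refine (em _).elim ?_ fun h => c.out ω h _ wA
  rintro ⟨j, rfl⟩
  rw [smul_smul, (cw.pow_right j).eq, mul_smul, w0]

end CL.Pq
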