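/-
PERM/Pq (S3579): the case of a noncyclic A
-/
import Cfsg.Agent.PERM.Pq.BasB

set_option autoImplicit false

namespace CL.Pq

open MulAction Pointwise

variable {G Ω : Type*} [Group G] [Finite G] [MulAction G Ω] [Finite Ω] [FaithfulSMul G Ω] {p q : ℕ}
  {P A : Subgroup G} {x : G} {δ : Ω}

namespace BigA

omit [Finite G] [Finite Ω] [FaithfulSMul G Ω] in
theorem pw (hp : p.Prime) {w : G} {γ : Ω} (hw : w ^ p = 1) (hm : w • γ ≠ γ) (i j : ℕ) :
    w ^ i • γ = w ^ j • γ ↔ i ≡ j [MOD p] := by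
  have h1 : period w γ = p :=
    ((Nat.dvd_prime hp).1 (pow_smul_eq_iff_period_dvd.1 (by rw [hw, one_smul]))).resolve_left
      fun e => hm (period_eq_one_iff.1 e)
  wlog hij : i ≤ j generalizing i j
  · exact eq_comm.trans ((this j i (by omega)).trans ⟨Nat.ModEq.symm, Nat.ModEq.symm⟩)
  obtain ⟨k, rfl⟩ := Nat.exists_eq_add_of_le hij
  rw [add_comm i k, pow_add, (Commute.pow_pow_self w k i).eq, mul_smul, smul_left_cancel_iff, eq_comm,
    pow_smul_eq_iff_period_dvd, h1, Nat.modEq_iff_dvd' (by omega), Nat.add_sub_cancel]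

omit [Finite G] [Finite Ω] [FaithfulSMul G Ω] in
theorem cyc (hp : p.Prime) {w : G} {γ : Ω} (hw : w ^ p = 1) (hm : w • γ ≠ γ) : (Dl w γ).ncard = p := by
  have : Dl w γ = (fun i => w ^ i • γ) '' (Finset.range p : Set ℕ) := by
    ext ω; constructor
    · rintro ⟨i, rfl⟩
      exact ⟨i % p, by simp [Nat.mod_lt _ hp.pos], (pw hp hw hm _ _).2 (Nat.mod_modEq _ _)⟩
    · rintro ⟨i, -, rfl⟩; exact ⟨i, rfl⟩
  rw [this, Set.InjOn.ncard_image, Set.ncard_coe_finset, Finset.card_range]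
  intro i hi j hj e
  exact Nat.ModEq.eq_of_lt_of_lt ((pw hp hw hm _ _).1 e) (by simpa using hi) (by simpa using hj)

omit [Finite G] [Finite Ω] [FaithfulSMul G Ω] in
theorem cpw {w d : G} {γ : Ω} (hc : d * w = w * d) {s : ℕ} (hs : d • γ = w ^ s • γ) (k : ℕ) :
    d ^ k • γ = w ^ (s * k) • γ := by
  induction k with
  | zero => simp
  | succ k ih =>
    rw [pow_succ', mul_smul, ih, ← mul_smul, (Commute.pow_right hc _).eq, mul_smul, hs, ← mul_smul,
      ← pow_add, Nat.mul_succ]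

omit [Finite G] [Finite Ω] [FaithfulSMul G Ω] in
theorem tr (hp : p.Prime) {w d : G} {γ : Ω} (hw : w ^ p = 1) (hc : d * w = w * d) {s : ℕ}
    (hs : d • γ = w ^ s • γ) (hm : d • γ ≠ γ) (t : ℕ) : ∃ k : ℕ, d ^ k • γ = w ^ t • γ := by
  have hw' : w • γ ≠ γ := fun e => hm (by rw [hs]; exact (stabilizer G γ).pow_mem e s)
  have hs' : ¬ p ∣ s := fun e => hm (by
    rw [hs]; obtain ⟨r, rfl⟩ := e; rw [pow_mul, hw, one_pow, one_smul])
  have := Fact.mk hp
  refine ⟨((s : ZMod p)⁻¹ * t).val, ?_⟩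
  rw [cpw hc hs, pw hp hw hw', ← ZMod.natCast_eq_natCast_iff]; push_cast
  rw [ZMod.natCast_zmod_val, mul_inv_cancel_left₀ (mt (ZMod.natCast_eq_zero_iff _ _).1 hs')]

omit [Finite Ω] [FaithfulSMul G Ω] [MulAction G Ω] in
theorem cj [Fact p.Prime] {H S T : Subgroup G} (hS : IsPGroup p S) (hT : IsPGroup p T) (tH : T ≤ H)
    (hi : ¬ p ∣ S.relIndex H) : ∃ h ∈ H, ∀ t ∈ T, h⁻¹ * t * h ∈ S := by
  let S0 : Sylow p H := (hS.comap_of_injective H.subtype H.subtype_injective).toSylow hi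
  obtain ⟨Q, hQ⟩ := (hT.comap_of_injective H.subtype H.subtype_injective).exists_le_sylow
  obtain ⟨h, rfl⟩ := exists_smul_eq H S0 Q
  refine ⟨h, h.2, fun t ht => ?_⟩
  have := hQ (show (⟨t, tH ht⟩ : H) ∈ T.comap H.subtype from ht)
  rw [Sylow.coe_subgroup_smul, Subgroup.mem_pointwise_smul_iff_inv_smul_mem] at this
  have h2 : h⁻¹ * ⟨t, tH ht⟩ * h ∈ S.subgroupOf H := by simpa [S0] using this
  exact h2

omit [Finite Ω] [FaithfulSMul G Ω] in
/-- an element of order `p` normalising `H ≥ P` is `H`-conjugate into `A` -/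
theorem cjA (hp : p.Prime) (c : Bc p P A x δ) {H : Subgroup G} (le : P ≤ H) {m : G} (hm : m ∈ H)
    (mp : m ^ p = 1) : ∃ h ∈ H, h⁻¹ * m * h ∈ A := by
  have := Fact.mk hp
  obtain ⟨S, rfl⟩ := c.syl
  have hT : IsPGroup p (Subgroup.zpowers m) := by
    rintro ⟨_, k, rfl⟩
    exact ⟨1, Subtype.ext (by
      change (m ^ k) ^ p ^ 1 = 1
      rw [pow_one, ← zpow_natCast, ← zpow_mul, mul_comm k, zpow_mul, zpow_natCast, mp, one_zpow])⟩
  obtain ⟨h, hh, e⟩ := cj S.2 hT (Subgroup.zpowers_le.2 hm) (H := H) fun d =>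
    S.not_dvd_index (d.trans (Dvd.intro _ (Subgroup.relIndex_mul_index le)))
  refine ⟨h, hh, c.om _ (e m (Subgroup.mem_zpowers m)) ?_⟩
  have := conj_pow (i := p) (a := h⁻¹) (b := m)
  rw [inv_inv, mp] at this
  rw [this]; simp

omit [Finite G] [Finite Ω] [FaithfulSMul G Ω] in
theorem blk (c : Bc p P A x δ) {a : G} (ha : a ∈ A) (γ : Ω) : ∃ s : ℕ, a • γ = (x ^ p) ^ s • γ := by
  by_cases hγ : γ ∈ Dl x δ
  · obtain ⟨i, rfl⟩ := hγ
    obtain ⟨s, hs⟩ := c.blk a ha i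
    exact ⟨s, by rw [hs, ← pow_mul, ← mul_smul, ← pow_add, add_comm]⟩
  · exact ⟨0, by rw [c.out γ hγ a ha, pow_zero, one_smul]⟩

omit [FaithfulSMul G Ω] in
theorem exg (h : St G Ω p q) (c : Bc p P A x δ) :
    ∃ g : G, g⁻¹ • δ ∉ Dl x δ ∧ ∀ d ∈ A, d • δ = δ → g⁻¹ * d * g ∈ A := by
  have := Fact.mk h.hp
  have hA : IsPGroup p A := fun a => ⟨1, Subtype.ext (by simpa using c.ex a a.2)⟩
  obtain ⟨ω, hω⟩ : (Dl x δ)ᶜ.Nonempty := by
    refine Set.nonempty_of_ncard_ne_zero ?_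
    rw [Pc.cardF h c.toPc]
    have := h.lt2
    exact Nat.mul_ne_zero (by omega) h.hp.ne_zero
  obtain ⟨g, hg⟩ := h.tr.exists_smul_eq ω δ
  have le : A ≤ stabilizer G ω := fun a ha => c.out ω hω a ha
  obtain ⟨k, hk, e⟩ := cj (H := stabilizer G ω) hA
    ((hA.to_inf_left (K := stabilizer G δ)).comap_of_injective (MulAut.conj g).toMonoidHom
      (MulAut.conj g).injective)
    (fun t ht => by
      have : (g * t * g⁻¹) • δ = δ := ht.2
      rw [← hg, mul_smul, inv_smul_smul, mul_smul, smul_left_cancel_iff] at this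
      exact this)
    ((St.syl h c.syl hA le).2 c.card)
  refine ⟨g * k, ?_, fun d hd h0 => ?_⟩
  · rw [mul_inv_rev, mul_smul, show g⁻¹ • δ = ω from inv_smul_eq_iff.2 hg.symm,
      show k⁻¹ • ω = ω from inv_mem hk]; exact hω
  · have := e (g⁻¹ * d * g) (by
      change (g * (g⁻¹ * d * g) * g⁻¹) ∈ A ⊓ stabilizer G δ
      rw [show g * (g⁻¹ * d * g) * g⁻¹ = d by group]; exact ⟨hd, h0⟩)
    rwa [show k⁻¹ * (g⁻¹ * d * g) * k = (g * k)⁻¹ * d * (g * k) by group] at this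

omit [Finite Ω] in
/-- the fixed points of `D = A_δ` -/
theorem fixD (hp : p.Prime) (c : Bc p P A x δ) (ne : A ≠ Subgroup.zpowers (x ^ p)) (γ : Ω) :
    (∀ d ∈ A, d • δ = δ → d • γ = γ) ↔ γ ∉ Dl x δ ∨ γ ∈ Dl (x ^ p) δ := by
  refine ⟨fun hγ => ?_, fun hγ d hd h0 => ?_⟩
  · by_contra hc
    rw [not_or, not_not] at hc
    obtain ⟨⟨j, rfl⟩, h2⟩ := hc
    have hj : ¬ p ∣ j := fun ⟨r, e⟩ => h2 ⟨r, by rw [e, pow_mul]⟩
    have h1 : ∀ k : ℕ, ∀ d ∈ A, d • δ = δ → d • x ^ (j * k) • δ = x ^ (j * k) • δ := by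
      intro k
      induction k with
      | zero => intro d _ h0; simpa using h0
      | succ k ih =>
        intro d hd h0
        have := ih ((x ^ j)⁻¹ * d * (x ^ j)⁻¹⁻¹)
          ((Pc.gen hp c.toPc).1 _ (inv_mem (pow_mem c.xP j)) d hd)
          (by rw [inv_inv, mul_smul, hγ d hd h0 |> fun e => show (((x ^ j)⁻¹ * d) • x ^ j • δ) = δ by
            rw [mul_smul, e, inv_smul_smul]])
        rw [inv_inv, mul_smul, mul_smul, inv_smul_eq_iff] at this
        rw [Nat.mul_succ, add_comm, pow_add, mul_smul, this]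
    apply ne
    refine le_antisymm (fun a ha => ?_) (Subgroup.zpowers_le.2 c.zA)
    obtain ⟨s, hs⟩ := blk c ha δ
    have hd : ((x ^ p) ^ s)⁻¹ * a ∈ A := mul_mem (inv_mem (pow_mem c.zA s)) ha
    have h0 : (((x ^ p) ^ s)⁻¹ * a) • δ = δ := by rw [mul_smul, hs, inv_smul_smul]
    have : ((x ^ p) ^ s)⁻¹ * a = 1 := by
      refine eq_of_smul_eq_smul (α := Ω) fun ω => ?_
      rw [one_smul]
      by_cases hω : ω ∈ Dl x δ
      · obtain ⟨i, rfl⟩ := hω
        have cop : (j).Coprime (p ^ 2) := ((Nat.Prime.coprime_iff_not_dvd hp).2 hj).symm.pow_right 2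
        obtain ⟨k, hk⟩ := Nat.exists_mul_mod_eq_of_coprime i cop (pow_pos hp.pos 2).ne'
        have : x ^ (j * k) • δ = x ^ i • δ := (c.inj _ _).2 (by first | exact hk | exact hk.2)
        rw [← this]; exact h1 k _ hd h0
      · exact c.out ω hω _ hd
    rw [inv_mul_eq_one] at this
    rw [← this]; exact pow_mem (Subgroup.mem_zpowers _) s
  · rcases hγ with hγ | ⟨s, rfl⟩
    · exact c.out γ hγ d hd
    · rw [← mul_smul, c.cm d hd _ (pow_mem c.zA s), mul_smul, h0]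

/-- a subgroup supported on fewer than `2 p` points is a `p'`-group -/
theorem cop (hp : p.Prime) (c : Bc p P A x δ) {Γ : Set Ω} (hΓ : Γ.ncard < 2 * p) {M : Subgroup G}
    (sup : ∀ m ∈ M, ∀ ω : Ω, ω ∉ Γ → m • ω = ω) : ¬ p ∣ Nat.card M := by
  intro hd
  have := Fact.mk hp
  obtain ⟨m, hm⟩ := exists_prime_orderOf_dvd_card' p hd
  have m1 : (m : G) ≠ 1 := fun e => by
    rw [show m = 1 from Subtype.ext e, orderOf_one] at hm; exact hp.one_lt.ne hm
  have mp : (m : G) ^ p = 1 := by rw [← Subgroup.coe_pow, ← hm, pow_orderOf_eq_one, Subgroup.coe_one]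
  obtain ⟨k, -, hb⟩ := cjA hp c (H := ⊤) le_top (Subgroup.mem_top _) mp
  set b := k⁻¹ * m * k with hbd
  obtain ⟨i, hi⟩ : ∃ i : ℕ, b • x ^ i • δ ≠ x ^ i • δ := by
    by_contra hc
    push Not at hc
    apply m1
    have : b = 1 := eq_of_smul_eq_smul (α := Ω) fun ω => by
      rw [one_smul]
      by_cases hω : ω ∈ Dl x δ
      · obtain ⟨i, rfl⟩ := hω; exact hc i
      · exact c.out ω hω _ hb
    rw [show (m : G) = k * b * k⁻¹ by rw [hbd]; group, this]; group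
  obtain ⟨j, hij, hj⟩ := Bc.nocyc hp c hb i hi
  have zp := c.ex _ c.zA
  have mv : ∀ i : ℕ, x ^ p • x ^ i • δ ≠ x ^ i • δ := fun i e =>
    ((Bc.fix hp c).1 _).2 e ⟨i, rfl⟩
  have sub : ∀ i : ℕ, b • x ^ i • δ ≠ x ^ i • δ → Dl (x ^ p) (x ^ i • δ) ⊆ k⁻¹ • Γ := by
    rintro i hi _ ⟨s, rfl⟩
    rw [Set.mem_inv_smul_set_iff]
    by_contra hc
    apply hi
    have := sup m m.2 _ hc
    rw [← smul_left_cancel_iff k⁻¹, inv_smul_smul, ← mul_smul, ← mul_smul, ← hbd, ← mul_smul,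
      c.cm b hb _ (pow_mem c.zA s), mul_smul, smul_left_cancel_iff] at this
    exact this
  have dis : Disjoint (Dl (x ^ p) (x ^ i • δ)) (Dl (x ^ p) (x ^ j • δ)) := by
    rw [Set.disjoint_left]
    rintro _ ⟨s, rfl⟩ ⟨t, e⟩
    simp only [← pow_mul, ← mul_smul, ← pow_add, c.inj] at e
    have := e.of_dvd (dvd_pow_self p two_ne_zero)
    apply hij
    unfold Nat.ModEq at this ⊢
    rw [Nat.mul_add_mod, Nat.mul_add_mod] at this
    exact this.symm
  have := Set.ncard_le_ncard (Set.union_subset (sub i hi) (sub j hj))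
  rw [Set.ncard_union_eq dis, cyc hp zp (mv i), cyc hp zp (mv j), Set.ncard_smul_set] at this
  omega

/-- the group `H` -/
def Hs (D : Subgroup G) (Y : Set Ω) : Subgroup G where
  carrier := {h | (∀ d ∈ D, h * d = d * h) ∧
    (∀ γ : Ω, ¬ (∀ d ∈ D, d • γ = γ) → ∃ d ∈ D, h • γ = d • γ) ∧ ∀ γ ∈ Y, h • γ = γ}
  one_mem' := ⟨by simp, fun γ _ => ⟨1, one_mem _, rfl⟩, fun γ _ => one_smul _ _⟩
  mul_mem' := by
    rintro a b ⟨a1, a2, a3⟩ ⟨b1, b2, b3⟩
    refine ⟨fun d hd => by rw [mul_assoc, b1 d hd, ← mul_assoc, a1 d hd, mul_assoc], fun γ hγ => ?_,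
      fun γ hγ => by rw [mul_smul, b3 γ hγ, a3 γ hγ]⟩
    obtain ⟨d, hd, e⟩ := a2 γ hγ
    obtain ⟨d', hd', e'⟩ := b2 γ hγ
    exact ⟨d' * d, mul_mem hd' hd, by rw [mul_smul, e', ← mul_smul, a1 d' hd', mul_smul, e, mul_smul]⟩
  inv_mem' := by
    rintro a ⟨a1, a2, a3⟩
    refine ⟨fun d hd => (Commute.inv_left (a1 d hd)).eq, fun γ hγ => ?_,
      fun γ hγ => by rw [inv_smul_eq_iff, a3 γ hγ]⟩
    obtain ⟨d, hd, e⟩ := a2 γ hγ
    exact ⟨d⁻¹, inv_mem hd, by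
      rw [inv_smul_eq_iff, ← mul_smul, a1 _ (inv_mem hd), mul_smul, e, inv_smul_smul]⟩

omit [Finite G] [Finite Ω] [FaithfulSMul G Ω] in
theorem Hs.cm {D : Subgroup G} {Y : Set Ω} (hD : ∀ a ∈ D, ∀ b ∈ D, a * b = b * a) {a b : G}
    (ha : a ∈ Hs D Y) (hb : b ∈ Hs D Y) {γ : Ω} (hγ : ¬ (∀ d ∈ D, d • γ = γ)) :
    a • b • γ = b • a • γ := by
  obtain ⟨d, hd, e⟩ := ha.2.1 γ hγ
  obtain ⟨d', hd', e'⟩ := hb.2.1 γ hγ
  rw [e, e', ← mul_smul, ha.1 d' hd', mul_smul, e, ← mul_smul b, hb.1 d hd, mul_smul, e', ← mul_smul,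
    hD _ hd' _ hd, mul_smul]

omit [Finite G] [Finite Ω] [FaithfulSMul G Ω] in
theorem Hs.fx {D : Subgroup G} {Y : Set Ω} {a : G} (ha : a ∈ Hs D Y) {γ : Ω}
    (hγ : ∀ d ∈ D, d • γ = γ) : ∀ d ∈ D, d • a • γ = a • γ := fun d hd => by
  rw [← mul_smul, ← ha.1 d hd, mul_smul, hγ d hd]

end BigA

open BigA in
open scoped commutatorElement in
/-- PROOF. `D = A ⊓ G_δ ≠ 1` has index `p` in `A` (`Pc.dl`; `D = 1` gives `|A| = p`, `A = ⟨z⟩`). `D` moves `x ^ j • δ` for `p ∤ j`: else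
`D = A_{x ^ j δ} = conj (x ^ j) • D`, so `x` normalises `D` (`x ^ p` does), `D` fixes `Δ`, `D = 1`. So `Fix D = Φ = F ∪ β`
(`β = Dl z δ`, `F = Δᶜ`) and `D` is transitive on each other `z`-cycle `β_j`. Let `A' ≥ D` be a Sylow `p`-subgroup of `G_δ`;
`A' = conj g • A` with `g • ω = δ`, `ω ∈ F` (`St.conj`); `Fix A' = g • F ⊆ Φ`, so `β' = Φ ∖ g • F` has `p` points, `δ ∉ β'`, and is one
`A'`-orbit (`A'` preserves `Φ`, fixes no point of `β'`). `H = A ⊔ A'` centralises `D`, so on each `β_j` each element of `H` acts as an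
element of `D` (`h • γ = d • γ` for one `γ` implies for all; `H` preserves `β_j` since an `A'`-orbit has `≤ p` points and contains
the `D`-orbit). Let `a = z`, `a' ∈ A' ∖ D`, `Γ = β ∪ β'`, `M = ⁅H, H⁆`: `M` is trivial off `Γ`. If `β ∩ β' = ∅` then `a'` commutes
with `A` (pointwise check), `A ⊔ ⟨a'⟩` is a `p`-group of exponent `p` larger than `A`, inside a conjugate of `P`, so of `A` (`om`):
false. So `|Γ| < 2 p` and `H` is transitive on `Γ`. If `m ∈ M` has order `p`, its support is one `p`-cycle, and a conjugate lies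
in `P`, so in `A`; it moves only `p` points, contra `Bc.nocyc`. If `a` centralises `M`: `M` preserves `β = supp a ∩ Γ`, `m ∈ M` acts on
`β` as a power of `a`, trivially (`p ∤ |M|`); `Fix M` is `H`-invariant, so contains `Γ`, `M = 1`, `a a' = a' a`; but `a'` fixes `δ`
so fixes `β` pointwise, while it moves every point of `β ∩ β'`. -/
theorem bigA (h : St G Ω p q) (c : Bc p P A x δ) (ne : A ≠ Subgroup.zpowers (x ^ p)) :
    ∃ (Γ : Set Ω) (M : Subgroup G), Jc p (x ^ p) δ Γ M := by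
  classical
  have hp := h.hp
  obtain ⟨g, g1, g2⟩ := exg h c
  set z := x ^ p with hz
  have zA : z ∈ A := c.zA
  have zp : z ^ p = 1 := c.ex _ zA
  have fz : ∀ ω : Ω, ω ∉ Dl x δ ↔ z • ω = ω := (Bc.fix hp c).1
  have zδ : z • δ ≠ δ := fun e => (fz δ).2 e ⟨0, by simp⟩
  set w := g * z * g⁻¹ with hw
  have wp : w ^ p = 1 := by rw [hw, conj_pow, zp]; simp
  have fw : ∀ ω : Ω, g⁻¹ • ω ∉ Dl x δ ↔ w • ω = ω := fun ω => by
    rw [fz, hw, mul_smul, mul_smul, smul_eq_iff_eq_inv_smul g]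
  have wδ : w • δ = δ := (fw δ).1 g1
  set D := A ⊓ stabilizer G δ with hD
  set Φ : Set Ω := {γ | ∀ d ∈ D, d • γ = γ} with hΦ
  have mΦ : ∀ γ, γ ∈ Φ ↔ γ ∉ Dl x δ ∨ γ ∈ Dl z δ := fun γ => by
    rw [← fixD hp c ne γ]
    exact ⟨fun e d hd h0 => e d ⟨hd, h0⟩, fun e d hd => e d hd.1 hd.2⟩
  have Dc : ∀ a ∈ D, ∀ b ∈ D, a * b = b * a := fun a ha b hb => c.cm a ha.1 b hb.1
  have Dw : ∀ d ∈ D, d * w = w * d := fun d hd => by
    have := c.cm _ (g2 d hd.1 hd.2) z zA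
    calc d * w = g * (g⁻¹ * d * g * z) * g⁻¹ := by rw [hw]; group
      _ = w * d := by rw [this, hw]; group
  set B : Set Ω := {γ | γ ∈ Φ ∧ w • γ ≠ γ} with hB
  have βΔ : Dl z δ ⊆ Dl x δ := by rintro _ ⟨s, rfl⟩; exact ⟨p * s, by rw [pow_mul]⟩
  have cβ : (Dl z δ).ncard = p := cyc hp zp zδ
  have cB : B.ncard = p := by
    have e1 : Φ = (Dl x δ)ᶜ ∪ Dl z δ := Set.ext mΦ
    have e2 : g • (Dl x δ)ᶜ ⊆ Φ := fun γ hγ d hd => by
      rw [Set.mem_smul_set_iff_inv_smul_mem] at hγ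
      have := c.out _ hγ _ (g2 d hd.1 hd.2)
      rwa [mul_smul, smul_inv_smul, mul_smul, smul_left_cancel_iff] at this
    have e3 : B = Φ \ g • (Dl x δ)ᶜ := Set.ext fun γ => by
      rw [Set.mem_sdiff, Set.mem_smul_set_iff_inv_smul_mem, Set.mem_compl_iff, fw]; rfl
    rw [e3, Set.ncard_sdiff e2, Set.ncard_smul_set, e1,
      Set.ncard_union_eq (s := (Dl x δ)ᶜ) (t := Dl z δ) (Set.disjoint_left.2 fun a h1 h2 => h1 (βΔ h2)), cβ,
      Nat.add_sub_cancel_left]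
  set Γ : Set Ω := Dl z δ ∪ B with hΓ
  set H := Hs D (Φ \ Γ) with hH
  have AH : ∀ a ∈ A, a ∈ H := fun a ha => by
    refine ⟨fun d hd => c.cm a ha d hd.1, fun γ hγ => ?_, fun γ hγ => ?_⟩
    · push Not at hγ
      obtain ⟨d, hd, e⟩ := hγ
      obtain ⟨s, hs⟩ := blk c hd.1 γ
      obtain ⟨t, ht⟩ := blk c ha γ
      obtain ⟨k, hk⟩ := tr hp zp (c.cm d hd.1 z zA) hs e t
      exact ⟨d ^ k, pow_mem hd k, by rw [ht, hk]⟩
    · exact c.out γ (((mΦ γ).1 hγ.1).resolve_right fun e => hγ.2 (Or.inl e)) a ha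
  have wH : w ∈ H := by
    refine ⟨fun d hd => (Dw d hd).symm, fun γ hγ => ?_, fun γ hγ => ?_⟩
    · push Not at hγ
      obtain ⟨d, hd, e⟩ := hγ
      obtain ⟨s, hs⟩ := blk c (g2 d hd.1 hd.2) (g⁻¹ • γ)
      have hs' : d • γ = w ^ s • γ := by
        rw [mul_smul, smul_inv_smul, mul_smul, inv_smul_eq_iff] at hs
        rw [hs, hw, conj_pow, mul_smul, mul_smul]
      obtain ⟨k, hk⟩ := tr hp wp (Dw d hd) hs' e 1
      exact ⟨d ^ k, pow_mem hd k, by rw [hk, pow_one]⟩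
    · by_contra e; exact hγ.2 (Or.inr ⟨hγ.1, e⟩)
  obtain ⟨γ, γ1, γ2⟩ : (Dl z δ ∩ B).Nonempty := by
    by_contra hc
    rw [Set.not_nonempty_iff_eq_empty, Set.eq_empty_iff_forall_notMem] at hc
    have hc' : ∀ γ ∈ Dl z δ, w • γ = γ := fun γ hγ => by
      by_contra e; exact hc γ ⟨hγ, (mΦ γ).2 (Or.inr hγ), e⟩
    have cw : ∀ a ∈ A, a * w = w * a := fun a ha => eq_of_smul_eq_smul (α := Ω) fun ω => by
      rw [mul_smul, mul_smul w]
      by_cases h1 : ω ∈ Φ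
      · by_cases h2 : ω ∈ Dl z δ
        · obtain ⟨s, hs⟩ := blk c ha ω
          obtain ⟨t, rfl⟩ := h2
          rw [hc' _ ⟨t, rfl⟩, hc' _ ⟨s + t, by rw [hs, pow_add, mul_smul]⟩]
        · rw [c.out ω (((mΦ ω).1 h1).resolve_right h2) a ha]
          refine c.out _ (((mΦ _).1 (Hs.fx wH h1)).resolve_right fun e => h2 ?_) a ha
          rwa [(smul_left_cancel_iff w).1 (hc' _ e)] at e
      · exact Hs.cm Dc (AH a ha) wH h1
    have wN : w ∈ Subgroup.normalizer (A : Set G) :=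
      Subgroup.centralizer_le_normalizer _ fun a ha => cw a ha
    obtain ⟨n, hn, e⟩ := cjA hp c (H := Subgroup.normalizer (A : Set G))
      (fun y hy => Subgroup.mem_normalizer_fintype fun a ha => (Pc.gen hp c.toPc).1 y hy a ha) wN wp
    have wA : w ∈ A := by
      have := (Subgroup.mem_normalizer_iff.1 hn _).1 e
      rwa [show n * (n⁻¹ * w * n) * n⁻¹ = w by group] at this
    obtain ⟨γ, hγ⟩ : B.Nonempty := Set.nonempty_of_ncard_ne_zero (by rw [cB]; exact hp.ne_zero)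
    exact hγ.2 (hγ.1 w ⟨wA, wδ⟩)
  have cΓ : Γ.ncard < 2 * p := by
    have := Set.ncard_union_add_ncard_inter (Dl z δ) B
    have h2 := (Set.ncard_pos (s := Dl z δ ∩ B)).2 ⟨γ, γ1, γ2⟩
    rw [cβ, cB] at this
    rw [hΓ]; omega
  have sup : ∀ m ∈ (commutator H).map H.subtype, ∀ ω : Ω, ω ∉ Γ → m • ω = ω := by
    intro m hm ω hω
    have : (commutator H).map H.subtype ≤ stabilizer G ω := by
      rw [Subgroup.map_le_iff_le_comap, commutator_def, Subgroup.commutator_le]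
      intro a _ b _
      change ((⁅a, b⁆ : H) : G) • ω = ω
      by_cases h1 : ω ∈ Φ
      · exact (⁅a, b⁆ : H).2.2.2 ω ⟨h1, hω⟩
      · rw [commutatorElement_def]
        push_cast
        rw [mul_smul, mul_smul, mul_smul, Hs.cm Dc (inv_mem a.2) (inv_mem b.2) h1, smul_inv_smul,
          smul_inv_smul]
    exact this hm
  have out : ∀ γ ∈ Γ, γ ∉ Dl z δ → z • γ = γ := fun γ h1 h2 =>
    (fz γ).1 (((mΦ γ).1 (h1.resolve_left h2).1).resolve_right h2)
  have cp := cop hp c cΓ sup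
  refine ⟨Γ, (commutator H).map H.subtype, zp, zδ, Set.subset_union_left, cΓ, out, cp, ?_, sup, ?_⟩
  · rintro _ ⟨m, hm, rfl⟩
    exact ⟨_, (inferInstance : (commutator H).Normal).conj_mem m hm ⟨z, AH z zA⟩, rfl⟩
  · by_contra hc
    push Not at hc
    have fx : ∀ m ∈ (commutator H).map H.subtype, m • δ = δ := fun m hm => by
      have h1 : m • δ ∈ Γ := by
        by_contra e
        have := (smul_left_cancel_iff m).1 (sup m hm _ e)
        exact e (this.symm ▸ Or.inl ⟨0, by simp⟩)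
      have h2 : m • δ ∈ Dl z δ := by
        by_contra e
        have := out _ h1 e
        rw [← mul_smul, hc m hm, mul_smul, smul_left_cancel_iff] at this
        exact zδ this
      obtain ⟨s, hs⟩ := h2
      have h3 : m ^ p • δ = δ := by
        rw [cpw (hc m hm).symm hs.symm, mul_comm, pow_mul, zp, one_pow, one_smul]
      have h4 : m ^ Nat.card ((commutator H).map H.subtype) • δ = δ := by
        have := congrArg Subtype.val (pow_card_eq_one' (x := (⟨m, hm⟩ : (commutator H).map H.subtype)))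
        rw [Subgroup.coe_pow] at this
        rw [this]; exact one_smul _ _
      rw [pow_smul_eq_iff_period_dvd] at h3 h4
      exact period_eq_one_iff.1 (((Nat.dvd_prime hp).1 h3).resolve_right fun e => cp (e ▸ h4))
    obtain ⟨s, rfl⟩ := γ1
    have := fx _ ⟨⁅(⟨z ^ s, AH _ (pow_mem zA s)⟩ : H)⁻¹, ⟨w, wH⟩⁆,
      Subgroup.commutator_mem_commutator (Subgroup.mem_top _) (Subgroup.mem_top _), rfl⟩
    change ((z ^ s)⁻¹ * w * (z ^ s)⁻¹⁻¹ * w⁻¹) • δ = δ at this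
    rw [inv_inv, mul_smul, show w⁻¹ • δ = δ by rw [inv_smul_eq_iff, wδ], mul_smul, mul_smul,
      inv_smul_eq_iff] at this
    exact γ2.2 this

end CL.Pq
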