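/-
PERM/Pq (S3579): a p-cycle acting coprimely
-/
import Cfsg.Agent.PERM.Pq.Defs

set_option autoImplicit false

namespace CL.Pq

open MulAction Pointwise

variable {G Ω : Type*} [Group G] [Finite G] [MulAction G Ω] [Finite Ω] [FaithfulSMul G Ω] {p q : ℕ}
  {P A : Subgroup G} {x : G} {δ : Ω}

namespace BigB

theorem fx {X : Type*} [Finite X] (hp : p.Prime) (f : X → X) (hf : ∀ x, f^[p] x = x)
    (hX : ¬ p ∣ Nat.card X) : ∃ x, f x = x := by
  classical
  have := Fintype.ofFinite X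
  have := Fact.mk hp
  by_contra! n
  have h := Equiv.Perm.card_fixedPoints_modEq (f := f) (p := p) (n := 1)
    (funext fun x => by rw [pow_one]; exact hf x)
  rw [Fintype.card_eq_zero_iff.2 ⟨fun x : Function.fixedPoints f => n x x.2⟩,
    ← Nat.card_eq_fintype_card] at h
  exact hX (Nat.modEq_zero_iff_dvd.1 h)

/-- an invariant subgroup of prime power order which is not centralised -/
theorem syl (hp : p.Prime) {a : G} {M : Subgroup G} (ex : a ^ p = 1) (cop : ¬ p ∣ Nat.card M)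
    (nrm : ∀ m ∈ M, a * m * a⁻¹ ∈ M) (nc : ∃ m ∈ M, a * m ≠ m * a) :
    ∃ (s : ℕ) (S : Subgroup G), s.Prime ∧ IsPGroup s S ∧ S ≤ M ∧ (∀ m ∈ S, a * m * a⁻¹ ∈ S) ∧
      ∃ m ∈ S, a * m ≠ m * a := by
  obtain ⟨s, hs, hd⟩ := Nat.exists_prime_and_dvd
    (n := ((Subgroup.centralizer {a}).subgroupOf M).index) fun h => by
      obtain ⟨m, hm, ne⟩ := nc
      exact ne (Subgroup.subgroupOf_eq_top.1 (Subgroup.index_eq_one.1 h) hm a rfl)
  have := Fact.mk hs
  let n : Subgroup.normalizer (M : Set G) := ⟨a, Subgroup.mem_normalizer_fintype nrm⟩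
  obtain ⟨Q, hQ⟩ := fx hp (fun Q : Sylow s M => M.normalizerMonoidHom n • Q)
    (fun Q => by
      rw [smul_iterate_apply, ← map_pow, show n ^ p = 1 from Subtype.ext ex, map_one, one_smul])
    fun h => cop ((h.trans (Sylow.card_dvd_index default)).trans (Subgroup.index_dvd_card _))
  refine ⟨s, (Q : Subgroup M).map M.subtype, hs, Q.isPGroup'.map _, Subgroup.map_subtype_le _, ?_, ?_⟩
  · rintro _ ⟨m, hm, rfl⟩
    have : M.normalizerMonoidHom n • m ∈ (Q : Subgroup M) := by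
      rw [← hQ]; exact Subgroup.smul_mem_pointwise_smul _ _ _ hm
    exact ⟨_, this, rfl⟩
  · by_contra! c
    refine Q.not_dvd_index (hd.trans (Subgroup.index_dvd_of_le fun m hm => ?_))
    rintro _ rfl
    exact c m ⟨m, hm, rfl⟩

omit [Finite Ω] [FaithfulSMul G Ω] in
/-- the centraliser is transitive on the fixed points in an orbit -/
theorem tr (hp : p.Prime) {a : G} {S : Subgroup G} (ex : a ^ p = 1) (cop : ¬ p ∣ Nat.card S)
    (nrm : ∀ m ∈ S, a * m * a⁻¹ ∈ S) {θ : Ω} (h : a • θ = θ) {s : G} (hs : s ∈ S)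
    (h' : a • s • θ = s • θ) : ∃ c ∈ S, a * c = c * a ∧ c • θ = s • θ := by
  let f : {c : G // c ∈ S ∧ c • θ = s • θ} → {c : G // c ∈ S ∧ c • θ = s • θ} := fun c =>
    ⟨a * c * a⁻¹, nrm _ c.2.1, by rw [mul_smul, mul_smul, inv_smul_eq_iff.2 h.symm, c.2.2, h']⟩
  have sc : Function.Semiconj Subtype.val f (MulAut.conj a • ·) := fun _ => rfl
  let e : ↥(S ⊓ stabilizer G θ) ≃ {c : G // c ∈ S ∧ c • θ = s • θ} :=
    { toFun := fun u => ⟨s * u, S.mul_mem hs u.2.1, by rw [mul_smul, u.2.2]⟩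
      invFun := fun c => ⟨s⁻¹ * c, S.mul_mem (S.inv_mem hs) c.2.1, by
        change _ • _ = _
        rw [mul_smul, c.2.2, inv_smul_smul]⟩
      left_inv := fun u => Subtype.ext (inv_mul_cancel_left _ _)
      right_inv := fun u => Subtype.ext (mul_inv_cancel_left _ _) }
  obtain ⟨c, hc⟩ := fx hp f
    (fun c => Subtype.ext (by
      rw [sc.iterate_right p c, smul_iterate_apply, ← map_pow, ex, map_one, one_smul]))
    fun h => cop ((Nat.card_congr e ▸ h).trans (Subgroup.card_dvd_of_le inf_le_left))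
  exact ⟨c, c.2.1, mul_inv_eq_iff_eq_mul.1 (congrArg Subtype.val hc), c.2.2⟩

end BigB

theorem bigB (hp : p.Prime) {a : G} {β : Ω} {Γ : Set Ω} {M : Subgroup G} (j : Jc p a β Γ M) :
    ∃ s m : ℕ, s.Prime ∧ p + 1 = s ^ m := by
  have := Fact.mk hp
  obtain ⟨s, S, hs, pS, le, nrm, m, mS, nc⟩ := BigB.syl hp j.ex j.cop j.nrm j.nc
  have := Fact.mk hs
  have cop : ¬ p ∣ Nat.card S := fun h => j.cop (h.trans (Subgroup.card_dvd_of_le le))
  have nk : ∀ (k : ℕ), ∀ m ∈ S, a ^ k * m * (a ^ k)⁻¹ ∈ S := fun k => by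
    induction k with
    | zero => simp
    | succ k ih =>
      intro m hm
      have := nrm _ (ih m hm)
      rwa [pow_succ', mul_inv_rev, ← mul_assoc, mul_assoc a, mul_assoc a]
  have mΓ : ∀ g ∈ M, ∀ ω ∈ Γ, g • ω ∈ Γ := fun g hg ω hω => by
    by_contra n
    exact n (by rwa [smul_left_cancel g (j.sup g hg _ n)])
  have aD : ∀ ω ∈ Dl a β, a • ω ∈ Dl a β := by
    rintro _ ⟨i, rfl⟩
    exact ⟨i + 1, by rw [pow_succ', mul_smul]⟩
  have aΓ : ∀ ω, a • ω ∈ Γ → ω ∈ Γ := fun ω h => by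
    by_cases d : a • ω ∈ Dl a β
    · obtain ⟨i, hi⟩ := d
      refine j.sub ⟨p - 1 + i, ?_⟩
      rw [pow_add, mul_smul, hi, ← mul_smul, ← pow_succ, Nat.sub_add_cancel hp.one_le, j.ex, one_smul]
    · rwa [smul_left_cancel a (j.out _ h d)] at h
  -- `S` moves `β`
  obtain ⟨u, uS, hu⟩ : ∃ u ∈ S, u • β ≠ β := by
    by_contra! c
    have hD : ∀ ω ∈ Dl a β, m • ω = ω := by
      rintro _ ⟨i, rfl⟩
      have h := c _ (nk ((p - 1) * i) m mS)
      have e : a ^ ((p - 1) * i) = (a ^ i)⁻¹ := eq_inv_of_mul_eq_one_left (by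
        rw [← pow_add, ← Nat.succ_mul, Nat.succ_eq_add_one, Nat.sub_add_cancel hp.one_le, pow_mul,
          j.ex, one_pow])
      rwa [e, inv_inv, mul_smul, mul_smul, inv_smul_eq_iff] at h
    refine nc (eq_of_smul_eq_smul fun ω : Ω => ?_)
    rw [mul_smul, mul_smul]
    by_cases d : ω ∈ Dl a β
    · rw [hD _ d, hD _ (aD _ d)]
    · by_cases g : ω ∈ Γ
      · rw [j.out _ g d, j.out _ (mΓ m (le mS) _ g) fun h => d ?_]
        rwa [smul_left_cancel m (hD _ h)] at h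
      · rw [j.sup m (le mS) _ g, j.sup m (le mS) _ fun h => g (aΓ _ h)]
  have o : orderOf a = p := orderOf_eq_prime j.ex fun h => j.mv (by rw [h, one_smul])
  -- the cycle of `a` lies in the orbit of `S`
  have pw : ∀ i, a ^ i • β ∈ orbit S β → ∀ n, (a ^ i) ^ n • β ∈ orbit S β := fun i ⟨v, hv⟩ n => by
    induction n with
    | zero => exact ⟨1, by simp⟩
    | succ n ih =>
      obtain ⟨w, hw⟩ := ih
      refine ⟨⟨_, nk i w w.2⟩ * v, ?_⟩
      change (a ^ i * w * (a ^ i)⁻¹ * v) • β = _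
      rw [mul_smul, show (v : G) • β = _ from hv, mul_smul, inv_smul_smul, mul_smul,
        show (w : G) • β = _ from hw, pow_succ', mul_smul]
  have a1 : a ^ 1 • β ∈ orbit S β := by
    rw [pow_one]
    by_cases d : u • β ∈ Dl a β
    · obtain ⟨i, hi⟩ := d
      obtain ⟨n, hn⟩ := exists_pow_eq_self_of_coprime (x := a) (n := i) (by
        rw [o]
        refine (hp.coprime_iff_not_dvd.2 ?_).symm
        rintro ⟨k, rfl⟩
        exact hu (by rw [← hi, pow_mul, j.ex, one_pow, one_smul]))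
      exact hn ▸ pw i ⟨⟨u, uS⟩, hi.symm⟩ n
    · refine ⟨⟨_, nrm _ (S.inv_mem uS)⟩ * ⟨u, uS⟩, ?_⟩
      have h := j.out _ (mΓ u (le uS) _ (j.sub ⟨0, by simp⟩)) d
      change (a * u⁻¹ * a⁻¹ * u) • β = _
      rw [mul_smul, mul_smul, inv_smul_eq_iff.2 h.symm, mul_smul, inv_smul_smul]
  have DΘ : Dl a β ⊆ orbit S β := by
    rintro _ ⟨i, rfl⟩
    simpa using pw 1 a1 i
  have cD : (Dl a β).ncard = p := by
    have := Fintype.ofFinite (orbit (Subgroup.zpowers a) β)
    rw [show Dl a β = orbit (Subgroup.zpowers a) β from Set.ext fun ω =>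
        ⟨fun ⟨i, hi⟩ => ⟨⟨_, Subgroup.npow_mem_zpowers a i⟩, hi⟩, fun ⟨g, hg⟩ => by
          obtain ⟨i, hi⟩ := mem_powers_iff_mem_zpowers.2 g.2
          exact ⟨i, (congrArg (· • β) hi).trans hg⟩⟩,
      ← Nat.card_coe_set_eq, Nat.card_eq_fintype_card, ← minimalPeriod_eq_card]
    exact Function.minimalPeriod_eq_prime (isPeriodicPt_smul_iff.2 (by rw [j.ex, one_smul])) j.mv
  obtain ⟨k, hk⟩ := pS.card_orbit β
  have nd : ¬ p ∣ s ^ k := fun h => cop (h.trans (by
    rw [← hk, Nat.card_coe_set_eq, ← index_stabilizer]; exact Subgroup.index_dvd_card _))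
  have h1 := Set.ncard_sdiff_add_ncard_of_subset DΘ
  rw [Nat.card_coe_set_eq] at hk
  rw [cD, hk] at h1
  obtain ⟨θ, ⟨v, rfl⟩, hθ⟩ : (orbit S β \ Dl a β).Nonempty := by
    rw [← Set.ncard_pos]
    refine Nat.pos_of_ne_zero fun h => nd ?_
    rw [← h1, h, zero_add]
  have oΓ : ∀ w : S, w • β ∈ Γ := fun w => mΓ w (le w.2) _ (j.sub ⟨0, by simp⟩)
  have fθ : a • v • β = v • β := j.out _ (oΓ v) hθ
  obtain ⟨l, hl⟩ := (pS.to_inf_left (K := Subgroup.centralizer {a})).card_orbit (v • β)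
  rw [show orbit ↥(S ⊓ Subgroup.centralizer {a}) (v • β) = orbit S β \ Dl a β from ?_,
    Nat.card_coe_set_eq] at hl
  · rw [hl] at h1
    rcases l with _ | l
    · exact ⟨s, k, hs, by rw [← h1, pow_zero, add_comm]⟩
    · rcases k with _ | k
      · have := hp.two_le
        rw [pow_zero] at h1
        omega
      · have : s ∣ p := (Nat.dvd_add_right (dvd_pow_self s l.succ_ne_zero)).1
          (h1 ▸ dvd_pow_self s k.succ_ne_zero)
        exact (nd ((Nat.prime_dvd_prime_iff_eq hs hp).1 this ▸ dvd_pow_self s k.succ_ne_zero)).elim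
  · ext ω
    constructor
    · rintro ⟨c, rfl⟩
      refine ⟨⟨⟨c, c.2.1⟩ * v, mul_smul _ _ _⟩, fun ⟨i, hi⟩ => j.mv ?_⟩
      have h : a • (c : G) • v • β = (c : G) • v • β := by
        rw [← mul_smul, c.2.2 a rfl, mul_smul, fθ]
      change a ^ i • β = (c : G) • v • β at hi
      rw [← hi, ← mul_smul, ← pow_succ', pow_succ, mul_smul] at h
      exact smul_left_cancel _ h
    · rintro ⟨⟨w, rfl⟩, hω⟩
      have e : ((w * v⁻¹ : S) : G) • v • β = w • β := by
        change (w * v⁻¹) • v • β = _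
        rw [mul_smul, inv_smul_smul]
      obtain ⟨c, cS, h2, h3⟩ := BigB.tr hp j.ex cop nrm fθ (w * v⁻¹).2
        (by rw [e]; exact j.out _ (oΓ w) hω)
      exact ⟨⟨c, cS, fun _ h => h ▸ h2⟩, h3.trans e⟩

end CL.Pq
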