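/-
PERM/Pq (S3579): the two configurations
-/
import Cfsg.Agent.PERM.Pq.BasB

set_option autoImplicit false

namespace CL.Pq

open MulAction Pointwise

variable {G Ω : Type*} [Group G] [Finite G] [MulAction G Ω] [Finite Ω] [FaithfulSMul G Ω] {p q : ℕ}
  {P A : Subgroup G} {x : G} {δ : Ω}

namespace Blk

omit [Finite G] [MulAction G Ω] [Finite Ω] [FaithfulSMul G Ω] in
theorem crd (H K : Subgroup G) : Nat.card K = Nat.card ↥(K ⊓ H) * H.relIndex K := by
  have := ((K ⊓ H).subgroupOf K).card_mul_index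
  rw [Nat.card_congr (Subgroup.subgroupOfEquivOfLe inf_le_left).toEquiv] at this
  rw [← this, ← Subgroup.inf_relIndex_left K H]
  rfl

omit [Finite G] [Finite Ω] [FaithfulSMul G Ω] in
theorem md {B : Set Ω} {e : ℕ} (h : ∀ i : ℕ, x ^ i • B = B → e ∣ i) {i j : ℕ} (k : x ^ i • B = x ^ j • B) :
    i ≡ j [MOD e] := by
  wlog l : i ≤ j generalizing i j
  · exact (this k.symm (le_of_not_ge l)).symm
  obtain ⟨d, rfl⟩ := Nat.exists_eq_add_of_le l
  rw [pow_add, mul_smul, smul_left_cancel_iff] at k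
  exact (Nat.modEq_iff_dvd' l).2 (by simpa using h d k.symm)

omit [Finite G] [Finite Ω] [FaithfulSMul G Ω] in
theorem inj {B : Set Ω} (hB : IsBlock G B) {e : ℕ} (h : ∀ i : ℕ, x ^ i • B = B → e ∣ i) :
    Function.Injective fun u : Fin e × B => x ^ (u.1 : ℕ) • (u.2 : Ω) := by
  rintro ⟨i, a⟩ ⟨j, b⟩ k
  simp only at k
  have e1 : i = j := Fin.ext (Nat.ModEq.eq_of_lt_of_lt (md h (hB.smul_eq_smul_of_nonempty
    ⟨_, Set.smul_mem_smul_set a.2, k ▸ Set.smul_mem_smul_set b.2⟩)) i.2 j.2)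
  subst e1
  exact Prod.ext rfl (Subtype.ext (smul_left_cancel _ k))

omit [Finite G] [FaithfulSMul G Ω] in
theorem lo {B : Set Ω} {n : ℕ} (f : ℕ → Ω) (h1 : ∀ i, f i ∈ B) (h2 : ∀ i j, f i = f j → i ≡ j [MOD n]) :
    n ≤ B.ncard := by
  have := Nat.card_le_card_of_injective (fun i : Fin n => (⟨f i, h1 i⟩ : B)) fun i j e =>
    Fin.ext ((h2 _ _ (congrArg Subtype.val e)).eq_of_lt_of_lt i.2 j.2)
  simpa using this

end Blk

/-- PROOF. If `A` fixes some `ω₁ ∉ Δ`, then `A = P_{ω₁}` (cardinality, `sm`); for `ω ∉ Δ`, `P_ω` is conjugate to `A`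
(`St.conj`), has exponent `p`, so lies in `A` (`om`), so equals `A`: `Bc`. Otherwise for `ω ∉ Δ`, `A ⊓ G_ω = A ⊓ P_ω` is
proper in `A` and of index dividing `p` (`P_ω` normal of index `p` in `P`); on `Δ` use `Pc.dl`: `Uc`. -/
theorem Pc.tri (h : St G Ω p q) (c : Pc p P A x δ) (om : ∀ y ∈ P, y ^ p = 1 → y ∈ A) :
    Uc Ω p P A ∨ Bc p P A x δ := by
  have hp := h.hp
  have := Fact.mk hp
  have pP : IsPGroup p P := by obtain ⟨S, rfl⟩ := c.syl; exact S.isPGroup'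
  by_cases e : ∃ ω₁, ω₁ ∉ Dl x δ ∧ A ≤ stabilizer G ω₁
  · obtain ⟨ω₁, h1, h2⟩ := e
    refine .inr ⟨c, om, fun ω hω a ha => ?_⟩
    obtain ⟨g, -, hg⟩ := h.conj c.syl (T := P ⊓ stabilizer G ω) (T' := A) pP.to_inf_left (pP.to_le c.le)
      inf_le_right h2 (c.sm ω hω) c.card
    have le : P ⊓ stabilizer G ω ≤ A := fun y hy => om y hy.1 (by
      rw [← hg] at hy
      obtain ⟨b, hb, rfl⟩ := (Subgroup.mem_smul_pointwise_iff_exists _ _ _).1 hy
      rw [← smul_pow', c.ex b hb, smul_one])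
    exact ((Subgroup.eq_of_le_of_card_ge le
      (Nat.eq_of_mul_eq_mul_left hp.pos ((c.sm ω hω).symm.trans c.card)).ge).ge ha).2
  refine .inl ⟨c.syl, c.le, om, c.ex, c.cm, fun ω => ?_⟩
  by_cases hω : ω ∈ Dl x δ
  · exact (c.dl hp).2.2.2 ω hω
  have e1 : (stabilizer G ω).relIndex P = p := by
    have := (Blk.crd (stabilizer G ω) P).symm.trans (c.sm ω hω)
    rw [mul_comm p] at this
    exact Nat.eq_of_mul_eq_mul_left Nat.card_pos this
  have e2 : (stabilizer G ω).relIndex A ≤ p :=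
    e1 ▸ Subgroup.relIndex_le_of_le_right c.le (e1 ▸ hp.ne_zero)
  obtain ⟨k, hk⟩ := (pP.to_le c.le).index ((stabilizer G ω).subgroupOf A)
  have e3 : p ∣ (stabilizer G ω).relIndex A := by
    rcases k with _ | k
    · exact (e ⟨ω, hω, Subgroup.relIndex_eq_one.1 hk⟩).elim
    · exact (dvd_pow_self p k.succ_ne_zero).trans hk.symm.dvd
  rw [Blk.crd (stabilizer G ω) A, mul_comm,
    le_antisymm e2 (Nat.le_of_dvd (Nat.pos_of_ne_zero Subgroup.FiniteIndex.index_ne_zero) e3)]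

/-- blocks. PROOF. Let `b = |B|`, `b ∣ 2 p q` (`IsBlock.ncard_dvd_card`), `2 ≤ b`, `2 b ≤ 2 p q`. The translates
`x ^ i • B` are equal or disjoint; let `e ∈ {1, p, p²}` be the period of `i ↦ x ^ i • B`; `e b ≤ 2 p q`. `e = 1`: `Δ ⊆ B`,
`b ≥ p² > p q`, false. `e = p²`: `b < 2`, false. So `e = p`, `b ≤ 2 q`, `B ⊇ ⟨z⟩ δ`, `b ≥ p`. If `p ∣ b`: `G_B` is
transitive on `B`, `|G_B| = b |G_δ|`, so `p ∤ [G : G_B]`; `A ≤ G_B` (`a • δ ∈ ⟨z⟩ δ ⊆ B`); a Sylow `P₂ ≥ A` of `G_B` has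
order `|P|`, normalises `A` (`nrm_of_card`), is conjugate to `P` in `N(A)` (`witt`), so is transitive on `Δ` (`Bc.fix`),
so `Δ ⊆ B`, false. So `b ∣ 2 q`, `b ≥ p > q`, `b = 2 q`. -/
theorem Bc.blk2 (h : St G Ω p q) (c : Bc p P A x δ) {B : Set Ω} (hB : IsBlock G B) (hδ : δ ∈ B)
    (h1 : ¬ B.Subsingleton) (h2 : B ≠ Set.univ) :
    B.ncard = 2 * q ∧ x ^ p • B = B ∧ ∀ i : ℕ, x ^ i • B = B → p ∣ i := by
  have hp := h.hp
  have := Fact.mk hp
  have := h.tr
  obtain ⟨n1, n2, -, -, n5, -⟩ := h.num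
  have lt := h.lt
  have lt2 := h.lt2
  have b1 := hB.ncard_block_mul_ncard_orbit_eq ⟨δ, hδ⟩
  rw [← index_stabilizer, h.card] at b1
  have b2 : 2 ≤ B.ncard := Set.one_lt_ncard_iff_nontrivial.2 (Set.not_subsingleton_iff.1 h1)
  have b3 : B.ncard * 2 ≤ 2 * p * q := h.card ▸ le_of_not_gt fun e => h2 (hB.eq_univ_of_card_lt e)
  have b4 : ¬ p ^ 2 ≤ B.ncard := fun e => by nlinarith
  have pe : ∀ i : ℕ, x ^ i • B = B ↔ period x B ∣ i := fun i => pow_smul_eq_iff_period_dvd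
  have b5 : period x B * B.ncard ≤ 2 * p * q := by
    have := Nat.card_le_card_of_injective _ (Blk.inj hB fun i => (pe i).1)
    simpa [h.card] using this
  have d : period x B ∣ p ^ 2 := (pe _).1 (hB.smul_eq_of_mem hδ (by
    rw [(c.inj (p ^ 2) 0).2 (Nat.modEq_zero_iff_dvd.2 dvd_rfl)]; simpa using hδ))
  have mem : ∀ {g : G}, g • B = B → g • δ ∈ B := fun e => e ▸ Set.smul_mem_smul_set hδ
  obtain ⟨k, hk, e⟩ := (Nat.dvd_prime_pow hp).1 d
  have e1 : period x B = p := by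
    interval_cases k
    · exact (b4 (Blk.lo (fun i => x ^ i • δ) (fun i => mem ((pe i).2 (by simp [e]))) fun i j => (c.inj i j).1)).elim
    · simpa using e
    · rw [e] at b5; nlinarith
  rw [e1] at pe b5
  refine ⟨?_, (pe p).2 dvd_rfl, fun i => (pe i).1⟩
  have b6 : B.ncard ≤ 2 * q := Nat.le_of_mul_le_mul_left (by nlinarith) hp.pos
  have b7 : p ≤ B.ncard := Blk.lo (fun s => x ^ (p * s) • δ) (fun s => mem ((pe _).2 (dvd_mul_right p s))) fun i j k =>
    Nat.ModEq.mul_left_cancel' hp.ne_zero (by rw [← sq]; exact (c.inj _ _).1 k)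
  have b8 : ¬ p ∣ B.ncard := by
    rintro ⟨b, hb⟩
    have i1 : ¬ p ∣ (stabilizer G B).index := fun k => n5 (k.trans (Dvd.intro_left b
      (Nat.eq_of_mul_eq_mul_left hp.pos (by rw [← mul_assoc, ← hb, b1]; ring))))
    have aH : A ≤ stabilizer G B := fun a ha => by
      obtain ⟨s, hs⟩ := c.blk a ha 0
      refine hB.smul_eq_of_mem hδ ?_
      rw [pow_zero, one_smul, zero_add] at hs
      exact hs ▸ mem ((pe _).2 (dvd_mul_right p s))
    obtain ⟨S, rfl⟩ := c.syl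
    obtain ⟨R, hR⟩ := ((S.isPGroup'.to_le c.le).comap_of_injective _
      (stabilizer G B).subtype_injective).exists_le_sylow
    have pR : IsPGroup p ((R : Subgroup (stabilizer G B)).map (stabilizer G B).subtype) := R.isPGroup'.map _
    have iR : ¬ p ∣ ((R : Subgroup (stabilizer G B)).map (stabilizer G B).subtype).index := by
      rw [Subgroup.index_map_subtype, hp.dvd_mul]
      exact fun k => k.elim R.not_dvd_index i1
    have cR := Nat.card_congr (Sylow.equiv (pR.toSylow iR) S).toEquiv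
    have aR : A ≤ (R : Subgroup (stabilizer G B)).map (stabilizer G B).subtype := fun a ha => ⟨⟨a, aH ha⟩, hR ha, rfl⟩
    obtain ⟨n, hn, e⟩ := witt (H := Subgroup.normalizer (A : Set G)) S.isPGroup' pR
      (fun g hg => Subgroup.mem_normalizer_fintype ((c.gen hp).1 g hg))
      (fun g hg => Subgroup.mem_normalizer_fintype ((nrm_of_card hp pR aR (cR.trans c.card)).1 g hg))
      (fun k => S.not_dvd_index (k.trans (Subgroup.relIndex_dvd_index_of_le
        fun g hg => Subgroup.mem_normalizer_fintype ((c.gen hp).1 g hg)))) cR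
    obtain ⟨k, hk⟩ := ((c.fix hp).2 n hn δ).2 ⟨0, by simp⟩
    refine b4 (Blk.lo (fun i => n⁻¹ • x ^ (i + k) • δ) (fun i => ?_) fun i j e => Nat.ModEq.add_right_cancel' k
      ((c.inj _ _).1 (smul_left_cancel _ e)))
    have := pow_mem c.xP i
    rw [← e] at this
    obtain ⟨y, hy, e2⟩ := (Subgroup.mem_smul_pointwise_iff_exists _ _ _).1 this
    rw [pow_add, mul_smul, hk, ← e2, MulAut.smul_def, MulAut.conj_apply, mul_smul, mul_smul, inv_smul_smul, inv_smul_smul]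
    exact mem (Subgroup.map_subtype_le _ hy)
  obtain ⟨k, hk⟩ : B.ncard ∣ 2 * q := ((Nat.coprime_comm.1 (hp.coprime_iff_not_dvd.2 b8)).dvd_of_dvd_mul_left
    (Dvd.intro _ (b1.trans (by ring))))
  rcases k with _ | _ | k
  · omega
  · omega
  · nlinarith

/-- PROOF. `IsPreprimitive.of_isTrivialBlock_base` gives a nontrivial block `B ∋ δ`; `Bc.blk2`. The `p` disjoint translates
`x ^ i • B` (`i < p`) have `2 p q` points, so cover `Ω`, so are all the translates `g • B`; hence `Kb x B` is the kernel of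
the action on the translates, normal. `A ≤ Kb`: `a • x ^ i • δ = x ^ i • z ^ s • δ ∈ x ^ i • B`. The orbit `B'` of `δ` under the
normal subgroup `Kb` is a block (`IsBlock.orbit_of_normal`), `z • δ ∈ B'`, `B' ⊆ B`, so `|B'| = 2 q` by `Bc.blk2`, `B' = B`. -/
theorem Bc.sy (h : St G Ω p q) (c : Bc p P A x δ) (np : ¬ IsPreprimitive G Ω) :
    ∃ B : Set Ω, Sy p q A x δ B := by
  have hp := h.hp
  have := h.tr
  obtain ⟨B, hδ, hB, nt⟩ : ∃ B : Set Ω, δ ∈ B ∧ IsBlock G B ∧ ¬ IsTrivialBlock B := by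
    by_contra! e
    exact np (IsPreprimitive.of_isTrivialBlock_base δ fun {B} => e B)
  obtain ⟨h1, h2⟩ := not_or.1 nt
  obtain ⟨c1, c2, c3⟩ := c.blk2 h hB hδ h1 h2
  have cov : ∀ ω : Ω, ∃ i < p, ω ∈ x ^ i • B := fun ω => by
    obtain ⟨⟨i, b⟩, e⟩ := ((Blk.inj hB c3).bijective_of_nat_card_le (by simp [h.card, c1]; ring_nf; rfl)).2 ω
    exact ⟨i, i.2, e ▸ Set.smul_mem_smul_set b.2⟩
  have mem : ∀ s : ℕ, x ^ (p * s) • δ ∈ B := fun s => by
    have : x ^ (p * s) • B = B := by rw [pow_mul]; exact pow_mem (show x ^ p ∈ stabilizer G B from c2) s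
    exact this ▸ Set.smul_mem_smul_set hδ
  have nrm : (Kb x B).Normal := ⟨fun k hk g => Subgroup.mem_iInf.2 fun i => by
    obtain ⟨j, -, hj⟩ := cov ((g⁻¹ * x ^ i) • δ)
    have e := hB.smul_eq_smul_of_nonempty ⟨_, Set.smul_mem_smul_set hδ, hj⟩
    rw [mem_stabilizer_iff, mul_smul, mul_smul, ← mul_smul g⁻¹, e, Subgroup.mem_iInf.1 hk j, ← e, mul_smul,
      smul_inv_smul]⟩
  have le : A ≤ Kb x B := fun a ha => Subgroup.mem_iInf.2 fun i => by
    obtain ⟨s, hs⟩ := c.blk a ha i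
    rw [mem_stabilizer_iff, ← mul_smul]
    refine hB.smul_eq_smul_of_nonempty ⟨_, Set.smul_mem_smul_set hδ, ?_⟩
    rw [mul_smul, hs, pow_add, mul_smul]
    exact Set.smul_mem_smul_set (mem s)
  have sub : orbit (Kb x B) δ ⊆ B := by
    rintro _ ⟨k, rfl⟩
    have := Subgroup.mem_iInf.1 k.2 0
    rw [pow_zero, one_smul, mem_stabilizer_iff] at this
    exact this.subset (Set.smul_mem_smul_set hδ)
  have eq : orbit (Kb x B) δ = B := Set.eq_of_subset_of_ncard_le sub (c1.trans (c.blk2 h (IsBlock.orbit_of_normal δ)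
    (mem_orbit_self δ) (fun e => ((c.fix hp).1 δ).2 (e ⟨⟨_, le c.zA⟩, rfl⟩ (mem_orbit_self δ)) ⟨0, by simp⟩)
    fun e => h2 (Set.univ_subset_iff.1 (e ▸ sub))).1.symm).le
  refine ⟨B, hδ, c1, c2, cov, fun i j ω a b => Blk.md c3 (hB.smul_eq_smul_of_nonempty ⟨ω, a, b⟩), nrm, le,
    fun a ha b hb => ?_⟩
  rw [← eq] at ha hb
  obtain ⟨k, rfl⟩ := ha
  obtain ⟨l, rfl⟩ := hb
  exact ⟨l * k⁻¹, mul_mem l.2 (inv_mem k.2), by simp [mul_smul, Subgroup.smul_def]⟩

end CL.Pq
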