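/-
PERM/Pq (S3579): the covering count
-/
import Cfsg.Agent.PERM.Pq.BasA

set_option autoImplicit false

namespace CL.Pq

open MulAction Pointwise

variable {G Ω : Type*} [Group G] [Finite G] [MulAction G Ω] [Finite Ω] [FaithfulSMul G Ω] {p q : ℕ}
  {P A : Subgroup G} {x : G} {δ : Ω}

namespace Cov

omit [Finite G] in
theorem mem_cj {g t : G} {H : Subgroup G} : t ∈ MulAut.conj g • H ↔ g⁻¹ * t * g ∈ H := by
  rw [Subgroup.mem_pointwise_smul_iff_inv_smul_mem]
  simp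

omit [Finite G] in
theorem card_cj (g : G) (H : Subgroup G) : Nat.card ↥(MulAut.conj g • H) = Nat.card H :=
  Nat.card_congr (Subgroup.equivSMul _ H).toEquiv.symm

omit [Finite G] in
theorem cj_pow (g t : G) (n : ℕ) : (g⁻¹ * t * g) ^ n = 1 ↔ t ^ n = 1 := by
  have := @conj_pow G _ n g⁻¹ t
  rw [inv_inv] at this
  rw [this, mul_assoc, inv_mul_eq_one, eq_comm, mul_eq_right]

omit [Finite Ω] [FaithfulSMul G Ω] in
/-- weak closure -/
theorem wc [Fact p.Prime] (c : Uc Ω p P A) {E : Subgroup G} (hE : IsPGroup p E) :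
    ∃ g : G, ∀ e ∈ E, e ^ p = 1 → e ∈ MulAut.conj g • A := by
  obtain ⟨S, rfl⟩ := c.syl
  obtain ⟨Q, hQ⟩ := hE.exists_le_sylow
  obtain ⟨g, rfl⟩ := exists_smul_eq G S Q
  exact ⟨g, fun e he e1 => mem_cj.2 (c.om _ (mem_cj.1 (hQ he)) ((cj_pow g e p).2 e1))⟩

omit [Finite G] [Finite Ω] [FaithfulSMul G Ω] in
theorem pA (c : Uc Ω p P A) : IsPGroup p A := fun a => ⟨1, Subtype.ext (by simpa using c.ex a a.2)⟩

omit [FaithfulSMul G Ω] in
theorem exT (h : St G Ω p q) (c : Uc Ω p P A) (ω : Ω) : ∃ T : Subgroup G, IsPGroup p T ∧ T ≤ stabilizer G ω ∧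
    Nat.card P = p * Nat.card T ∧ ∀ t, t ∈ A ⊓ stabilizer G ω ↔ t ∈ T ∧ t ^ p = 1 := by
  have := Fact.mk h.hp
  obtain ⟨T, hT⟩ := ((pA c).comap_subtype (K := stabilizer G ω)).exists_le_sylow
  have pT : IsPGroup p (T.1.map (stabilizer G ω).subtype) := T.2.map _
  have le : A ⊓ stabilizer G ω ≤ T.1.map (stabilizer G ω).subtype := fun t ht => ⟨⟨t, ht.2⟩, hT ht.1, rfl⟩
  refine ⟨_, pT, Subgroup.map_subtype_le _, ?_, fun t => ⟨fun ht => ⟨le ht, c.ex t ht.1⟩, fun ht => ?_⟩⟩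
  · obtain ⟨S, rfl⟩ := c.syl
    have q0 : 2 * q ≠ 0 := by have := h.q3; omega
    rw [Subgroup.card_subtype, S.card_eq_multiplicity, T.card_eq_multiplicity, h.stab ω,
      show 2 * p * q * Nat.card (stabilizer G ω) = p * (2 * q * Nat.card (stabilizer G ω)) by ring,
      Nat.factorization_mul h.hp.ne_zero (mul_ne_zero q0 Nat.card_pos.ne'),
      Nat.factorization_mul q0 Nat.card_pos.ne']
    simp only [Finsupp.add_apply, h.hp.factorization_self, Nat.factorization_eq_zero_of_not_dvd h.num.2.2.2.2.1]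
    ring
  · obtain ⟨g, hg⟩ := wc c pT
    have key : ∀ s ∈ T.1.map (stabilizer G ω).subtype, s ^ p = 1 →
        s ∈ MulAut.conj g • (A ⊓ stabilizer G (g⁻¹ • ω)) := fun s hs s1 =>
      mem_cj.2 ⟨mem_cj.1 (hg s hs s1), mem_stabilizer_iff.2 <| by
        rw [mul_smul, smul_inv_smul, mul_smul,
          mem_stabilizer_iff.1 (Subgroup.map_subtype_le _ hs)]⟩
    rw [Subgroup.eq_of_le_of_card_ge (fun s hs => key s (le hs) (c.ex s hs.1))
      (by rw [card_cj]; exact (Nat.eq_of_mul_eq_mul_left h.hp.pos ((c.orb _).symm.trans (c.orb ω))).le)]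
    exact key t ht.1 ht.2

omit [Finite G] [Finite Ω] [FaithfulSMul G Ω] in
theorem cj_st {n : G} (hn : n ∈ Subgroup.normalizer (A : Set G)) (ω : Ω) :
    MulAut.conj n • (A ⊓ stabilizer G ω) = A ⊓ stabilizer G (n • ω) := by
  ext t
  rw [mem_cj, Subgroup.mem_inf, Subgroup.mem_inf, mem_stabilizer_iff, mem_stabilizer_iff, mul_smul, mul_smul,
    inv_smul_eq_iff, ← Subgroup.mem_normalizer_iff''.1 hn t]

omit [Finite Ω] [FaithfulSMul G Ω] in
theorem orbc (c : Uc Ω p P A) (ω : Ω) : (orbit A ω).ncard = p := by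
  have h1 := (stabilizer A ω).index_mul_card
  have h2 : Nat.card (stabilizer A ω) = Nat.card ↥(A ⊓ stabilizer G ω) := by
    rw [inf_comm, ← Subgroup.subgroupOf_map_subtype, Subgroup.card_subtype]; rfl
  rw [index_stabilizer, h2, c.orb ω] at h1
  exact Nat.eq_of_mul_eq_mul_right Nat.card_pos h1

omit [Finite G] [Finite Ω] [FaithfulSMul G Ω] in
theorem st_orb (c : Uc Ω p P A) {ω θ : Ω} (h : θ ∈ orbit A ω) : A ⊓ stabilizer G θ = A ⊓ stabilizer G ω := by
  obtain ⟨a, rfl⟩ := h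
  ext t
  refine and_congr_right fun ht => ?_
  change t • (a.1 • ω) = a.1 • ω ↔ t • ω = ω
  rw [← mul_smul, c.cm t ht a a.2, mul_smul, smul_left_cancel_iff]

end Cov

open Cov

/-- the point stabilizers `A_ω` are conjugate under `N(A)`. PROOF. Weak closure: (W) a subgroup `E` of exponent
`p` inside `conj g • P` lies in `conj g • A` (`om`). For a point `ω` let `T ≥ A_ω` be a Sylow `p`-subgroup of
`G_ω`, `T ≤ conj g • P`; `{t ∈ T | t ^ p = 1} ⊆ conj g • A ⊓ G_ω = conj g • A_{g⁻¹ω}`, of order `|A| / p = |A_ω|`;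
so `A_ω = {t ∈ T | t ^ p = 1}`. `|P| = p |T|` (`St.stab`, `St.syl`), so the `T`'s for `ω`, `ω'` are conjugate (`St.conj`),
hence `conj g • A_ω' = A_ω`. Now `A`, `conj g • A ≤ C = C_G(A_ω)`; take a Sylow `S` of `C` containing `A`
and `c ∈ C` with `conj (c g) • A ≤ S`; `S ≤ conj k • P`; by (W) and cardinality `A = conj k • A = conj (c g) • A`. -/
theorem Uc.conj (h : St G Ω p q) (c : Uc Ω p P A) (ω ω' : Ω) :
    ∃ n ∈ Subgroup.normalizer (A : Set G),
      MulAut.conj n • (A ⊓ stabilizer G ω') = A ⊓ stabilizer G ω := by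
  have := Fact.mk h.hp
  obtain ⟨T, pT, lT, cT, hT⟩ := exT h c ω
  obtain ⟨T', pT', lT', cT', hT'⟩ := exT h c ω'
  obtain ⟨g, -, hg⟩ := h.conj c.syl pT pT' lT lT' cT cT'
  have e : MulAut.conj g • (A ⊓ stabilizer G ω') = A ⊓ stabilizer G ω := by
    ext t
    rw [mem_cj, hT, hT', cj_pow, ← hg, mem_cj]
  set C := Subgroup.centralizer ((A ⊓ stabilizer G ω : Subgroup G) : Set G)
  have h1 : A ≤ C := fun a ha t ht => c.cm t ht.1 a ha
  have h2 : MulAut.conj g • A ≤ C := fun a ha t ht => by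
    have := c.cm _ (mem_cj.1 (e.ge ht)).1 _ (mem_cj.1 ha)
    calc t * a = g * (g⁻¹ * t * g * (g⁻¹ * a * g)) * g⁻¹ := by group
      _ = a * t := by rw [this]; group
  obtain ⟨S, hS⟩ := ((pA c).comap_subtype (K := C)).exists_le_sylow
  obtain ⟨S', hS'⟩ := (((pA c).of_equiv (Subgroup.equivSMul (MulAut.conj g) A)).comap_subtype
    (K := C)).exists_le_sylow
  obtain ⟨k, rfl⟩ := exists_smul_eq C S' S
  obtain ⟨m, hm⟩ := wc c ((k • S').2.map C.subtype)
  have h3 : A = MulAut.conj m • A := Subgroup.eq_of_le_of_card_ge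
    (fun a ha => hm a ⟨⟨a, h1 ha⟩, hS ha, rfl⟩ (c.ex a ha)) (card_cj m A).le
  have h4 : MulAut.conj (k.1 * g) • A = A := Subgroup.eq_of_le_of_card_ge (fun a ha => by
    rw [map_mul, mul_smul, mem_cj] at ha
    have aC : a ∈ C := by
      have := C.mul_mem (C.mul_mem k.2 (h2 ha)) (C.inv_mem k.2)
      simpa [mul_assoc] using this
    rw [h3]
    exact hm a ⟨⟨a, aC⟩, mem_cj.2 (hS' ha), rfl⟩
      ((cj_pow _ _ _).1 ((cj_pow _ _ _).1 (c.ex _ (mem_cj.1 ha))))) (card_cj _ A).ge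
  refine ⟨k.1 * g, Subgroup.mem_normalizer_iff''.2 fun t => by rw [← mem_cj, h4], ?_⟩
  rw [map_mul, mul_smul, e]
  refine (Subgroup.eq_of_le_of_card_ge (fun t ht => mem_cj.2 ?_) (card_cj _ _).le).symm
  rwa [mul_assoc, k.2 t ht, inv_mul_cancel_left]

/-- PROOF. Let `𝓗 = {A_ω}`. Every nontrivial `a ∈ A` has order `p`, so fixes a point (`el`): `𝓗` covers `A`, so
`|𝓗| ≥ p + 1` (`avoid`). The fibres `{ω | A_ω = H}` (`H ∈ 𝓗`) are permuted transitively by `N(A)` (`Uc.conj`,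
`conj n • A_ω = A_{nω}`), so have a common size `f`, `f |𝓗| = 2 p q`; each is a union of `A`-orbits (`A`
commutative), so `f = p μ`, `μ |𝓗| = 2 q`, `|𝓗| > q` forces `μ = 1` (or just `μ < 2`): each fibre is one `A`-orbit.
For `a b`: `n` with `A_{n a} = A_b`, so `n • a` is in the `A`-orbit of `b`; `A ≤ N(A)`. -/
theorem Uc.trans (h : St G Ω p q) (c : Uc Ω p P A) (a b : Ω) :
    ∃ n ∈ Subgroup.normalizer (A : Set G), n • a = b := by
  classical
  obtain ⟨n, hn, e⟩ := c.conj h b a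
  rw [cj_st hn] at e
  by_cases hb : b ∈ orbit A (n • a)
  · obtain ⟨k, hk⟩ := hb
    exact ⟨k.1 * n, mul_mem (Subgroup.le_normalizer k.2) hn, by rw [mul_smul]; exact hk⟩
  exfalso
  have := Fintype.ofFinite Ω
  have h1 := Finset.mul_card_image_le_card (f := fun θ : Ω => A ⊓ stabilizer G θ) Finset.univ (2 * p) (by
    intro H hH
    obtain ⟨θ, -, rfl⟩ := Finset.mem_image.1 hH
    obtain ⟨m, hm, e'⟩ := c.conj h θ b
    have d : Disjoint (orbit A (m • n • a)) (orbit A (m • b)) := by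
      refine (orbit.eq_or_disjoint _ _).resolve_left fun o => hb ?_
      obtain ⟨k, hk⟩ := o.ge (mem_orbit_self _)
      refine ⟨⟨m⁻¹ * k * m, (Subgroup.mem_normalizer_iff''.1 hm _).1 k.2⟩, ?_⟩
      change (m⁻¹ * k * m) • n • a = b
      rw [mul_smul, mul_smul, inv_smul_eq_iff]
      exact hk
    have u := Set.ncard_union_eq d
    rw [orbc c, orbc c] at u
    rw [two_mul, ← u, ← Set.ncard_coe_finset]
    refine Set.ncard_le_ncard fun x hx => ?_
    simp only [Finset.coe_filter, Finset.mem_univ, true_and, Set.mem_setOf_eq]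
    rcases hx with hx | hx
    · rw [st_orb c hx, ← cj_st hm, e, e']
    · rw [st_orb c hx, ← cj_st hm, e'])
  rw [Finset.card_univ, ← Nat.card_eq_fintype_card, h.card] at h1
  obtain ⟨y, hy, hy'⟩ := avoid h.hp.two_le A (Finset.univ.image fun θ : Ω => A ⊓ stabilizer G θ)
    ((Nat.le_of_mul_le_mul_left h1 (mul_pos two_pos h.hp.pos)).trans h.lt.le) fun H hH => by
      obtain ⟨θ, -, rfl⟩ := Finset.mem_image.1 hH
      rw [inf_eq_left.2 inf_le_left]
      exact (c.orb θ).ge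
  have := Fact.mk h.hp
  have y1 : y ≠ 1 := fun e => hy' _ (Finset.mem_image_of_mem _ (Finset.mem_univ a)) (e ▸ one_mem _)
  obtain ⟨θ, hθ⟩ := h.el y (by rw [orderOf_eq_prime (c.ex y hy) y1]; exact h.hp)
  exact hy' _ (Finset.mem_image_of_mem _ (Finset.mem_univ θ)) ⟨hy, hθ⟩

end CL.Pq
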