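/-
PERM/Pq (S3579): the covering count, second half (transitivity of `N(A)` from conjugacy of the `A_ω`)
-/
import Cfsg.Agent.PERM.Pq.BasA

set_option autoImplicit false

namespace CL.Pq.Cov2

open MulAction Pointwise

variable {G Ω : Type*} [Group G] [Finite G] [MulAction G Ω] [Finite Ω] [FaithfulSMul G Ω] {p q : ℕ}
  {P A : Subgroup G}

omit [Finite G] [Finite Ω] [FaithfulSMul G Ω] in
theorem conj_st {n : G} (hn : n ∈ Subgroup.normalizer (A : Set G)) (ω : Ω) :
    MulAut.conj n • (A ⊓ stabilizer G ω) = A ⊓ stabilizer G (n • ω) := by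
  ext g
  rw [Subgroup.mem_pointwise_smul_iff_inv_smul_mem]
  have h1 := Subgroup.mem_normalizer_iff''.mp hn g
  simp only [MulAut.smul_def, Subgroup.mem_inf, mem_stabilizer_iff, ← map_inv, MulAut.conj_apply,
    inv_inv]
  constructor
  · rintro ⟨ha, hs⟩
    refine ⟨h1.mpr ha, ?_⟩
    rw [mul_smul, mul_smul, inv_smul_eq_iff] at hs
    exact hs
  · rintro ⟨ha, hs⟩
    refine ⟨h1.mp ha, ?_⟩
    rw [mul_smul, mul_smul, inv_smul_eq_iff]
    exact hs

omit [Finite Ω] [FaithfulSMul G Ω] in
theorem orb_card (c : Uc Ω p P A) (ω : Ω) : (orbit A ω).ncard = p := by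
  have h1 : (stabilizer A ω).index = (orbit A ω).ncard := index_stabilizer A ω
  have h2 : Nat.card (stabilizer A ω) * (stabilizer A ω).index = Nat.card A :=
    Subgroup.card_mul_index _
  have h3 : stabilizer A ω = (A ⊓ stabilizer G ω).subgroupOf A := by
    ext a
    simp only [mem_stabilizer_iff, Subgroup.mem_subgroupOf, Subgroup.mem_inf, a.2, true_and]
    rfl
  have h4 : Nat.card (stabilizer A ω) = Nat.card ↥(A ⊓ stabilizer G ω) := by
    rw [h3]
    exact Nat.card_congr (Subgroup.subgroupOfEquivOfLe inf_le_left).toEquiv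
  rw [h1, h4, c.orb ω, mul_comm p] at h2
  exact Nat.eq_of_mul_eq_mul_left Nat.card_pos h2

omit [Finite G] [Finite Ω] [FaithfulSMul G Ω] in
theorem st_orb (c : Uc Ω p P A) {ω ω' : Ω} (h : ω' ∈ orbit A ω) :
    A ⊓ stabilizer G ω' = A ⊓ stabilizer G ω := by
  obtain ⟨a, rfl⟩ := h
  ext g
  simp only [Subgroup.mem_inf, mem_stabilizer_iff]
  refine and_congr_right fun hg => ?_
  change g • (a : G) • ω = (a : G) • ω ↔ _
  rw [← mul_smul, c.cm g hg a a.2, mul_smul, smul_left_cancel_iff]

theorem trans (h : St G Ω p q) (c : Uc Ω p P A)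
    (hconj : ∀ ω ω' : Ω, ∃ n ∈ Subgroup.normalizer (A : Set G),
      MulAut.conj n • (A ⊓ stabilizer G ω') = A ⊓ stabilizer G ω) (a b : Ω) :
    ∃ n ∈ Subgroup.normalizer (A : Set G), n • a = b := by
  classical
  have := Fintype.ofFinite Ω
  set f : Ω → Subgroup G := fun ω => A ⊓ stabilizer G ω with hf
  obtain ⟨n, hn, e⟩ := hconj b a
  rw [conj_st hn] at e
  by_cases hm : n • a ∈ orbit A b
  · obtain ⟨y, hy⟩ := hm
    have hy' : (y : G) • b = n • a := hy
    refine ⟨(y : G)⁻¹ * n, Subgroup.mul_mem _ (Subgroup.le_normalizer (A.inv_mem y.2)) hn, ?_⟩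
    rw [mul_smul, ← hy', inv_smul_smul]
  exfalso
  -- the fibre of `b` has at least `2 p` points
  have hb : 2 * p ≤ {ω | f ω = f b}.ncard := by
    have hd : Disjoint (orbit A (n • a)) (orbit A b) := by
      rw [Set.disjoint_left]
      intro ω h1 h2
      apply hm
      have e1 := orbit_eq_iff.mpr h1
      have e2 := orbit_eq_iff.mpr h2
      rw [← e2, e1]
      exact mem_orbit_self _
    have hs : orbit A (n • a) ∪ orbit A b ⊆ {ω | f ω = f b} := by
      rintro ω (h1 | h1)
      · exact (st_orb c h1).trans e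
      · exact st_orb c h1
    have := Set.ncard_le_ncard hs
    rw [Set.ncard_union_eq hd, orb_card c, orb_card c] at this
    omega
  -- so has every fibre
  have hall : ∀ ω : Ω, 2 * p ≤ {ω' | f ω' = f ω}.ncard := by
    intro ω
    obtain ⟨m, hm', e'⟩ := hconj ω b
    refine hb.trans ?_
    refine Set.ncard_le_ncard_of_injOn (fun ω' => m • ω') ?_ (fun u _ v _ huv => smul_left_cancel m huv)
    intro u hu
    have hu' : A ⊓ stabilizer G u = A ⊓ stabilizer G b := hu
    change A ⊓ stabilizer G (m • u) = A ⊓ stabilizer G ω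
    rw [← conj_st hm', hu', e']
  -- at least `p + 1` fibres
  have hmany : p + 1 ≤ (Finset.univ.image f).card := by
    by_contra hlt
    obtain ⟨y, hy, hno⟩ := avoid h.hp.two_le A (Finset.univ.image f) (by omega) (by
      intro H hH
      obtain ⟨ω, -, rfl⟩ := Finset.mem_image.mp hH
      have : f ω ⊓ A = A ⊓ stabilizer G ω := inf_eq_left.mpr inf_le_left
      rw [this, c.orb ω])
    by_cases h1 : y = 1
    · exact hno (f b) (Finset.mem_image_of_mem f (Finset.mem_univ b)) (h1 ▸ Subgroup.one_mem _)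
    · have : Fact p.Prime := ⟨h.hp⟩
      have ho : orderOf y = p := orderOf_eq_prime (c.ex y hy) h1
      obtain ⟨ω, hω⟩ := h.el y (ho ▸ h.hp)
      exact hno (f ω) (Finset.mem_image_of_mem f (Finset.mem_univ ω)) ⟨hy, hω⟩
  have hsum : (Finset.univ : Finset Ω).card =
      ∑ H ∈ Finset.univ.image f, (Finset.univ.filter fun ω => f ω = H).card :=
    Finset.card_eq_sum_card_image f Finset.univ
  have hge : (Finset.univ.image f).card * (2 * p) ≤
      ∑ H ∈ Finset.univ.image f, (Finset.univ.filter fun ω => f ω = H).card := by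
    rw [← smul_eq_mul]
    apply Finset.card_nsmul_le_sum
    intro H hH
    obtain ⟨ω, -, rfl⟩ := Finset.mem_image.mp hH
    have := hall ω
    rwa [Set.ncard_eq_toFinset_card', Set.toFinset_setOf] at this
  have hc := h.card
  rw [Nat.card_eq_fintype_card, ← Finset.card_univ, hsum] at hc
  rw [hc] at hge
  have h1 := h.lt
  have h2 := h.hp.pos
  nlinarith

end CL.Pq.Cov2
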