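/-
PERM/Pq (S3579): the cyclotomic field of level p squared
-/
import Mathlib

set_option autoImplicit false

namespace CL.Pq

open Polynomial Finset

variable {p : ℕ} [Fact p.Prime] {K : Type*} [Field K] [Algebra ℚ K] [IsCyclotomicExtension {p ^ 2} ℚ K]
  {ζ : K}

omit [IsCyclotomicExtension {p ^ 2} ℚ K] in
theorem Cyc.mp {μ : K} {n : ℕ} (h : IsPrimitiveRoot μ n) (hn : 0 < n) : cyclotomic n ℚ = minpoly ℚ μ :=
  have : NeZero (n : ℚ) := ⟨Nat.cast_ne_zero.2 hn.ne'⟩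
  h.minpoly_eq_cyclotomic_of_irreducible (cyclotomic.irreducible_rat hn)

omit [IsCyclotomicExtension {p ^ 2} ℚ K] in
/-- relations among the powers of `ζ`. PROOF. `H = ∑ h i X ^ i` (degree `< p²`) is divisible by
`minpoly ℚ ζ = cyclotomic (p ^ 2) ℚ = ∑_{j<p} X ^ (p j)` (`cyclotomic_eq_minpoly_rat`/`cyclotomic_prime_pow_eq_geom_sum`), so
`(X ^ p - 1) H = (X ^ (p²) - 1) C` with `deg C < p`; compare the coefficients of `X ^ (i + p)`, `p ≤ i + p < p²`. -/
theorem cyc0 (hζ : IsPrimitiveRoot ζ (p ^ 2)) (h : ℕ → ℚ)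
    (h0 : ∑ i ∈ range (p ^ 2), algebraMap ℚ K (h i) * ζ ^ i = 0) (i : ℕ) (hi : i + p < p ^ 2) :
    h (i + p) = h i := by
  have hp : p.Prime := Fact.out
  have : CharZero K := algebraRat.charZero K
  set H : ℚ[X] := ∑ i ∈ range (p ^ 2), monomial i (h i) with hH
  have co : ∀ j < p ^ 2, H.coeff j = h j := fun j hj => by
    simp [hH, coeff_monomial, hj]
  have dg : H.degree < (p ^ 2 : ℕ) := (degree_lt_iff_coeff_zero _ _).2 fun m hm => by
    simp [hH, coeff_monomial, hm]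
  have ev : aeval ζ H = 0 := by rw [← h0, hH, map_sum]; simp only [aeval_monomial]
  obtain ⟨C, hC⟩ := minpoly.dvd ℚ ζ ev
  rw [← Cyc.mp hζ (pow_pos hp.pos 2)] at hC
  have c0 : C.coeff (i + p) = 0 := by
    by_cases z : C = 0
    · rw [z, coeff_zero]
    have hne : H ≠ 0 := hC ▸ mul_ne_zero (cyclotomic_ne_zero _ _) z
    have d := (natDegree_lt_iff_degree_lt hne).2 dg
    rw [hC, natDegree_mul (cyclotomic_ne_zero _ _) z, natDegree_cyclotomic, Nat.totient_prime_pow hp two_pos] at d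
    refine coeff_eq_zero_of_natDegree_lt ?_
    obtain ⟨k, rfl⟩ : ∃ k, p = k + 1 := ⟨p - 1, by have := hp.pos; omega⟩
    rw [show 2 - 1 = 1 from rfl, pow_one, Nat.add_sub_cancel] at d
    nlinarith
  have e : H * (X ^ p - 1) = C * (X ^ p ^ 2 - 1) := by
    rw [hC, cyclotomic_prime_pow_eq_geom_sum (n := 1) hp, pow_one, mul_right_comm, geom_sum_mul, ← pow_mul, ← sq,
      mul_comm]
  have := congrArg (coeff · (i + p)) e
  simp only [mul_sub, mul_one, coeff_sub, coeff_mul_X_pow, coeff_mul_X_pow', if_neg hi.not_ge, c0, co _ hi,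
    if_pos (Nat.le_add_left p i), Nat.add_sub_cancel, co i (by omega)] at this
  linarith

namespace Cyc

theorem fr (θ : K) : Module.finrank (IntermediateField.adjoin ℚ {θ}) K * (minpoly ℚ θ).natDegree = p * (p - 1) := by
  have hp : p.Prime := Fact.out
  have := IsCyclotomicExtension.finite {p ^ 2} ℚ K
  rw [← IntermediateField.adjoin.finrank (.of_finite ℚ θ), mul_comm, Module.finrank_mul_finrank,
    IsCyclotomicExtension.finrank (n := p ^ 2) K (cyclotomic.irreducible_rat (pow_pos hp.pos 2)),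
    Nat.totient_prime_pow hp two_pos]
  simp

theorem tr (hζ : IsPrimitiveRoot ζ (p ^ 2)) : Algebra.trace ℚ K 1 = p * (p - 1) ∧
    (∀ s ∈ Ico 1 p, Algebra.trace ℚ K (ζ ^ (p * s)) = -p) ∧ ∀ i, ¬ p ∣ i → Algebra.trace ℚ K (ζ ^ i) = 0 := by
  have hp : p.Prime := Fact.out
  have h2 := hp.two_le
  have := IsCyclotomicExtension.finite {p ^ 2} ℚ K
  have : CharZero K := algebraRat.charZero K
  refine ⟨?_, fun s hs => ?_, fun i hi => ?_⟩
  · have := Algebra.trace_algebraMap (R := ℚ) (S := K) 1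
    rw [map_one, IsCyclotomicExtension.finrank (n := p ^ 2) K (cyclotomic.irreducible_rat (pow_pos hp.pos 2)),
      Nat.totient_prime_pow hp two_pos] at this
    rw [this]
    simp [Nat.cast_sub hp.one_le]
  · rw [mem_Ico] at hs
    have h1 : IsPrimitiveRoot (ζ ^ (p * s)) p := by
      rw [pow_mul]
      exact (hζ.pow (pow_pos hp.pos 2) (sq p)).pow_of_coprime s
        (Nat.coprime_of_lt_prime (by omega) hs.2 hp).symm
    have f := fr (p := p) (ζ ^ (p * s))
    rw [trace_eq_finrank_mul_minpoly_nextCoeff]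
    rw [← Cyc.mp h1 hp.pos] at f ⊢
    rw [natDegree_cyclotomic, Nat.totient_prime hp] at f
    rw [Nat.eq_of_mul_eq_mul_right (by omega) f, nextCoeff_of_natDegree_pos (by
      rw [natDegree_cyclotomic, Nat.totient_prime hp]; omega), natDegree_cyclotomic, Nat.totient_prime hp,
      cyclotomic_prime, finset_sum_coeff]
    simp [coeff_X_pow, show p - 1 - 1 < p by omega]
  · have h1 : IsPrimitiveRoot (ζ ^ i) (p ^ 2) :=
      hζ.pow_of_coprime i ((hp.coprime_iff_not_dvd.2 hi).symm.pow_right 2)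
    have d : (cyclotomic (p ^ 2) ℚ).natDegree = p * (p - 1) := by
      rw [natDegree_cyclotomic, Nat.totient_prime_pow hp two_pos]; simp
    have d0 : 0 < p * (p - 1) := Nat.mul_pos hp.pos (by omega)
    rw [trace_eq_finrank_mul_minpoly_nextCoeff, ← Cyc.mp h1 (pow_pos hp.pos 2),
      nextCoeff_of_natDegree_pos (d ▸ d0), d, cyclotomic_prime_pow_eq_geom_sum (n := 1) hp, finset_sum_coeff,
      sum_eq_zero, neg_zero, mul_zero]
    intro j _
    rw [pow_one, ← pow_mul, coeff_X_pow, if_neg]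
    intro e
    have : p ∣ p * j + 1 := ⟨p - 1, by omega⟩
    exact hp.one_lt.ne' (Nat.dvd_one.1 ((Nat.dvd_add_right (dvd_mul_right p j)).1 this))

end Cyc

/-- the trace. PROOF. `Tr ζ ^ i = p (p - 1)` for `i = 0`, `- p` for `i = p s` (`0 < s < p`), `0` for `p ∤ i`
(`Algebra.trace_eq_finrank_mul_minpoly_nextCoeff`, or `trace_eq_sum_automorphisms` with `autEquivPow`); the first claim is
`Algebra.trace_eq_finrank_mul_minpoly_nextCoeff` with `e = finrank ℚ⟮θ⟯ K`, `finrank ℚ K = φ(p²)`. -/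
theorem cyc1 (hζ : IsPrimitiveRoot ζ (p ^ 2)) (h : ℕ → ℚ) (θ : K)
    (hθ : θ = ∑ i ∈ range (p ^ 2), algebraMap ℚ K (h i) * ζ ^ i) :
    ∃ e : ℕ, e * (minpoly ℚ θ).natDegree = p * (p - 1) ∧
      -(e * (minpoly ℚ θ).nextCoeff) = p * (p - 1) * h 0 - p * ∑ s ∈ Ico 1 p, h (p * s) := by
  have hp : p.Prime := Fact.out
  have := IsCyclotomicExtension.finite {p ^ 2} ℚ K
  obtain ⟨t0, t1, t2⟩ := Cyc.tr hζ
  refine ⟨_, Cyc.fr θ, ?_⟩
  rw [← mul_neg, ← trace_eq_finrank_mul_minpoly_nextCoeff, hθ, map_sum]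
  simp only [← Algebra.smul_def, map_smul, smul_eq_mul]
  rw [← sum_of_injOn (s := range p) (f := fun s => h (p * s) * Algebra.trace ℚ K (ζ ^ (p * s))) (p * ·)
    (fun a _ b _ e => Nat.eq_of_mul_eq_mul_left hp.pos e)
    (fun a ha => by
      simp only [coe_range, Set.mem_Iio, mem_range] at ha ⊢
      rw [sq]; exact Nat.mul_lt_mul_of_pos_left ha hp.pos)
    (fun i hi n => by
      rw [t2 i, mul_zero]
      rintro ⟨s, rfl⟩
      rw [mem_range, sq] at hi
      exact n ⟨s, by simpa using Nat.lt_of_mul_lt_mul_left hi, rfl⟩)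
    fun _ _ => rfl, range_eq_Ico, sum_eq_sum_Ico_succ_bot hp.pos, mul_zero, pow_zero, t0, zero_add,
    sum_congr rfl fun s hs => by rw [t1 s hs], ← sum_mul]
  ring

/-- an element of degree prime to `p` lies in `ℚ(ζ ^ p)`. PROOF. `p ∣ finrank ℚ⟮θ⟯ K = |fixingSubgroup ℚ⟮θ⟯|`
(`IsGalois.card_fixingSubgroup_eq_finrank`), Cauchy: `σ` of order `p` fixes `θ`; `σ ζ = ζ ^ u`, `u ^ p ≡ 1 [MOD p²]`, so
`u = 1 + p j`, `p ∤ j`. Sum `σ ^ m θ = θ` over `m < p`: `σ ^ m ζ ^ i = ζ ^ i * (ζ ^ (p j i)) ^ m`, so `θ = ∑_{p ∣ i} h i ζ ^ i`.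
Apply `cyc0` to `h' i = if p ∣ i then 0 else h i`. -/
theorem cyc2 (hζ : IsPrimitiveRoot ζ (p ^ 2)) (h : ℕ → ℚ) (θ : K)
    (hθ : θ = ∑ i ∈ range (p ^ 2), algebraMap ℚ K (h i) * ζ ^ i) (nd : ¬ p ∣ (minpoly ℚ θ).natDegree)
    (i : ℕ) (hi : i + p < p ^ 2) (pi : ¬ p ∣ i) : h (i + p) = h i := by
  have hp : p.Prime := Fact.out
  have := IsCyclotomicExtension.finite {p ^ 2} ℚ K
  have := IsCyclotomicExtension.isGalois {p ^ 2} ℚ K
  have : CharZero K := algebraRat.charZero K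
  have d : p ∣ Nat.card (IntermediateField.adjoin ℚ {θ}).fixingSubgroup := by
    rw [IsGalois.card_fixingSubgroup_eq_finrank]
    exact (hp.dvd_mul.1 (Cyc.fr (p := p) θ ▸ dvd_mul_right _ _)).resolve_right nd
  obtain ⟨⟨σ, hσ⟩, ho⟩ := exists_prime_orderOf_dvd_card' p d
  rw [← Subgroup.orderOf_coe] at ho
  have fx : σ θ = θ := hσ ⟨θ, IntermediateField.mem_adjoin_simple_self ℚ θ⟩
  have sp := hζ.autToPow_spec ℚ σ
  set U := hζ.autToPow ℚ σ with hU
  have Up : U ^ p = 1 := by rw [hU, ← map_pow, orderOf_dvd_iff_pow_eq_one.1 (show orderOf σ ∣ p from ho.dvd), map_one]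
  have U1 : U ≠ 1 := fun e => hp.one_lt.ne' (ho.symm.trans (orderOf_eq_one_iff.2
    (hζ.autToPow_injective ℚ (e.trans (map_one _).symm))))
  have m1 : (U : ZMod (p ^ 2)).val ^ p ≡ 1 [MOD p ^ 2] := by
    rw [← ZMod.natCast_eq_natCast_iff, Nat.cast_pow, ZMod.natCast_zmod_val, ← Units.val_pow_eq_pow_val, Up]
    simp
  have m2 : 1 ≡ (U : ZMod (p ^ 2)).val [MOD p] := by
    have := (ZMod.natCast_eq_natCast_iff _ _ _).2 (m1.of_dvd (dvd_pow_self p two_ne_zero))
    rw [Nat.cast_pow, ZMod.pow_card] at this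
    exact ((ZMod.natCast_eq_natCast_iff _ _ _).1 this).symm
  have u0 : 1 ≤ (U : ZMod (p ^ 2)).val := Nat.pos_of_ne_zero fun e => by
    rw [e] at m2
    exact hp.one_lt.ne' (Nat.dvd_one.1 ((Nat.modEq_zero_iff_dvd).1 m2))
  obtain ⟨j, hj⟩ := (Nat.modEq_iff_dvd' u0).1 m2
  have hu : (U : ZMod (p ^ 2)).val = 1 + p * j := by omega
  have pj : ¬ p ∣ j := by
    rintro ⟨k, rfl⟩
    refine U1 (Units.ext ?_)
    rw [← ZMod.natCast_zmod_val (U : ZMod (p ^ 2)), hu, ← mul_assoc, ← sq, Nat.cast_add, Nat.cast_mul,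
      ZMod.natCast_self]
    simp
  have hη : IsPrimitiveRoot (ζ ^ (p * j)) p := by
    rw [pow_mul]
    exact (hζ.pow (pow_pos hp.pos 2) (sq p)).pow_of_coprime j (hp.coprime_iff_not_dvd.2 pj).symm
  rw [hu, pow_add, pow_one] at sp
  have sη : σ (ζ ^ (p * j)) = ζ ^ (p * j) := by
    rw [map_pow, ← sp, mul_pow, pow_mul (ζ ^ (p * j)), hη.pow_eq_one, one_pow, mul_one]
  generalize ζ ^ (p * j) = η at hη sp sη
  have it : ∀ m : ℕ, θ = ∑ i ∈ range (p ^ 2), algebraMap ℚ K (h i) * ζ ^ i * (η ^ i) ^ m := fun m => by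
    induction m with
    | zero => simpa using hθ
    | succ m ih =>
      rw [← fx, ih, map_sum]
      refine sum_congr rfl fun i _ => ?_
      rw [map_mul, map_mul, AlgEquiv.commutes, map_pow, map_pow, map_pow, ← sp, sη]
      ring
  have key := cyc0 hζ (fun i => if p ∣ i then 0 else p * h i) (by
    have e1 : ∑ m ∈ range p, θ = ∑ m ∈ range p, ∑ i ∈ range (p ^ 2),
      algebraMap ℚ K (h i) * ζ ^ i * (η ^ i) ^ m := sum_congr rfl fun m _ => it m
    rw [sum_const, card_range, nsmul_eq_mul, sum_comm, hθ, mul_sum, ← sub_eq_zero, ← sum_sub_distrib] at e1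
    rw [← e1]
    refine sum_congr rfl fun i _ => ?_
    rw [← mul_sum]
    split_ifs with c
    · rw [(hη.pow_eq_one_iff_dvd i).2 c]; simp [mul_comm]
    · rw [(hη.pow_of_coprime i (hp.coprime_iff_not_dvd.2 c).symm).geom_sum_eq_zero hp.one_lt]
      simp [mul_assoc]) i hi
  simp only [Nat.dvd_add_self_right, if_neg pi] at key
  exact mul_left_cancel₀ (Nat.cast_ne_zero.2 hp.ne_zero) key

end CL.Pq
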