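/-
PERM/Pq (S3579): the eigenvalue homomorphism
-/
import Cfsg.Agent.PERM.Pq.Defs
import Cfsg.Agent.PERM.Pq.Cyc

set_option autoImplicit false

namespace CL.Pq

open MulAction Pointwise

variable {G Ω : Type*} [Group G] [Finite G] [MulAction G Ω] [Finite Ω] [FaithfulSMul G Ω] {p q : ℕ}
  {P A : Subgroup G} {x : G} {δ : Ω}

variable [Fintype Ω] [DecidableEq Ω] [Fact p.Prime] {K : Type*} [Field K] [Algebra ℚ K] {ζ : K}

omit [Finite G] [Finite Ω] [FaithfulSMul G Ω] [DecidableEq Ω] in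
/-- PROOF. Let `v : Ω → K`, `v (x ^ i • δ) = ζ ^ i`, `0` off `Δ`; `(Y v) ω = ∑_{i<p²} Y ω (x ^ i • δ) ζ ^ i =: w ω` satisfies
`w (x • ω) = ζ * w ω` (invariance, reindex `i ↦ i + 1` mod `p²`). So `w (x ^ i • δ) = ζ ^ i * th Y`, and for `ω ∉ Δ`,
`w ω = w (x ^ p • ω) = ζ ^ p * w ω`, `w ω = 0`. Then `th (X * Y) = ∑_ω X δ ω * w ω = ∑_{i<p²} X δ (x ^ i • δ) ζ ^ i th Y`. -/
theorem th_mul (l : Lc p x δ) (hζ : IsPrimitiveRoot ζ (p ^ 2)) (X : Matrix Ω Ω ℚ) {Y : Matrix Ω Ω ℚ}
    (hY : Inv G Y) : th p x δ ζ (X * Y) = th p x δ ζ X * th p x δ ζ Y := by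
  have hp : p.Prime := Fact.out
  let w : Ω → K := fun ω => ∑ i ∈ Finset.range (p ^ 2), algebraMap ℚ K (Y ω (x ^ i • δ)) * ζ ^ i
  have e0 : x ^ (p ^ 2) • δ = x ^ 0 • δ := (l.inj _ _).2 (Nat.modEq_zero_iff_dvd.2 dvd_rfl)
  have s1 : ∀ ω, w (x • ω) = w ω * ζ := fun ω => by
    have := (Finset.sum_range_succ' (fun i => algebraMap ℚ K (Y (x • ω) (x ^ i • δ)) * ζ ^ i) (p ^ 2)).symm.trans
      (Finset.sum_range_succ (fun i => algebraMap ℚ K (Y (x • ω) (x ^ i • δ)) * ζ ^ i) (p ^ 2))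
    rw [e0, hζ.pow_eq_one, pow_zero ζ, add_left_inj] at this
    refine this.symm.trans ?_
    rw [Finset.sum_mul]
    refine Finset.sum_congr rfl fun i _ => ?_
    rw [pow_succ' x, mul_smul, hY, pow_succ, mul_assoc]
  have s2 : ∀ (i : ℕ) ω, w (x ^ i • ω) = w ω * ζ ^ i := fun i ω => by
    induction i with
    | zero => simp
    | succ i ih => rw [pow_succ' x, mul_smul, s1, ih, pow_succ, mul_assoc]
  have s3 : ∀ ω, ω ∉ Dl x δ → w ω = 0 := fun ω h => by
    have := s2 p ω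
    rw [l.out ω h] at this
    have h1 : ζ ^ p ≠ 1 := hζ.pow_ne_one_of_pos_of_lt hp.pos.ne' (by nlinarith [hp.two_le])
    exact by_contra fun h0 => h1 (mul_left_cancel₀ h0 (this.symm.trans (mul_one _).symm))
  have : th p x δ ζ (X * Y) = ∑ ω, algebraMap ℚ K (X δ ω) * w ω := by
    simp only [th, w, Matrix.mul_apply, map_sum, map_mul, Finset.sum_mul, Finset.mul_sum, mul_assoc]
    exact Finset.sum_comm
  rw [this, th, Finset.sum_mul]
  refine (Finset.sum_of_injOn (fun i => x ^ i • δ) (fun i hi j hj e => ?_) (fun _ _ => Finset.mem_univ _)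
    (fun ω _ h => ?_) fun i _ => ?_).symm
  · exact Nat.ModEq.eq_of_lt_of_lt ((l.inj _ _).1 e) (by simpa using hi) (by simpa using hj)
  · rw [s3 ω fun ⟨i, hi⟩ => h ⟨i % p ^ 2, by simpa using Nat.mod_lt i (pow_pos hp.pos 2),
      ((l.inj _ _).2 (Nat.mod_modEq _ _)).trans hi⟩, mul_zero]
  · rw [s2, mul_assoc, mul_comm (ζ ^ i)]
    rfl

omit [Finite G] [Finite Ω] [FaithfulSMul G Ω] in
/-- PROOF. `Polynomial.induction_on'`; `th` is additive and `ℚ`-homogeneous, `th 1 = 1` (`inj`), `th_mul`; powers, sums and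
multiples of invariant matrices are invariant. -/
theorem th_aeval (l : Lc p x δ) (hζ : IsPrimitiveRoot ζ (p ^ 2)) {X : Matrix Ω Ω ℚ} (hX : Inv G X)
    (f : Polynomial ℚ) : Inv G (Polynomial.aeval X f) ∧
      th p x δ ζ (Polynomial.aeval X f) = Polynomial.aeval (th p x δ ζ X) f := by
  have hp : p.Prime := Fact.out
  have i1 : Inv G (1 : Matrix Ω Ω ℚ) := fun g a b => by simp [Matrix.one_apply]
  have t1 : th p x δ ζ (1 : Matrix Ω Ω ℚ) = 1 := by
    rw [th, Finset.sum_eq_single 0 (fun i hi h0 => ?_) (fun h => absurd (Finset.mem_range.2 (pow_pos hp.pos 2)) h)]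
    · rw [pow_zero, one_smul, Matrix.one_apply_eq, map_one, pow_zero, one_mul]
    · rw [Matrix.one_apply_ne fun e => h0 (Nat.ModEq.eq_of_lt_of_lt ((l.inj i 0).1 (by rw [← e, pow_zero, one_smul]))
        (Finset.mem_range.1 hi) (pow_pos hp.pos 2)), map_zero, zero_mul]
  have pw : ∀ n : ℕ, Inv G (X ^ n) ∧ th p x δ ζ (X ^ n) = th p x δ ζ X ^ n := fun n => by
    induction n with
    | zero => exact ⟨i1, by rw [pow_zero, pow_zero, t1]⟩
    | succ n ih =>
      refine ⟨fun g a b => ?_, by rw [pow_succ', th_mul l hζ X ih.1, ih.2, pow_succ']⟩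
      rw [pow_succ', Matrix.mul_apply, Matrix.mul_apply, ← Equiv.sum_comp (MulAction.toPerm g)]
      exact Finset.sum_congr rfl fun c _ => by rw [MulAction.toPerm_apply, hX, ih.1]
  induction f using Polynomial.induction_on' with
  | add f g hf hg =>
    refine ⟨fun k a b => by rw [map_add, Matrix.add_apply, Matrix.add_apply, hf.1, hg.1], ?_⟩
    rw [map_add, map_add, ← hf.2, ← hg.2]
    simp only [th, Matrix.add_apply, map_add, add_mul, Finset.sum_add_distrib]
  | monomial n c =>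
    rw [Polynomial.aeval_monomial, Polynomial.aeval_monomial, ← Algebra.smul_def, ← (pw n).2]
    refine ⟨fun k a b => by rw [Matrix.smul_apply, Matrix.smul_apply, (pw n).1], ?_⟩
    simp only [th, Matrix.smul_apply, smul_eq_mul, map_mul, Finset.mul_sum, mul_assoc]

omit [Finite G] [Finite Ω] [FaithfulSMul G Ω] [Fintype Ω] [DecidableEq Ω] in
/-- the kernel. PROOF. By `cyc0`, `h i = X δ (x ^ i • δ)` has period `p` on `[0, p²)`, hence (period `p²`) on `ℕ`. So
`X a (z • b) = X a b` for all `a b` (`z = x ^ p`): for `b ∉ Δ` trivially; for `a ∉ Δ` by invariance (`z • a = a`); for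
`a = x ^ j • δ`, `b = x ^ i • δ` move `a` to `δ` by `x ^ (p² j - j)`. The `g` with `X a (g • b) = X a b` for all `a b` form a normal subgroup
containing `z`, which moves `δ`; so it is transitive (`IsPreprimitive`, `IsBlock.orbit_of_normal`). -/
theorem th_ker (pr : IsPreprimitive G Ω) (l : Lc p x δ) (hζ : IsPrimitiveRoot ζ (p ^ 2))
    {X : Matrix Ω Ω ℚ} (hX : Inv G X) (h0 : th p x δ ζ X = 0) (a b c : Ω) : X a b = X a c := by
  have hp : p.Prime := Fact.out
  have c0 := cyc0 hζ (fun i => X δ (x ^ i • δ)) h0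
  have c1 : ∀ i < p ^ 2, X δ (x ^ i • δ) = X δ (x ^ (i % p) • δ) := fun i => by
    induction i using Nat.strong_induction_on with
    | _ i ih =>
      intro hi
      rcases lt_or_ge i p with h | h
      · rw [Nat.mod_eq_of_lt h]
      · obtain ⟨j, rfl⟩ := Nat.exists_eq_add_of_le' h
        rw [Nat.add_mod_right, ← ih j (by have := hp.pos; omega) (by omega)]
        exact c0 j hi
  have c2 : ∀ i, X δ (x ^ i • δ) = X δ (x ^ (i % p) • δ) := fun i => by
    rw [← (l.inj _ _).2 (Nat.mod_modEq i (p ^ 2)), c1 _ (Nat.mod_lt i (pow_pos hp.pos 2)),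
      Nat.mod_mod_of_dvd i (dvd_pow_self p two_ne_zero)]
  have c3 : ∀ a b, X a (x ^ p • b) = X a b := fun a b => by
    by_cases hb : b ∈ Dl x δ
    · by_cases ha : a ∈ Dl x δ
      · obtain ⟨j, rfl⟩ := ha
        obtain ⟨i, rfl⟩ := hb
        obtain ⟨n, hn⟩ := Nat.exists_eq_add_of_le' (Nat.one_le_pow 2 p hp.pos)
        have e : x ^ i • δ = x ^ j • x ^ (i + n * j) • δ := by
          rw [smul_smul, ← pow_add, l.inj, hn, show j + (i + n * j) = i + (n + 1) * j by ring]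
          exact (Nat.ModEq.symm (by simp [Nat.ModEq]))
        rw [e, smul_smul (x ^ p), ← pow_add, add_comm p, pow_add, mul_smul, hX, hX, smul_smul, ← pow_add, c2, c2 (i + n * j),
          Nat.add_mod_left]
      · rw [← hX (x ^ p) a b, l.out a ha]
    · rw [l.out b hb]
  let N : Subgroup G :=
    { carrier := {g | ∀ a b, X a (g • b) = X a b}
      one_mem' := fun a b => by rw [one_smul]
      mul_mem' := fun {g h} hg hh a b => by rw [mul_smul, hg, hh]
      inv_mem' := fun {g} hg a b => by rw [← hg a (g⁻¹ • b), smul_inv_smul] }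
  have : N.Normal := ⟨fun g hg h a b => by
    rw [mul_smul, mul_smul, ← hX h⁻¹, inv_smul_smul, hg, hX]⟩
  rcases pr.isTrivialBlock_of_isBlock (IsBlock.orbit_of_normal (N := N) δ) with h | h
  · have := (l.inj p 0).1 ((h (mem_orbit δ (⟨x ^ p, c3⟩ : N)) (mem_orbit_self δ)).trans (by simp))
    exact absurd (Nat.le_of_dvd hp.pos (Nat.modEq_zero_iff_dvd.1 this)) (by nlinarith [hp.two_le])
  · obtain ⟨g, rfl⟩ : b ∈ orbit N δ := h ▸ Set.mem_univ b
    obtain ⟨k, rfl⟩ : c ∈ orbit N δ := h ▸ Set.mem_univ c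
    exact (g.2 a δ).trans (k.2 a δ).symm

end CL.Pq
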