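/-
PERM/Pq (S3579): a transitive group of degree 2 q with a p-cycle
-/
import Cfsg.Agent.PERM.Pq.BasA
import Cfsg.Agent.S5727

set_option autoImplicit false

namespace CL.Pq

open MulAction Pointwise

variable {G Ω : Type*} [Group G] [Finite G] [MulAction G Ω] [Finite Ω] [FaithfulSMul G Ω] {p q : ℕ}
  {P A : Subgroup G} {x : G} {δ : Ω}

variable {K U V : Subgroup G} {B : Set Ω} {c : G} {β : Ω}

namespace Reg

omit [FaithfulSMul G Ω] [Finite G] in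
theorem cnt (h : Cy p q K B c β) (f g : ℕ → Ω) (fB : ∀ i, f i ∈ B) (gB : ∀ i, g i ∈ B)
    (fi : ∀ i j, f i = f j → i ≡ j [MOD p]) (gi : ∀ i j, g i = g j → i ≡ j [MOD p]) (fg : ∀ i j, f i ≠ g j) : False := by
  let F : Fin p ⊕ Fin p → B := Sum.elim (fun i => ⟨f i, fB i⟩) fun i => ⟨g i, gB i⟩
  have inj : Function.Injective F := by
    rintro (i | i) (j | j) e
    · exact congrArg _ (Fin.ext ((fi _ _ (congrArg Subtype.val e)).eq_of_lt_of_lt i.2 j.2))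
    · exact absurd (congrArg Subtype.val e) (fg _ _)
    · exact absurd (congrArg Subtype.val e).symm (fg _ _)
    · exact congrArg _ (Fin.ext ((gi _ _ (congrArg Subtype.val e)).eq_of_lt_of_lt i.2 j.2))
  have := Nat.card_le_card_of_injective F inj
  rw [Nat.card_coe_set_eq, h.card, Nat.card_sum, Nat.card_eq_fintype_card, Fintype.card_fin] at this
  have := h.lt
  omega

omit [FaithfulSMul G Ω] [Finite G] [Finite Ω] in
theorem cB (h : Cy p q K B c β) (i : ℕ) : c ^ i • β ∈ B := h.inv _ (pow_mem h.cK i) _ h.mem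

omit [FaithfulSMul G Ω] [Finite G] [Finite Ω] in
theorem mv_rel (nU : ∀ k ∈ K, ∀ u ∈ U, k * u * k⁻¹ ∈ U) {k : G} (hk : k ∈ K) {a b : Ω} (r : ∃ u ∈ U, u • a = b) :
    ∃ u ∈ U, u • k • a = k • b := by
  obtain ⟨u, hu, rfl⟩ := r
  exact ⟨_, nU k hk u hu, by rw [mul_smul, inv_smul_smul, mul_smul]⟩

omit [FaithfulSMul G Ω] [Finite G] [Finite Ω] in
theorem r_tr {a b d : Ω} (r : ∃ u ∈ U, u • a = b) (r' : ∃ u ∈ U, u • b = d) : ∃ u ∈ U, u • a = d := by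
  obtain ⟨u, hu, rfl⟩ := r
  obtain ⟨v, hv, rfl⟩ := r'
  exact ⟨_, mul_mem hv hu, mul_smul _ _ _⟩

omit [FaithfulSMul G Ω] [Finite G] [Finite Ω] in
theorem r_sy {a b : Ω} (r : ∃ u ∈ U, u • a = b) : ∃ u ∈ U, u • b = a := by
  obtain ⟨u, hu, rfl⟩ := r
  exact ⟨_, inv_mem hu, inv_smul_smul _ _⟩

omit [FaithfulSMul G Ω] [Finite G] [Finite Ω] in
theorem mult (h : Cy p q K B c β) (nU : ∀ k ∈ K, ∀ u ∈ U, k * u * k⁻¹ ∈ U) {d : ℕ} (r : ∃ u ∈ U, u • β = c ^ d • β)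
    (t : ℕ) : ∃ u ∈ U, u • β = c ^ (d * t) • β := by
  induction t with
  | zero => exact ⟨1, one_mem _, by simp⟩
  | succ t ih =>
    have := mv_rel nU (pow_mem h.cK (d * t)) r
    rw [← mul_smul, ← pow_add] at this
    exact r_tr ih this

omit [FaithfulSMul G Ω] [Finite G] [Finite Ω] in
theorem step (h : Cy p q K B c β) (nU : ∀ k ∈ K, ∀ u ∈ U, k * u * k⁻¹ ∈ U) {i j : ℕ}
    (r : ∃ u ∈ U, u • c ^ i • β = c ^ j • β) (n : ¬ i ≡ j [MOD p]) : ∃ u ∈ U, u • β = c ^ 1 • β := by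
  have h1 := mv_rel nU (pow_mem h.cK ((p - 1) * i)) r
  have e : (p - 1) * i + i = p * i := by
    obtain ⟨k, hk⟩ := Nat.exists_eq_succ_of_ne_zero h.hp.ne_zero
    rw [hk, Nat.succ_sub_one, Nat.succ_mul]
  have e0 : c ^ (p * i) • β = β := by
    have := (h.inj (p * i) 0).2 (by simp [Nat.modEq_zero_iff_dvd])
    simpa using this
  rw [← mul_smul (c ^ _) (c ^ i), ← pow_add, e, e0, ← mul_smul, ← pow_add] at h1
  have co : Nat.Coprime ((p - 1) * i + j) p := by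
    refine ((Nat.Prime.coprime_iff_not_dvd h.hp).2 fun d => n ?_).symm
    have h2 : (p - 1) * i + j ≡ (p - 1) * i + i [MOD p] := by
      rw [e]; exact (Nat.modEq_zero_iff_dvd.2 d).trans (Nat.modEq_zero_iff_dvd.2 (dvd_mul_right _ _)).symm
    exact (Nat.ModEq.add_left_cancel' _ h2).symm
  obtain ⟨t, -, ht⟩ := Nat.exists_mul_mod_eq_one_of_coprime co h.hp.one_lt
  have h3 := mult h nU h1 t
  rwa [(h.inj _ 1).2 (by rw [Nat.ModEq, ht, Nat.mod_eq_of_lt h.hp.one_lt])] at h3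

/-- the action on `B` -/
def sub (inv : ∀ u ∈ U, ∀ b ∈ B, u • b ∈ B) : SubMulAction U Ω := ⟨B, fun u _ hb => inv u.1 u.2 _ hb⟩

omit [FaithfulSMul G Ω] [Finite G] [Finite Ω] in
theorem sub_tr (inv : ∀ u ∈ U, ∀ b ∈ B, u • b ∈ B) (tr : ∀ a ∈ B, ∀ b ∈ B, ∃ u ∈ U, u • a = b) :
    IsPretransitive U (sub inv) := ⟨fun a b => by
  obtain ⟨u, hu, e⟩ := tr a.1 a.2 b.1 b.2
  exact ⟨⟨u, hu⟩, Subtype.ext e⟩⟩

omit [FaithfulSMul G Ω] [Finite Ω] in
theorem cau (inv : ∀ u ∈ U, ∀ b ∈ B, u • b ∈ B) (tr : ∀ a ∈ B, ∀ b ∈ B, ∃ u ∈ U, u • a = b)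
    (semi : ∀ u ∈ U, ∀ a ∈ B, u • a = a → ∀ b ∈ B, u • b = b) {ω : Ω} (hω : ω ∈ B) {l : ℕ} (hl : l.Prime)
    (d : l ∣ B.ncard) : ∃ u ∈ U, (∀ b ∈ B, u • b ≠ b) ∧ ∀ b ∈ B, u ^ l • b = b := by
  have := Fact.mk hl
  have := sub_tr inv tr
  let W := stabilizer U (⟨ω, hω⟩ : sub inv)
  have mW : ∀ u : U, u ∈ W ↔ u.1 • ω = ω := fun u => Subtype.ext_iff
  have : W.Normal := ⟨fun u hu g => (mW _).2 (by
    show (g.1 * u.1 * g.1⁻¹) • ω = ω
    rw [mul_smul, mul_smul, semi _ u.2 ω hω ((mW u).1 hu) _ (inv _ (inv_mem g.2) ω hω), smul_inv_smul])⟩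
  have ix : Nat.card (U ⧸ W) = B.ncard := (index_stabilizer_of_transitive U _).trans (Nat.card_coe_set_eq B)
  obtain ⟨y, hy⟩ := exists_prime_orderOf_dvd_card' (G := U ⧸ W) l (ix ▸ d)
  obtain ⟨u, rfl⟩ := QuotientGroup.mk_surjective y
  refine ⟨u.1, u.2, fun b hb e => ?_, semi _ (pow_mem u.2 l) ω hω ((mW (u ^ l)).1 ?_)⟩
  · rw [(QuotientGroup.eq_one_iff u).2 ((mW u).2 (semi _ u.2 b hb e ω hω)), orderOf_one] at hy
    exact hl.one_lt.ne hy
  · rw [← QuotientGroup.eq_one_iff, QuotientGroup.mk_pow, ← hy, pow_orderOf_eq_one]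

omit [FaithfulSMul G Ω] [Finite G] in
theorem dvd_of {F : Set Ω} {u : G} {l : ℕ} (hl : l.Prime) (iv : ∀ b ∈ F, u • b ∈ F) (nf : ∀ b ∈ F, u • b ≠ b)
    (pw : ∀ b ∈ F, u ^ l • b = b) : l ∣ F.ncard := by
  classical
  have := Fact.mk hl
  have := Fintype.ofFinite F
  let f : Function.End F := fun b => ⟨u • b.1, iv _ b.2⟩
  have hf : ∀ (n : ℕ) (b : F), ((f ^ n) b).1 = u ^ n • b.1 := by
    intro n
    induction n with
    | zero => intro b; simp; rfl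
    | succ n ih => intro b; rw [pow_succ', pow_succ', mul_smul, ← ih]; rfl
  have := Equiv.Perm.card_fixedPoints_modEq (f := f) (p := l) (n := 1)
    (funext fun b => Subtype.ext (by rw [pow_one, hf, pw _ b.2]; rfl))
  rw [Fintype.card_eq_zero_iff.2 (⟨fun b => nf _ b.1.2 (congrArg Subtype.val b.2)⟩ : IsEmpty f.fixedPoints),
    Nat.modEq_zero_iff_dvd, ← Nat.card_eq_fintype_card, Nat.card_coe_set_eq] at this
  exact this

omit [FaithfulSMul G Ω] [Finite G] [Finite Ω] in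
theorem cDl (h : Cy p q K B c β) : (Dl c β).ncard = p := by
  have e : Dl c β = Set.range fun i : Fin p => c ^ i.1 • β := by
    ext ω
    refine ⟨?_, fun ⟨i, e⟩ => ⟨i, e⟩⟩
    rintro ⟨i, rfl⟩
    exact ⟨⟨i % p, Nat.mod_lt _ h.hp.pos⟩, (h.inj _ _).2 (Nat.mod_modEq _ _)⟩
  rw [e, Set.ncard_range_of_injective fun i j e => Fin.ext (((h.inj _ _).1 e).eq_of_lt_of_lt i.2 j.2),
    Nat.card_eq_fintype_card, Fintype.card_fin]

end Reg

open Reg

omit [FaithfulSMul G Ω] in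
/-- normal subgroups are trivial or transitive on `B`. PROOF. The `U`-orbits in `B` are permuted transitively by
`K`, so have a common size `m ≥ 2`. Let `O` be the `U`-orbit of `β`. If `c • O ≠ O` the sets `c ^ i • O`, `i < p`, are `p` distinct
`U`-orbits (`c ^ p • β = β`, `p` prime), `2 p ≤ 2 q`, false. So `O ⊇ Dl c β`, `m ≥ p > q`; a second orbit would give
`2 m ≤ 2 q`. -/
theorem Cy.prim (h : Cy p q K B c β) (le : U ≤ K) (nU : ∀ k ∈ K, ∀ u ∈ U, k * u * k⁻¹ ∈ U)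
    (mv : ∃ u ∈ U, ∃ b ∈ B, u • b ≠ b) : ∀ a ∈ B, ∀ b ∈ B, ∃ u ∈ U, u • a = b := by
  have r1 : ∃ u ∈ U, u • β = c ^ 1 • β := by
    by_contra n
    obtain ⟨u, hu, b, hb, ne⟩ := mv
    obtain ⟨k, hk, rfl⟩ := h.tr β h.mem b hb
    have hw := nU _ (inv_mem hk) u hu
    have nw : (k⁻¹ * u * k⁻¹⁻¹) • β ≠ β := by
      rw [inv_inv, mul_smul, mul_smul, Ne, inv_smul_eq_iff]; exact ne
    generalize k⁻¹ * u * k⁻¹⁻¹ = w at hw nw
    have rw' : ∀ i, ∃ u ∈ U, u • c ^ i • β = c ^ i • w • β := fun i => mv_rel nU (pow_mem h.cK i) ⟨w, hw, rfl⟩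
    refine cnt h (fun i => c ^ i • β) (fun i => c ^ i • w • β) (cB h)
      (fun i => h.inv _ (pow_mem h.cK i) _ (h.inv _ (le hw) _ h.mem)) (fun i j => (h.inj i j).1) (fun i j e => ?_) fun i j e => ?_
    · by_contra n'
      exact n (step h nU (r_tr (rw' i) (r_sy ((show c ^ i • w • β = c ^ j • w • β from e) ▸ rw' j))) n')
    · have e : c ^ i • β = c ^ j • w • β := e
      by_cases n' : j ≡ i [MOD p]
      · have h1 := (h.inj j i).2 n'
        exact nw (smul_left_cancel _ (e.symm.trans h1.symm))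
      · exact n (step h nU (e ▸ rw' j) n')
  have r2 : ∀ i, ∃ u ∈ U, u • β = c ^ i • β := fun i => by simpa using mult h nU r1 i
  intro a ha b hb
  by_contra n
  obtain ⟨k, hk, rfl⟩ := h.tr β h.mem a ha
  obtain ⟨l, hl, rfl⟩ := h.tr β h.mem b hb
  refine cnt h (fun i => k • c ^ i • β) (fun i => l • c ^ i • β) (fun i => h.inv _ hk _ (cB h i))
    (fun i => h.inv _ hl _ (cB h i)) (fun i j e => (h.inj i j).1 (smul_left_cancel _ e))
    (fun i j e => (h.inj i j).1 (smul_left_cancel _ e)) fun i j e => n ?_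
  exact r_tr (mv_rel nU hk (r2 i)) (r_sy ((show k • c ^ i • β = l • c ^ j • β from e) ▸ mv_rel nU hl (r2 j)))

omit [FaithfulSMul G Ω] in
/-- no two commuting normal subgroups. PROOF. `U`, `V` are transitive on `B` (`Cy.prim`), so `u ∈ U` fixing a point of `B`
fixes `B` pointwise. Let `ω ∈ B ∖ Dl c β` (`2 q > p`), `W = U ⊓ G_ω`, normal in `U`, of index `2 q`.
`Y = {u ∈ U | c • u • ω = u • ω}` is a subgroup (`u ∈ Y ↔ u⁻¹ (c u c⁻¹) ∈ W`, i.e. `c u c⁻¹` and `u` act equally on `B`), `W ≤ Y`,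
`[Y : W] = 2 q - p =: r` (the fixed points of `c` in `B`), so `r ∣ 2 q`, `r` odd, `r < q`: `r = 1`. Cauchy in `U ⧸ W`:
`u, v ∈ U ∖ W`, `u ^ 2, v ^ q ∈ W`; `u • ω = c ^ i • β`, `v • ω = c ^ j • β`, so `v` and `c ^ k u c ^ (-k)` (`k = j + (p-1) i`) agree at `ω`, so
on `B`; so `v ^ 2` fixes `ω`, `v ∈ W` (`q` odd), false. -/
theorem Cy.regl (h : Cy p q K B c β) (le : U ≤ K) (nU : ∀ k ∈ K, ∀ u ∈ U, k * u * k⁻¹ ∈ U)
    (mv : ∃ u ∈ U, ∃ b ∈ B, u • b ≠ b) (le' : V ≤ K) (nV : ∀ k ∈ K, ∀ v ∈ V, k * v * k⁻¹ ∈ V)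
    (mv' : ∃ v ∈ V, ∃ b ∈ B, v • b ≠ b) (cm : ∀ u ∈ U, ∀ v ∈ V, u * v = v * u) : False := by
  have tU := h.prim le nU mv
  have tV := h.prim le' nV mv'
  have iU : ∀ u ∈ U, ∀ b ∈ B, u • b ∈ B := fun u hu => h.inv u (le hu)
  have semi : ∀ u ∈ U, ∀ a ∈ B, u • a = a → ∀ b ∈ B, u • b = b := by
    intro u hu a ha e b hb
    obtain ⟨v, hv, rfl⟩ := tV a ha b hb
    rw [← mul_smul, cm u hu v hv, mul_smul, e]
  have sb : Dl c β ⊆ B := by rintro _ ⟨i, rfl⟩; exact cB h i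
  have cF : (B \ Dl c β).ncard = 2 * q - p := by rw [Set.ncard_sdiff sb, h.card, cDl h]
  have l1 := h.lt
  have l2 := h.lt2
  have l3 := h.q3
  obtain ⟨ω, hω, nω⟩ : (B \ Dl c β).Nonempty := Set.nonempty_of_ncard_ne_zero (by omega)
  have cω : ∀ k : ℕ, c ^ k • ω = ω := fun k => pow_mem (show c ∈ stabilizer G ω from h.out ω hω nω) k
  have c1 : c • β ≠ β := fun e => by
    have := (h.inj 1 0).1 (by simpa using e)
    exact h.hp.one_lt.ne' (Nat.dvd_one.1 (Nat.modEq_zero_iff_dvd.1 this))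
  have agr : ∀ u ∈ U, ∀ v ∈ U, u • ω = v • ω → ∀ b ∈ B, u • b = v • b := by
    intro u hu v hv e b hb
    have := semi _ (mul_mem (inv_mem hv) hu) ω hω (by rw [mul_smul, e, inv_smul_smul]) b hb
    rwa [mul_smul, inv_smul_eq_iff] at this
  have key : ∀ l : ℕ, l.Prime → l ∣ 2 * q → ¬ l ∣ 2 * q - p →
      ∃ u ∈ U, (∃ i : ℕ, c ^ i • β = u • ω) ∧ u • ω ≠ ω ∧ ∀ b ∈ B, u ^ l • b = b := by
    intro l hl d nd
    obtain ⟨u, hu, nf, pw⟩ := cau iU tU semi hω hl (h.card ▸ d)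
    refine ⟨u, hu, ?_, nf ω hω, pw⟩
    by_contra n
    refine nd (cF ▸ dvd_of hl (u := u) (fun b hb => ⟨iU u hu b hb.1, ?_⟩) (fun b hb => nf b hb.1) fun b hb => pw b hb.1)
    have h1 := agr _ (nU c h.cK u hu) u hu (by
      rw [mul_smul, mul_smul, inv_smul_eq_iff.2 (h.out ω hω nω).symm, h.out _ (iU u hu ω hω) n]) b hb.1
    rw [mul_smul, mul_smul, inv_smul_eq_iff.2 (h.out b hb.1 hb.2).symm] at h1
    rintro ⟨i, e⟩
    rw [← e, ← mul_smul, ← pow_succ', pow_succ, mul_smul, smul_left_cancel_iff] at h1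
    exact c1 h1
  have op : Odd p := h.hp.odd_of_ne_two (by omega)
  obtain ⟨t, ht⟩ : Odd q := h.hq.odd_of_ne_two (by omega)
  obtain ⟨u, hu, ⟨i, ei⟩, -, pu⟩ := key 2 Nat.prime_two (dvd_mul_right _ _) (by obtain ⟨s, hs⟩ := op; omega)
  obtain ⟨v, hv, ⟨j, ej⟩, nv, pv⟩ := key q h.hq (dvd_mul_left _ _) (Nat.not_dvd_of_pos_of_lt (by omega) (by omega))
  have e : j + (p - 1) * i + i = j + p * i := by
    obtain ⟨k, hk⟩ := Nat.exists_eq_succ_of_ne_zero h.hp.ne_zero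
    rw [hk, Nat.succ_sub_one, Nat.succ_mul, add_assoc]
  set g := c ^ (j + (p - 1) * i) with hg
  have gK : g ∈ K := pow_mem h.cK _
  have h1 := agr _ (nU g gK u hu) v hv (by
    rw [mul_smul, mul_smul, inv_smul_eq_iff.2 (cω _).symm, ← ei, ← ej, hg, ← mul_smul, ← pow_add, e]
    exact (h.inj _ _).2 (by simp [Nat.ModEq]))
  have h2 : v ^ 2 • ω = ω := by
    rw [pow_two, mul_smul, ← h1 _ (iU v hv ω hω), ← h1 ω hω, ← mul_smul, ← pow_two, conj_pow, mul_smul, mul_smul,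
      pu _ (h.inv _ (inv_mem gK) ω hω), smul_inv_smul]
  have h3 : (v ^ 2) ^ t • ω = ω := pow_mem (show v ^ 2 ∈ stabilizer G ω from h2) t
  have h4 := pv ω hω
  rw [ht, pow_succ', pow_mul, mul_smul, h3] at h4
  exact nv h4

omit [FaithfulSMul G Ω] in
/-- a group acting faithfully and transitively on the set `B` of size `2 q` has an element of order `q` without fixed
points on `B`. PROOF. S5727 (`m = 2`) for the action of `↥U` on `↥B` (or directly: a Sylow `q`-subgroup has two orbits of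
size `q`, and `avoid`). -/
theorem der_on (hq : q.Prime) (card : B.ncard = 2 * q) (inv : ∀ u ∈ U, ∀ b ∈ B, u • b ∈ B)
    (tr : ∀ a ∈ B, ∀ b ∈ B, ∃ u ∈ U, u • a = b) (fa : ∀ u ∈ U, (∀ b ∈ B, u • b = b) → u = 1) :
    ∃ u ∈ U, orderOf u = q ∧ ∀ b ∈ B, u • b ≠ b := by
  have := Fintype.ofFinite (sub inv)
  have : FaithfulSMul U (sub inv) := faithfulSMul_iff.2 fun u e =>
    Subtype.ext (fa u.1 u.2 fun b hb => congrArg Subtype.val (e ⟨b, hb⟩))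
  obtain ⟨u, o, nf⟩ := Cfsg.Agent.S5727.result (sub_tr inv tr) q 2 hq (by norm_num) hq.two_le
    (by rw [← Nat.card_eq_fintype_card, ← card]; exact Nat.card_coe_set_eq B)
  exact ⟨u.1, u.2, (Subgroup.orderOf_coe u).trans o, fun b hb e => nf ⟨b, hb⟩ (Subtype.ext e)⟩

end CL.Pq
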