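/-
PERM/Pq (S3579): the imprimitive case
-/
import Cfsg.Agent.PERM.Pq.BasB
import Cfsg.Agent.PERM.Pq.Reg
import Cfsg.Agent.TECH.SylIn

set_option autoImplicit false

namespace CL.Pq

open MulAction Pointwise

variable {G Ω : Type*} [Group G] [Finite G] [MulAction G Ω] [Finite Ω] [FaithfulSMul G Ω] {p q : ℕ}
  {P A : Subgroup G} {x : G} {δ : Ω}

variable {B : Set Ω}

namespace ImpX

omit [Finite G] [Finite Ω] [FaithfulSMul G Ω] in
theorem kb {k : G} (hk : k ∈ Kb x B) (i : ℕ) {b : Ω} (hb : b ∈ x ^ i • B) : k • b ∈ x ^ i • B := by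
  have h : k • x ^ i • B = x ^ i • B := Subgroup.mem_iInf.1 hk i
  rw [← h]
  exact Set.smul_mem_smul_set hb

omit [Finite G] [Finite Ω] [FaithfulSMul G Ω] in
theorem pr (s : Sy p q A x δ B) {i j : ℕ} (e : i ≡ j [MOD p]) : x ^ i • B = x ^ j • B := by
  have k : ∀ n : ℕ, x ^ (p * n) • B = B := fun n => by
    induction n with
    | zero => simp
    | succ n ih => rw [Nat.mul_succ, pow_add, mul_smul, s.per, ih]
  have k2 : ∀ i : ℕ, x ^ i • B = x ^ (i % p) • B := fun i => by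
    conv_lhs => rw [← Nat.mod_add_div i p, pow_add, mul_smul, k]
  rw [k2 i, k2 j, e]

omit [FaithfulSMul G Ω] [Finite Ω] [MulAction G Ω] in
theorem md [Fact p.Prime] {X : Subgroup G} {t : G} {a : ℕ} (tp : t ^ p ^ a = 1)
    (tn : t ∈ Subgroup.normalizer (X : Set G)) :
    Nat.card X ≡ Nat.card ↥(X ⊓ Subgroup.centralizer {t}) [MOD p] := by
  have pt : IsPGroup p (Subgroup.zpowers t) := CL.MSS.isPGroup_zpowers tp
  have le : Subgroup.zpowers t ≤ Subgroup.normalizer (X : Set G) := Subgroup.zpowers_le.2 tn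
  let _ : MulAction (Subgroup.zpowers t) X :=
    { smul := fun g x => ⟨g * x * (g : G)⁻¹, (Subgroup.mem_normalizer_iff.1 (le g.2) x).1 x.2⟩
      one_smul := fun x => Subtype.ext (by show ((1 : G) * x * (1 : G)⁻¹) = x; simp)
      mul_smul := fun a b x => Subtype.ext (by
        show (a : G) * b * x * ((a : G) * b)⁻¹ = a * (b * x * (b : G)⁻¹) * (a : G)⁻¹
        group) }
  have h := pt.card_modEq_card_fixedPoints X
  have e : Nat.card (MulAction.fixedPoints (Subgroup.zpowers t) X) =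
      Nat.card ↥(X ⊓ Subgroup.centralizer {t}) := by
    refine Nat.card_congr ⟨fun x => ⟨x.1.1, x.1.2, ?_⟩, fun x => ⟨⟨x.1, x.2.1⟩, ?_⟩, fun _ => rfl, fun _ => rfl⟩
    · have := congrArg Subtype.val (x.2 ⟨t, Subgroup.mem_zpowers t⟩)
      exact Subgroup.mem_centralizer_singleton_iff.2 (mul_inv_eq_iff_eq_mul.1 this).symm
    · rintro ⟨g, n, rfl⟩
      have c : Commute (x.1 : G) t := Subgroup.mem_centralizer_singleton_iff.1 x.2.2
      exact Subtype.ext (mul_inv_eq_iff_eq_mul.2 (c.zpow_right n).symm.eq)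
  rwa [e] at h

omit [FaithfulSMul G Ω] [Finite G] in
theorem dvd_fac {Q : Subgroup G} (inv : ∀ k ∈ Q, ∀ b ∈ B, k • b ∈ B)
    (fa : ∀ k ∈ Q, (∀ b ∈ B, k • b = b) → k = 1) : Nat.card Q ∣ (B.ncard).factorial := by
  let _ : MulAction Q B :=
    { smul := fun g b => ⟨(g : G) • (b : Ω), inv g g.2 b b.2⟩
      one_smul := fun b => Subtype.ext (one_smul G (b : Ω))
      mul_smul := fun a a' b => Subtype.ext (mul_smul (a : G) a' (b : Ω)) }
  have inj : Function.Injective (MulAction.toPermHom Q B) := by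
    rw [injective_iff_map_eq_one]
    intro g hg
    exact Subtype.ext (fa g g.2 fun b hb => congrArg Subtype.val (Equiv.congr_fun hg ⟨b, hb⟩))
  have := Subgroup.card_dvd_of_injective _ inj
  rwa [Nat.card_perm, Nat.card_coe_set_eq] at this

/-- `k` moves a point of the block number `i` -/
def Mv (x : G) (B : Set Ω) (k : G) (i : ZMod p) : Prop := ∃ b ∈ x ^ i.val • B, k • b ≠ b

/-- the elements of the kernel supported on the blocks with number in `I` -/
def KI (x : G) (B : Set Ω) (I : Set (ZMod p)) : Subgroup G where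
  carrier := {k | k ∈ Kb x B ∧ ∀ i, i ∉ I → ∀ b ∈ x ^ i.val • B, k • b = b}
  one_mem' := ⟨one_mem _, fun _ _ b _ => one_smul G b⟩
  mul_mem' := fun ha hb => ⟨mul_mem ha.1 hb.1, fun i hi b h => by rw [mul_smul, hb.2 i hi b h, ha.2 i hi b h]⟩
  inv_mem' := fun ha => ⟨inv_mem ha.1, fun i hi b h => inv_smul_eq_iff.2 (ha.2 i hi b h).symm⟩

omit [Finite G] [Finite Ω] [FaithfulSMul G Ω] in
theorem nKI (I : Set (ZMod p)) : ∀ k ∈ Kb x B, ∀ u ∈ KI x B I, k * u * k⁻¹ ∈ KI x B I :=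
  fun k hk u hu => ⟨mul_mem (mul_mem hk hu.1) (inv_mem hk), fun i hi b h => by
    rw [mul_smul, mul_smul, hu.2 i hi _ (kb (inv_mem hk) _ h), smul_inv_smul]⟩

omit [Finite G] [Finite Ω] [FaithfulSMul G Ω] in
theorem memKI {k : G} (hk : k ∈ Kb x B) : k ∈ KI x B {i : ZMod p | Mv x B k i} :=
  ⟨hk, fun _ hi b h => by
    by_contra n
    exact hi ⟨b, h, n⟩⟩

omit [Finite G] [Finite Ω] [FaithfulSMul G Ω] in
theorem shift [NeZero p] (s : Sy p q A x δ B) (t : ℕ) (i : ZMod p) (b : Ω) :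
    x ^ t • b ∈ x ^ (i + t).val • B ↔ b ∈ x ^ i.val • B := by
  rw [pr s (i := (i + t).val) (j := t + i.val), pow_add, mul_smul, Set.smul_mem_smul_set_iff]
  rw [← ZMod.natCast_eq_natCast_iff]
  simp [add_comm]

omit [Finite G] [Finite Ω] [FaithfulSMul G Ω] in
theorem mv_cj [NeZero p] (s : Sy p q A x δ B) (t : ℕ) (k : G) (i : ZMod p) :
    Mv x B (x ^ t * k * (x ^ t)⁻¹) (i + (t : ZMod p)) ↔ Mv x B k i := by
  constructor
  · rintro ⟨b, hb, n⟩
    refine ⟨(x ^ t)⁻¹ • b, (shift s t i _).1 (by rwa [smul_inv_smul]), fun e => n ?_⟩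
    rw [mul_smul, mul_smul, e, smul_inv_smul]
  · rintro ⟨b, hb, n⟩
    refine ⟨x ^ t • b, (shift s t i _).2 hb, fun e => n ?_⟩
    rw [mul_smul, mul_smul, inv_smul_smul] at e
    exact smul_left_cancel _ e

omit [Finite G] [Finite Ω] [FaithfulSMul G Ω] in
theorem cv [NeZero p] (s : Sy p q A x δ B) (ω : Ω) : ∃ i : ZMod p, ω ∈ x ^ i.val • B := by
  obtain ⟨i, hi, h⟩ := s.cov ω
  exact ⟨i, by rwa [ZMod.val_cast_of_lt hi]⟩

omit [Finite G] [Finite Ω] in
theorem one_of [NeZero p] (s : Sy p q A x δ B) {k : G} (h : ∀ i : ZMod p, ¬ Mv x B k i) : k = 1 := by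
  refine eq_of_smul_eq_smul (α := Ω) fun ω => ?_
  obtain ⟨i, hi⟩ := cv s ω
  rw [one_smul]
  by_contra n
  exact h i ⟨ω, hi, n⟩

end ImpX

open ImpX

omit [FaithfulSMul G Ω] in
/-- `z = x ^ p` is a `p`-cycle on `B`. PROOF. `B ∩ Δ = ⟨z⟩ δ` (`x ^ i • δ ∈ B ∩ x ^ i • B` gives `p ∣ i` by `dis`); `Bc.fix`. -/
theorem Sy.cy (h : St G Ω p q) (c : Bc p P A x δ) (s : Sy p q A x δ B) :
    Cy p q (Kb x B) B (x ^ p) δ := by
  refine ⟨h.hp, h.hq, h.q3, h.lt, h.lt2, s.card, fun k hk b hb => ?_, s.tr, s.le c.zA, s.mem, fun i j => ?_,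
    fun b hb n => ((c.fix h.hp).1 b).1 ?_⟩
  · simpa using kb hk 0 (b := b) (by simpa using hb)
  · rw [← pow_mul, ← pow_mul, c.inj, pow_two]
    exact ⟨fun e => Nat.ModEq.mul_left_cancel' h.hp.ne_zero e, fun e => e.mul_left' p⟩
  · rintro ⟨i, rfl⟩
    have e := s.dis i 0 _ (Set.smul_mem_smul_set s.mem) (by simpa using hb)
    obtain ⟨t, rfl⟩ := Nat.modEq_zero_iff_dvd.1 e
    exact n ⟨t, by rw [pow_mul]⟩

/-- the kernel `K` is faithful on `B`. PROOF. `der_on` gives `k ∈ K` of order `q` without fixed points on `B`, with cycles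
`O₁ ∋ β₁`, `O₂ ∋ β₂`. Let `Q ∋ k` be a Sylow `q`-subgroup of `K`. `Q`-orbits on `B` have `q`-power size `≤ 2 q < q²`, so
`[Q : Q_{βᵢ}] = q`, `Q_{βᵢ}` is normal in `Q` (`nrm_of_card`), fixes `Oᵢ` pointwise, `Q_{β₁} ⊓ Q_{β₂} = 1`, `|Q| ∣ q²`. Frattini
(`Sylow.normalizer_sup_eq_top`): `x = n k'`, `n ∈ N(Q)`, `k' ∈ K`; `orderOf n = p ^ a m`, `p ∤ m`, `x' = n ^ m` is a `p`-element with
`x' ^ i • B = x ^ (m i) • B` (`K` normal, stabilises all translates). `|C_Q(x')| ≡ |Q| [MOD p]`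
(`IsPGroup.card_modEq_card_fixedPoints`), both in `{1, q, q²}`, `p ≥ q + 2`: so `x'` centralises `Q`. Hence `k` has no fixed
point on any `x' ^ i • B`; these cover `Ω` (`cov`, `per`, `p ∤ m`), contra `el`. -/
theorem Sy.faith (h : St G Ω p q) (c : Bc p P A x δ) (s : Sy p q A x δ B)
    (fa : ∀ k ∈ Kb x B, (∀ b ∈ B, k • b = b) → k = 1) : False := by
  have := Fact.mk h.hp
  have := Fact.mk h.hq
  have cy := s.cy h c
  obtain ⟨k, hk, ok, mk⟩ := der_on h.hq s.card cy.inv s.tr fa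
  obtain ⟨Q, hQ, kQ⟩ := CL.MSS.exists_sylIn_ge (p := q) (R := Subgroup.zpowers k) (H := Kb x B)
    (CL.MSS.isPGroup_zpowers (k := 1) (by rw [pow_one, ← ok, pow_orderOf_eq_one])) (Subgroup.zpowers_le.2 hk)
  have nK := s.nrm
  obtain ⟨k', hk', y, hy, e⟩ := hQ.frattini (x := x) (by rw [Subgroup.normalizer_eq_top]; trivial)
  have pw : ∀ i : ℕ, ∃ g ∈ Kb x B, y ^ i = g * x ^ i := by
    intro i
    induction i with
    | zero => exact ⟨1, one_mem _, by simp⟩
    | succ i ih =>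
      obtain ⟨g, hg, eg⟩ := ih
      refine ⟨k'⁻¹ * (x * g * x⁻¹), mul_mem (inv_mem hk') (nK.conj_mem _ hg x), ?_⟩
      have : y = k'⁻¹ * x := by rw [e]; group
      rw [pow_succ', eg, pow_succ', this]; group
  obtain ⟨a, m, hm, em⟩ := Nat.exists_eq_pow_mul_and_not_dvd (orderOf_pos y).ne' p h.hp.one_lt.ne'
  have h1 := md (p := p) (X := Q) (t := y ^ m) (a := a)
    (by rw [← pow_mul, mul_comm, ← em, pow_orderOf_eq_one]) (pow_mem hy m)
  obtain ⟨u, hu⟩ := IsPGroup.iff_card.1 hQ.pgroup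
  have u2 : u ≤ 2 := by
    have d := dvd_fac (B := B) (Q := Q) (fun g hg => cy.inv g (hQ.le hg)) fun g hg => fa g (hQ.le hg)
    have q3 := h.q3
    rw [hu, s.card, h.hq.pow_dvd_factorial_iff (b := 2)
      (Nat.log_lt_of_lt_pow (by omega) (by nlinarith))] at d
    simpa [Nat.mul_div_cancel _ h.hq.pos] using d
  obtain ⟨v, hv, ev⟩ := (Nat.dvd_prime_pow h.hq).1
    (hu ▸ Subgroup.card_dvd_of_le (inf_le_left : Q ⊓ Subgroup.centralizer {y ^ m} ≤ Q))
  have uv : u = v := by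
    by_contra ne
    obtain ⟨d, rfl⟩ := Nat.exists_eq_add_of_le hv
    rw [hu, ev, pow_add] at h1
    have cop : Nat.gcd p (q ^ v) = 1 :=
      Nat.Coprime.pow_right _ ((Nat.coprime_primes h.hp h.hq).2 h.lt.ne')
    have h2 : q ^ d ≡ 1 [MOD p] := Nat.ModEq.cancel_left_of_coprime cop (by rwa [mul_one])
    have h3 : q ^ 2 ≡ 1 [MOD p] := by
      have : d = 1 ∨ d = 2 := by omega
      rcases this with rfl | rfl
      · simpa using h2.pow 2
      · exact h2
    have q3 := h.q3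
    have h4 : p ∣ (q + 1) * (q - 1) := by
      have := (Nat.modEq_iff_dvd' (Nat.one_le_pow 2 q h.hq.pos)).1 h3.symm
      rwa [← one_pow 2, Nat.sq_sub_sq] at this
    have n1 := h.num.1
    rcases (Nat.Prime.dvd_mul h.hp).1 h4 with d | d <;> have := Nat.le_of_dvd (by omega) d <;> omega
  have eq : Q ⊓ Subgroup.centralizer {y ^ m} = Q :=
    Subgroup.eq_of_le_of_card_ge inf_le_left (by rw [hu, ev, uv])
  have cm : Commute k (y ^ m) :=
    Subgroup.mem_centralizer_singleton_iff.1 (eq.ge (kQ (Subgroup.mem_zpowers k))).2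
  obtain ⟨ω, hω⟩ := h.el k (ok ▸ h.hq)
  obtain ⟨j, -, hj⟩ := s.cov ω
  obtain ⟨i, hi⟩ : ∃ i, m * i ≡ j [MOD p] := by
    obtain ⟨i, -, hi⟩ := Nat.exists_mul_mod_eq_one_of_coprime
      ((Nat.Prime.coprime_iff_not_dvd h.hp).2 hm).symm h.hp.one_lt
    refine ⟨i * j, ?_⟩
    have : m * i ≡ 1 [MOD p] := by rw [Nat.ModEq, hi, Nat.mod_eq_of_lt h.hp.one_lt]
    simpa [mul_assoc] using this.mul_right j
  obtain ⟨g, hg, eg⟩ := pw (m * i)
  have hb : ω ∈ (y ^ m) ^ i • B := by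
    have : g • x ^ (m * i) • B = x ^ (m * i) • B := Subgroup.mem_iInf.1 hg (m * i)
    rwa [← pow_mul, eg, mul_smul, this, pr s hi]
  obtain ⟨b, hb, rfl⟩ := hb
  refine mk b hb (smul_left_cancel ((y ^ m) ^ i) ?_)
  rw [← mul_smul, ← (cm.pow_right i).eq, mul_smul]
  exact hω

/-- the kernel `K` is not faithful on `B`. PROOF. For `I ⊆ ZMod p` let `K_I = {k ∈ K | k fixes x ^ i • B pointwise for (i : ZMod p) ∉ I}`,
normal in `K`, `x ^ t K_I x ^ (-t) = K_{I + t}`, `K_I ⊓ K_J = K_{I ∩ J}`, `K_∅ = 1` (`cov`). Take `I ∌ 0`... any `I` of least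
size with `K_I ≠ 1`; `|I| < p` by hypothesis; `K_I` moves a point of each `x ^ i • B`, `i ∈ I` (minimality); translate so that
`0 ∈ I`. If `i ∈ I`, `i ≠ 0`: `J = I - i ∋ 0`, `J ≠ I` (else `I` is closed under `- i`, `I = ZMod p`), `|J| = |I|`, `K_I ⊓ K_J = 1`, so
`K_I`, `K_J` commute (`Subgroup.commute_of_normal_of_disjoint` in `↥K`, or directly), contra `Cy.regl`. So `I = {0}`: `U = K_I`
is supported on `B`, transitive on `B` (`Cy.prim`), `der_on` gives `u`. Then `w = ∏_{i<p} x ^ i u x ^ (-i)` (commuting factors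
with disjoint supports; e.g. `Finset.noncommProd`, or build it by induction on `i`) acts on `x ^ i • B` as `x ^ i u x ^ (-i)`: no fixed
point, `w ^ q = 1`, contra `el`. -/
theorem Sy.nfaith (h : St G Ω p q) (c : Bc p P A x δ) (s : Sy p q A x δ B)
    (nf : ∃ k ∈ Kb x B, k ≠ 1 ∧ ∀ b ∈ B, k • b = b) : False := by
  classical
  have := Fact.mk h.hp
  have cy := s.cy h c
  have nK := s.nrm
  have b0 : x ^ (0 : ZMod p).val • B = B := by simp
  obtain ⟨kf, hkf, kf1, kfB⟩ := nf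
  obtain ⟨k0, ⟨hk0, k01⟩, mn⟩ := (measure fun k : G => {i : ZMod p | Mv x B k i}.ncard).wf.has_min
    {k | k ∈ Kb x B ∧ k ≠ 1} ⟨kf, hkf, kf1⟩
  replace mn : ∀ k ∈ Kb x B, k ≠ 1 → {i : ZMod p | Mv x B k0 i}.ncard ≤ {i : ZMod p | Mv x B k i}.ncard :=
    fun k hk k1 => not_lt.1 (mn k ⟨hk, k1⟩)
  have tr : ∀ (k : G) (i : ZMod p),
      {j : ZMod p | Mv x B (x ^ (-i).val * k * (x ^ (-i).val)⁻¹) j} = (· - i) '' {j : ZMod p | Mv x B k j} := by
    intro k i
    ext j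
    have := mv_cj s (-i).val k (j + i)
    rw [ZMod.natCast_zmod_val, add_neg_cancel_right] at this
    rw [Set.mem_setOf_eq, this]
    exact ⟨fun a => ⟨j + i, a, by simp⟩, by rintro ⟨l, a, rfl⟩; simpa using a⟩
  have cj1 : ∀ (k g : G), k ≠ 1 → g * k * g⁻¹ ≠ 1 := fun k g k1 e => k1 (by simpa using e)
  -- normalise: `0` lies in the support
  obtain ⟨k, hk, k1, mk, m0⟩ : ∃ k ∈ Kb x B, k ≠ 1 ∧ (∀ k' ∈ Kb x B, k' ≠ 1 →
      {i : ZMod p | Mv x B k i}.ncard ≤ {i : ZMod p | Mv x B k' i}.ncard) ∧ Mv x B k (0 : ZMod p) := by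
    obtain ⟨i, hi⟩ : ∃ i : ZMod p, Mv x B k0 i := by
      by_contra n
      exact k01 (one_of s fun i hi => n ⟨i, hi⟩)
    refine ⟨x ^ (-i).val * k0 * (x ^ (-i).val)⁻¹, nK.conj_mem _ hk0 _, cj1 _ _ k01, fun k' a b => ?_, ?_⟩
    · rw [tr, Set.ncard_image_of_injective _ sub_left_injective]
      exact mn k' a b
    · have : (0 : ZMod p) ∈ (· - i) '' {j : ZMod p | Mv x B k0 j} := ⟨i, hi, by simp⟩
      rwa [← tr] at this
  have mvB : ∀ u : G, Mv x B u (0 : ZMod p) → ∃ b ∈ B, u • b ≠ b := fun u hu => b0 ▸ hu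
  by_cases h0 : ∃ i : ZMod p, i ≠ 0 ∧ Mv x B k i
  · obtain ⟨i, i0, hi⟩ := h0
    obtain ⟨k', ek⟩ : ∃ k', k' = x ^ (-i).val * k * (x ^ (-i).val)⁻¹ := ⟨_, rfl⟩
    have hk' : k' ∈ Kb x B := ek ▸ nK.conj_mem _ hk _
    have t := tr k i
    rw [← ek] at t
    have m0' : Mv x B k' (0 : ZMod p) := by
      have : (0 : ZMod p) ∈ (· - i) '' {j : ZMod p | Mv x B k j} := ⟨i, hi, by simp⟩
      rwa [← t] at this
    refine cy.regl (U := KI x B {j : ZMod p | Mv x B k j}) (V := KI x B {j : ZMod p | Mv x B k' j})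
      (fun _ a => a.1) (nKI _) ⟨k, memKI hk, mvB k m0⟩ (fun _ a => a.1) (nKI _) ⟨k', memKI hk', mvB k' m0'⟩
      fun u hu v hv => ?_
    by_contra ne
    have w1 : u * v * u⁻¹ * v⁻¹ ≠ 1 := fun e => ne (by
      rw [mul_inv_eq_one, mul_inv_eq_iff_eq_mul] at e; exact e)
    have wU : u * v * u⁻¹ * v⁻¹ ∈ KI x B {j : ZMod p | Mv x B k j} := by
      have := mul_mem hu (nKI _ v hv.1 _ (inv_mem hu))
      rwa [← mul_assoc, ← mul_assoc] at this
    have wV : u * v * u⁻¹ * v⁻¹ ∈ KI x B {j : ZMod p | Mv x B k' j} := mul_mem (nKI _ u hu.1 _ hv) (inv_mem hv)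
    generalize u * v * u⁻¹ * v⁻¹ = w at w1 wU wV
    have sub : ∀ {I : Set (ZMod p)}, w ∈ KI x B I → {j : ZMod p | Mv x B w j} ⊆ I := fun a j ⟨b, hb, n⟩ => by
      by_contra nj
      exact n (a.2 j nj b hb)
    have e1 := Set.eq_of_subset_of_ncard_le (sub wU) (mk w wU.1 w1)
    have e2 := sub wV
    rw [e1, t] at e2
    have cl : ∀ n : ℕ, Mv x B k ((n : ZMod p) * i) := by
      intro n
      induction n with
      | zero => simpa using m0
      | succ n ih =>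
        obtain ⟨l, hl, e⟩ := e2 ih
        have : l = ((n + 1 : ℕ) : ZMod p) * i := by
          push_cast
          linear_combination e
        exact this ▸ hl
    have all : {j : ZMod p | Mv x B k j} = Set.univ := Set.eq_univ_of_forall fun j => by
      have := cl (j * i⁻¹).val
      rwa [ZMod.natCast_zmod_val, mul_assoc, inv_mul_cancel₀ i0, mul_one] at this
    have le := mk kf hkf kf1
    rw [all] at le
    have e3 := Set.eq_of_subset_of_ncard_le (Set.subset_univ _) le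
    obtain ⟨b, hb, n⟩ := mvB kf (show (0 : ZMod p) ∈ {j : ZMod p | Mv x B kf j} from e3 ▸ Set.mem_univ _)
    exact n (kfB b hb)
  · have kU : k ∈ KI x B ({0} : Set (ZMod p)) := ⟨hk, fun i hi b hb => by
      by_contra n
      exact h0 ⟨i, hi, b, hb, n⟩⟩
    obtain ⟨u, hu, ou, mu⟩ := der_on (U := KI x B ({0} : Set (ZMod p))) h.hq s.card
      (fun u hu => cy.inv u hu.1) (cy.prim (fun _ a => a.1) (nKI _) ⟨k, kU, mvB k m0⟩)
      fun u hu fx => one_of s fun i ⟨b, hb, n⟩ => n (by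
        by_cases e : i = 0
        · rw [e, b0] at hb
          exact fx b hb
        · exact hu.2 i e b hb)
    have main : ∀ n ≤ p, ∃ w ∈ Kb x B, w ^ q = 1 ∧ ∀ i : ZMod p, ∀ b ∈ x ^ i.val • B,
        (i.val < n → w • b ≠ b) ∧ (n ≤ i.val → w • b = b) := by
      intro n
      induction n with
      | zero => exact fun _ => ⟨1, one_mem _, one_pow _, fun i b _ => ⟨fun a => by omega, fun _ => one_smul G b⟩⟩
      | succ n ih =>
        intro hn
        obtain ⟨w, hw, wq, fw⟩ := ih (by omega)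
        obtain ⟨v, ev⟩ : ∃ v, v = x ^ n * u * (x ^ n)⁻¹ := ⟨_, rfl⟩
        have hv : v ∈ Kb x B := ev ▸ nK.conj_mem _ hu.1 _
        have vn : ((n : ℕ) : ZMod p).val = n := ZMod.val_cast_of_lt (by omega)
        have v1 : ∀ i : ZMod p, ∀ b ∈ x ^ i.val • B, i.val ≠ n → v • b = b := by
          intro i b hb ne
          by_contra nb
          have := (mv_cj s n u (i - n)).1 (by rw [sub_add_cancel, ← ev]; exact ⟨b, hb, nb⟩)
          obtain ⟨b', hb', nb'⟩ := this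
          refine nb' (hu.2 _ (fun e => ne ?_) b' hb')
          rw [sub_eq_zero.1 (Set.mem_singleton_iff.1 e), vn]
        have v2 : ∀ b ∈ x ^ n • B, v • b ≠ b := by
          rintro _ ⟨b, hb, rfl⟩ e
          rw [ev, mul_smul, mul_smul, inv_smul_smul] at e
          exact mu b hb (smul_left_cancel _ e)
        have cm : Commute w v := by
          refine eq_of_smul_eq_smul (α := Ω) fun ω => ?_
          obtain ⟨i, hi⟩ := cv s ω
          rw [mul_smul, mul_smul]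
          by_cases e : i.val = n
          · rw [(fw i ω hi).2 e.ge, (fw i _ (kb hv _ hi)).2 e.ge]
          · rw [v1 i ω hi e, v1 i _ (kb hw _ hi) e]
        refine ⟨w * v, mul_mem hw hv, ?_, fun i b hb => ⟨fun lt => ?_, fun le => ?_⟩⟩
        · rw [cm.mul_pow, wq, one_mul, ev, conj_pow, ← ou, pow_orderOf_eq_one]; simp
        · rw [mul_smul]
          by_cases e : i.val = n
          · rw [(fw i _ (kb hv _ hb)).2 e.ge]
            exact v2 b (e ▸ hb)
          · rw [v1 i b hb e]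
            exact (fw i b hb).1 (by omega)
        · rw [mul_smul, v1 i b hb (by omega), (fw i b hb).2 (by omega)]
    obtain ⟨w, -, wq, fw⟩ := main p le_rfl
    have nf : ∀ ω : Ω, w • ω ≠ ω := fun ω => by
      obtain ⟨i, hi⟩ := cv s ω
      exact (fw i ω hi).1 (ZMod.val_lt i)
    have := Fact.mk h.hq
    obtain ⟨ω, hω⟩ := h.el w (orderOf_eq_prime wq (fun e => nf δ (by rw [e, one_smul])) ▸ h.hq)
    exact nf ω hω

end CL.Pq
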