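/-
PERM/Pq (S3579): the imprimitive case with a faithful kernel
-/
import Cfsg.Agent.PERM.Pq.BasA
import Cfsg.Agent.PERM.Pq.Reg

set_option autoImplicit false

namespace CL.Pq.Imp2

open MulAction Pointwise

/-- a `p`-automorphism of a group of order dividing `q²` is trivial when `p ≥ q + 2` -/
theorem aut_triv {Q : Type*} [Group Q] [Finite Q] {p q a b : ℕ} (hp : p.Prime) (hq : q.Prime)
    (lt : q + 2 ≤ p) (φ : MulAut Q) (hφ : φ ^ p ^ a = 1) (hQ : Nat.card Q = q ^ b) (hb : b ≤ 2)
    (y : Q) : φ y = y := by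
  classical
  have := Fact.mk hp
  have := Fintype.ofFinite Q
  have h1 : (MulAction.toEndHom φ : Function.End Q) ^ p ^ a = 1 := by
    rw [← map_pow, hφ, map_one]
  have h2 := Equiv.Perm.card_fixedPoints_modEq h1
  set C : Subgroup Q := φ.toMonoidHom.eqLocus (MonoidHom.id Q) with hC
  have h3 : Nat.card (Function.fixedPoints (MulAction.toEndHom φ : Function.End Q)) =
      Nat.card C := rfl
  rw [← Nat.card_eq_fintype_card, ← Nat.card_eq_fintype_card, h3, hQ] at h2
  have h4 : Nat.card C ∣ q ^ b := hQ ▸ C.card_subgroup_dvd_card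
  obtain ⟨c, hc, h5⟩ := (Nat.dvd_prime_pow hq).1 h4
  have q2 := hq.two_le
  have h6 : c = b := by
    by_contra hne
    obtain ⟨d, rfl⟩ := Nat.exists_eq_add_of_le hc
    rw [h5] at h2
    have h7 : p ∣ q ^ c * (q ^ d - 1) := by
      have := (Nat.modEq_iff_dvd' (Nat.pow_le_pow_right hq.pos hc)).1 h2.symm
      rwa [pow_add, ← Nat.mul_sub_one] at this
    rcases (Nat.Prime.dvd_mul hp).1 h7 with h8 | h8
    · have := Nat.le_of_dvd hq.pos (hp.dvd_of_dvd_pow h8)
      omega
    · have hd : d = 1 ∨ d = 2 := by omega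
      rcases hd with rfl | rfl
      · rw [pow_one] at h8
        have := Nat.le_of_dvd (by omega) h8
        omega
      · have e : q ^ 2 - 1 = (q + 1) * (q - 1) := by
          rw [← Nat.sq_sub_sq q 1, one_pow]
        rw [e] at h8
        rcases (Nat.Prime.dvd_mul hp).1 h8 with h9 | h9
        · have := Nat.le_of_dvd (by omega) h9
          omega
        · have := Nat.le_of_dvd (by omega) h9
          omega
  have h7 : C = ⊤ := Subgroup.eq_top_of_card_eq C (by rw [h5, h6, hQ])
  have h8 : y ∈ C := h7 ▸ Subgroup.mem_top y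
  exact h8

/-- the `q`-part of `(2 q)!` -/
theorem fac {q b : ℕ} (hq : q.Prime) (q3 : 3 ≤ q) (h : q ^ b ∣ (2 * q).factorial) : b ≤ 2 := by
  have h1 := Nat.Prime.emultiplicity_factorial_mul (n := 2) hq
  have h2 : emultiplicity q (Nat.factorial 2) = 0 := by
    rw [emultiplicity_eq_zero]
    intro hd
    have := Nat.le_of_dvd (by decide) hd
    have e : Nat.factorial 2 = 2 := rfl
    omega
  rw [h2, zero_add, mul_comm] at h1
  have h3 := pow_dvd_iff_le_emultiplicity.1 h
  rw [h1] at h3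
  exact_mod_cast h3

variable {G Ω : Type*} [Group G] [Finite G] [MulAction G Ω] [Finite Ω] {p q : ℕ}
  {A : Subgroup G} {x : G} {δ : Ω} {B : Set Ω}

omit [Finite G] [Finite Ω] in
theorem kb_smul {k : G} (hk : k ∈ Kb x B) : k • B = B := by
  have := (Subgroup.mem_iInf.1 hk) 0
  rwa [pow_zero, one_smul, mem_stabilizer_iff] at this

omit [Finite G] [Finite Ω] in
theorem per_mul (per : x ^ p • B = B) (i s : ℕ) : x ^ (i + p * s) • B = x ^ i • B := by
  induction s with
  | zero => simp
  | succ s ih => rw [Nat.mul_succ, ← add_assoc, pow_add, mul_smul, per, ih]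

omit [Finite G] [Finite Ω] in
theorem per_mod (per : x ^ p • B = B) {i j : ℕ} (h : i ≡ j [MOD p]) : x ^ i • B = x ^ j • B := by
  have e : ∀ i : ℕ, x ^ i • B = x ^ (i % p) • B := fun i => by
    conv_lhs => rw [← Nat.mod_add_div i p]
    exact per_mul per _ _
  rw [e i, e j, h]

/-- the kernel `K` is not faithful on `B` -/
theorem faith (h : St G Ω p q) (s : Sy p q A x δ B)
    (fa : ∀ k ∈ Kb x B, (∀ b ∈ B, k • b = b) → k = 1) : False := by
  classical
  have := Fact.mk h.hq
  have := s.nrm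
  set K := Kb x B with hK
  have inv : ∀ k ∈ K, ∀ b ∈ B, k • b ∈ B := fun k hk b hb => by
    have := Set.smul_mem_smul_set (a := k) hb
    rwa [kb_smul hk] at this
  obtain ⟨k, kK, ko, kd⟩ := der_on h.hq s.card inv s.tr fa
  -- the order of `K` divides `(2 q)!`
  let S : SubMulAction K Ω := ⟨B, fun c _ hb => inv c c.2 _ hb⟩
  have hS : Nat.card S = 2 * q := by
    rw [← s.card]
    rfl
  have inj : Function.Injective (MulAction.toPermHom K S) := by
    rw [injective_iff_map_eq_one]
    intro c hc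
    apply Subtype.ext
    refine fa c c.2 fun b hb => ?_
    have := congrArg (fun f : Equiv.Perm S => ((f ⟨b, hb⟩ : S) : Ω)) hc
    exact this
  have dv : Nat.card K ∣ (2 * q).factorial := by
    have := Subgroup.card_dvd_of_injective _ inj
    rwa [Nat.card_perm, hS] at this
  -- a Sylow subgroup containing `k`
  have hk : IsPGroup q (Subgroup.zpowers (⟨k, kK⟩ : K)) := by
    apply IsPGroup.of_card (n := 1)
    rw [Nat.card_zpowers, pow_one, ← ko, ← Subgroup.orderOf_coe]
  obtain ⟨T, hT⟩ := hk.exists_le_sylow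
  set Q : Subgroup G := (T : Subgroup K).map K.subtype with hQ
  have kQ : k ∈ Q := ⟨⟨k, kK⟩, hT (Subgroup.mem_zpowers _), rfl⟩
  obtain ⟨b, hb⟩ := T.isPGroup'.exists_card_eq
  have cQ : Nat.card Q = q ^ b := by
    rw [hQ, Subgroup.card_map_of_injective K.subtype_injective, hb]
  have b2 : b ≤ 2 := fac h.hq h.q3 (hb ▸ (T : Subgroup K).card_subgroup_dvd_card.trans dv)
  -- Frattini
  have fr : Subgroup.normalizer (Q : Set G) ⊔ K = ⊤ := Sylow.normalizer_sup_eq_top T
  have hx : x ∈ Subgroup.normalizer (Q : Set G) ⊔ K := fr ▸ Subgroup.mem_top x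
  obtain ⟨n, hn, k', hk', e⟩ := Subgroup.mem_sup_of_normal_right.1 hx
  have nx : ∀ t : ℕ, n ^ t • B = x ^ t • B := fun t => by
    have e1 : (n : G ⧸ K) = (x : G ⧸ K) := by
      rw [QuotientGroup.eq, ← e, inv_mul_cancel_left]
      exact hk'
    have e2 : ((n ^ t : G) : G ⧸ K) = ((x ^ t : G) : G ⧸ K) := by
      rw [QuotientGroup.mk_pow, QuotientGroup.mk_pow, e1]
    rw [QuotientGroup.eq] at e2
    have := kb_smul e2
    rw [mul_smul, inv_smul_eq_iff] at this
    exact this.symm
  obtain ⟨a, m, pm, em⟩ := Nat.exists_eq_pow_mul_and_not_dvd (orderOf_pos n).ne' p h.hp.ne_one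
  have cen : n ^ m * k = k * n ^ m := by
    have hφ : (Q.normalizerMonoidHom (⟨n, hn⟩ ^ m)) ^ p ^ a = 1 := by
      rw [← map_pow, ← pow_mul]
      have : (⟨n, hn⟩ : Subgroup.normalizer (Q : Set G)) ^ (m * p ^ a) = 1 := by
        apply Subtype.ext
        rw [Subgroup.coe_pow, mul_comm, ← em]
        exact pow_orderOf_eq_one n
      rw [this, map_one]
    have := aut_triv h.hp h.hq h.num.1 _ hφ cQ b2 ⟨k, kQ⟩
    have e3 : n ^ m * k * (n ^ m)⁻¹ = k := congrArg Subtype.val this
    rw [mul_inv_eq_iff_eq_mul] at e3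
    exact e3
  obtain ⟨ω, hω⟩ := h.el k (ko ▸ h.hq)
  obtain ⟨i, -, hi⟩ := s.cov ω
  have cop : Nat.Coprime m p := ((Nat.Prime.coprime_iff_not_dvd h.hp).2 pm).symm
  obtain ⟨u, -, hu⟩ := Nat.exists_mul_mod_eq_one_of_coprime cop h.hp.one_lt
  have hj : i ≡ m * (u * i) [MOD p] := by
    have : m * u ≡ 1 [MOD p] := by
      unfold Nat.ModEq
      rw [hu, Nat.mod_eq_of_lt h.hp.one_lt]
    have := this.mul_right i
    rw [one_mul, mul_assoc] at this
    exact this.symm
  rw [per_mod s.per hj, ← nx, pow_mul] at hi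
  obtain ⟨c, hc, rfl⟩ := hi
  have cm : Commute k ((n ^ m) ^ (u * i)) := (Commute.symm cen).pow_right _
  apply kd c hc
  simp only at hω
  rw [← mul_smul, cm.eq, mul_smul] at hω
  exact MulAction.injective _ hω

end CL.Pq.Imp2
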