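/-
PERM/Pq (S3579): the imprimitive case, kernel not faithful on a block
-/
import Cfsg.Agent.PERM.Pq.BasB
import Cfsg.Agent.PERM.Pq.Reg

set_option autoImplicit false
set_option linter.unusedSectionVars false

namespace CL.Pq.Imp3

open MulAction Pointwise

variable {G Ω : Type*} [Group G] [Finite G] [MulAction G Ω] [Finite Ω] [FaithfulSMul G Ω] {p q : ℕ}
  {P A : Subgroup G} {x : G} {δ : Ω} {B : Set Ω}

/-- the elements of `K` supported on the blocks `D i`, `i ∈ I` -/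
def KI (K : Subgroup G) (D : ZMod p → Set Ω) (I : Finset (ZMod p)) : Subgroup G where
  carrier := {k | k ∈ K ∧ ∀ i ∉ I, ∀ b ∈ D i, k • b = b}
  one_mem' := ⟨K.one_mem, fun _ _ _ _ => one_smul _ _⟩
  mul_mem' := fun ha hb => ⟨K.mul_mem ha.1 hb.1, fun i hi b h => by
    rw [mul_smul, hb.2 i hi b h, ha.2 i hi b h]⟩
  inv_mem' := fun ha => ⟨K.inv_mem ha.1, fun i hi b h => inv_smul_eq_iff.2 (ha.2 i hi b h).symm⟩

/-- the abstract block system -/
structure Bs (K : Subgroup G) (x : G) (D : ZMod p → Set Ω) : Prop where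
  nrm : K.Normal
  sh : ∀ (t : ℕ) (i : ZMod p), x ^ t • D i = D (i + t)
  cov : ∀ ω, ∃ i, ω ∈ D i
  inv : ∀ k ∈ K, ∀ i, ∀ b ∈ D i, k • b ∈ D i

variable {K : Subgroup G} {D : ZMod p → Set Ω} {I J : Finset (ZMod p)}

theorem Bs.nm (s : Bs K x D) (k : G) (hk : k ∈ K) (u : G) (hu : u ∈ KI K D I) :
    k * u * k⁻¹ ∈ KI K D I :=
  ⟨K.mul_mem (K.mul_mem hk hu.1) (K.inv_mem hk), fun i hi b h => by
    rw [mul_smul, mul_smul, hu.2 i hi _ (s.inv _ (K.inv_mem hk) i b h), smul_inv_smul]⟩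

theorem Bs.bot (s : Bs K x D) {u : G} (hu : u ∈ KI K D ∅) : u = 1 :=
  eq_of_smul_eq_smul fun ω : Ω => by
    obtain ⟨i, hi⟩ := s.cov ω
    rw [one_smul, hu.2 i (by simp) ω hi]

theorem inter {u : G} (hu : u ∈ KI K D I) (hv : u ∈ KI K D J) : u ∈ KI K D (I ∩ J) :=
  ⟨hu.1, fun i hi => by
    by_cases h : i ∈ I
    · exact hv.2 i fun h' => hi (Finset.mem_inter.2 ⟨h, h'⟩)
    · exact hu.2 i h⟩

theorem Bs.cm (s : Bs K x D) (h : ∀ u ∈ KI K D (I ∩ J), u = 1) (u : G) (hu : u ∈ KI K D I) (v : G)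
    (hv : v ∈ KI K D J) : u * v = v * u := by
  have h1 : u * (v * u⁻¹ * v⁻¹) ∈ KI K D I := mul_mem hu (s.nm v hv.1 _ (inv_mem hu))
  have h2 : u * v * u⁻¹ * v⁻¹ ∈ KI K D J := mul_mem (s.nm u hu.1 _ hv) (inv_mem hv)
  rw [← mul_assoc, ← mul_assoc] at h1
  have := h _ (inter h1 h2)
  rwa [mul_inv_eq_one, mul_inv_eq_iff_eq_mul] at this

theorem Bs.back (s : Bs K x D) (t : ℕ) {i : ZMod p} {b : Ω} (h : b ∈ D i) :
    (x ^ t)⁻¹ • b ∈ D (i - t) := by
  rw [← Set.mem_smul_set_iff_inv_smul_mem, s.sh, sub_add_cancel]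
  exact h

theorem Bs.cj (s : Bs K x D) (t : ℕ) {u : G} (hu : u ∈ KI K D I) :
    x ^ t * u * (x ^ t)⁻¹ ∈ KI K D (I.image (· + (t : ZMod p))) :=
  ⟨s.nrm.conj_mem _ hu.1 _, fun i hi b h => by
    rw [mul_smul, mul_smul, hu.2 (i - t) (fun h' => hi (Finset.mem_image.2
      ⟨_, h', sub_add_cancel _ _⟩)) _ (s.back t h), smul_inv_smul]⟩

theorem Bs.single [hp : Fact p.Prime] (s : Bs K x D) {c : G} {β : Ω} (cy : Cy p q K (D 0) c β)
    (nf : ∃ k ∈ K, k ≠ 1 ∧ ∀ b ∈ D 0, k • b = b) :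
    ∃ u ∈ KI K D {0}, ∃ b ∈ D 0, u • b ≠ b := by
  classical
  obtain ⟨I, ⟨u, hu, u1⟩, mn⟩ := exists_minimalFor_of_wellFoundedLT
    (fun I : Finset (ZMod p) => ∃ u ∈ KI K D I, u ≠ 1) Finset.card
    (let ⟨k, hk, k1, _⟩ := nf; ⟨Finset.univ, k, ⟨hk, by simp⟩, k1⟩)
  have sm : ∀ J : Finset (ZMod p), J.card < I.card → ∀ v ∈ KI K D J, v = 1 := fun J hJ v hv =>
    by_contra fun v1 => absurd (mn ⟨v, hv, v1⟩ hJ.le) hJ.not_ge
  have lt : I.card < p := by
    obtain ⟨k, hk, k1, fx⟩ := nf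
    by_contra! h
    refine k1 (sm (Finset.univ.erase 0) ?_ k ⟨hk, fun i hi => ?_⟩)
    · rw [Finset.card_erase_of_mem (Finset.mem_univ _), Finset.card_univ, ZMod.card]
      have := hp.out.pos
      omega
    · have : i = 0 := by simpa using hi
      exact this ▸ fx
  have mv : ∀ J : Finset (ZMod p), J.card = I.card → 0 ∈ J → ∀ v ∈ KI K D J, v ≠ 1 →
      ∃ u ∈ KI K D J, ∃ b ∈ D 0, u • b ≠ b := fun J hJ h0 v hv v1 => by
    by_contra! h
    refine v1 (sm (J.erase 0) (hJ ▸ Finset.card_erase_lt_of_mem h0) v ⟨hv.1, fun i hi => ?_⟩)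
    by_cases e : i = 0
    · exact e ▸ h v hv
    · exact hv.2 i fun h' => hi (Finset.mem_erase.2 ⟨e, h'⟩)
  have tl : ∀ J : Finset (ZMod p), J.card = I.card → ∀ v ∈ KI K D J, v ≠ 1 → ∀ i ∈ J,
      (J.image (· + -i)).card = I.card ∧ 0 ∈ J.image (· + -i) ∧
      ∃ w ∈ KI K D (J.image (· + -i)), w ≠ 1 := fun J hJ v hv v1 i hi => by
    refine ⟨(Finset.card_image_of_injective _ (add_left_injective _)).trans hJ,
      Finset.mem_image.2 ⟨i, hi, add_neg_cancel i⟩, _, by simpa using s.cj (-i).val hv, ?_⟩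
    simpa using v1
  obtain ⟨i0, h0⟩ : I.Nonempty := Finset.nonempty_iff_ne_empty.2 fun e => u1 (s.bot (e ▸ hu))
  obtain ⟨c1, z1, w, hw, w1⟩ := tl I rfl u hu u1 i0 h0
  generalize I.image (· + -i0) = I0 at c1 z1 hw
  have e : I0 = {0} := Finset.eq_singleton_iff_unique_mem.2 ⟨z1, fun i hi => by_contra fun i0 => by
    obtain ⟨c2, z2, w', hw', w1'⟩ := tl I0 c1 w hw w1 i hi
    refine cy.regl (U := KI K D I0) (V := KI K D (I0.image (· + -i))) (fun _ h => h.1) s.nm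
      (mv _ c1 z1 w hw w1) (fun _ h => h.1) s.nm (mv _ c2 z2 w' hw' w1') (s.cm (sm _ ?_))
    rw [← c1]
    refine Finset.card_lt_card (Finset.ssubset_iff_subset_ne.2 ⟨Finset.inter_subset_left,
      fun e => ?_⟩)
    have e2 := Finset.eq_of_subset_of_card_le (Finset.inter_eq_left.1 e) (c2.trans c1.symm).le
    have cl : ∀ n : ℕ, (n : ZMod p) * -i ∈ I0 := fun n => by
      induction n with
      | zero => simpa using z1
      | succ n ih =>
        rw [e2]
        exact Finset.mem_image.2 ⟨_, ih, by push_cast; ring⟩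
    have : I0 = Finset.univ := Finset.eq_univ_of_forall fun j => by
      have := cl (j * (-i)⁻¹).val
      rwa [ZMod.natCast_zmod_val, mul_assoc, inv_mul_cancel₀ (neg_ne_zero.2 i0), mul_one] at this
    rw [← c1, this, Finset.card_univ, ZMod.card] at lt
    exact lt.false⟩
  exact e ▸ mv _ c1 z1 w hw w1

theorem Bs.glue [hp : Fact p.Prime] (s : Bs K x D) {u : G} (hu : u ∈ KI K D {0}) (uq : u ^ q = 1)
    (fp : ∀ b ∈ D 0, u • b ≠ b) (n : ℕ) (hn : n ≤ p) :
    ∃ w ∈ KI K D (Finset.univ.filter fun i => i.val < n), w ^ q = 1 ∧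
      ∀ i : ZMod p, i.val < n → ∀ b ∈ D i, w • b ≠ b := by
  induction n with
  | zero => exact ⟨1, one_mem _, one_pow _, fun i hi => absurd hi (Nat.not_lt_zero _)⟩
  | succ n ih =>
    obtain ⟨w, hw, wq, h⟩ := ih (by omega)
    have vn : (n : ZMod p).val = n := ZMod.val_cast_of_lt hn
    have hv := s.cj n hu
    rw [Finset.image_singleton, zero_add] at hv
    have cm : Commute w (x ^ n * u * (x ^ n)⁻¹) := s.cm (fun v h => s.bot (by
      rwa [Finset.inter_singleton_of_notMem (by simp [vn])] at h)) _ hw _ hv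
    refine ⟨w * (x ^ n * u * (x ^ n)⁻¹), ⟨K.mul_mem hw.1 hv.1, fun i hi b hb => ?_⟩, ?_,
      fun i hi b hb => ?_⟩
    · have h1 : n + 1 ≤ i.val := by simpa using hi
      rw [mul_smul, hv.2 i (fun e => by rw [Finset.mem_singleton.1 e, vn] at h1; omega) b hb,
        hw.2 i (by simp; omega) b hb]
    · rw [cm.mul_pow, wq, conj_pow, uq]
      simp
    · by_cases e : i = n
      · subst e
        rw [mul_smul, hw.2 n (by simp [vn]) _ (s.inv _ hv.1 _ b hb), mul_smul, mul_smul, Ne,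
          smul_eq_iff_eq_inv_smul]
        exact fp _ (by simpa using s.back n hb)
      · rw [mul_smul, hv.2 i (by simpa using e) b hb]
        refine h i (lt_of_le_of_ne (Nat.lt_succ_iff.1 hi) fun e' => e ?_) b hb
        rw [← e', ZMod.natCast_zmod_val]

theorem nfaith (h : St G Ω p q) (s : Sy p q A x δ B) (cy : Cy p q (Kb x B) B (x ^ p) δ)
    (nf : ∃ k ∈ Kb x B, k ≠ 1 ∧ ∀ b ∈ B, k • b = b) : False := by
  have := Fact.mk h.hp
  have := Fact.mk h.hq
  have md : ∀ n : ℕ, x ^ n • B = x ^ (n % p) • B := fun n => by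
    conv_lhs => rw [← Nat.mod_add_div n p, pow_add, pow_mul, mul_smul]
    rw [show (x ^ p) ^ (n / p) • B = B from (stabilizer G B).pow_mem s.per _]
  let D : ZMod p → Set Ω := fun i => x ^ i.val • B
  have d0 : D 0 = B := by simp [D]
  have b : Bs (Kb x B) x D := ⟨s.nrm, fun t i => by
      simp only [D]
      rw [← mul_smul, ← pow_add, md, ZMod.val_add, ZMod.val_natCast, Nat.add_mod_mod, add_comm],
    fun ω => let ⟨i, hi, e⟩ := s.cov ω; ⟨i, by simpa only [D, ZMod.val_cast_of_lt hi] using e⟩,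
    fun k hk i b hb => by
      have e : k • D i = D i := Subgroup.mem_iInf.1 hk i.val
      rw [← e]
      exact Set.smul_mem_smul_set hb⟩
  have mv := b.single (q := q) (c := x ^ p) (β := δ) (by rw [d0]; exact cy) (by rw [d0]; exact nf)
  rw [d0] at mv
  obtain ⟨u, hu, uq, fp⟩ := der_on (U := KI (Kb x B) D {0}) h.hq s.card
    (fun u hu => cy.inv u hu.1) (cy.prim (fun _ h => h.1) b.nm mv) fun u hu fx =>
      b.bot ⟨hu.1, fun i _ => by
        by_cases e : i = 0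
        · rw [e, d0]
          exact fx
        · exact hu.2 i (by simpa using e)⟩
  obtain ⟨w, -, wq, fw⟩ := b.glue (q := q) hu (uq ▸ pow_orderOf_eq_one u) (by rw [d0]; exact fp) p
    le_rfl
  have nf : ∀ ω : Ω, w • ω ≠ ω := fun ω => let ⟨i, hi⟩ := b.cov ω; fw i i.val_lt ω hi
  obtain ⟨ω, e⟩ := h.el w (by
    rw [orderOf_eq_prime wq fun e => nf δ (by rw [e, one_smul])]
    exact h.hq)
  exact nf ω e

end CL.Pq.Imp3
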