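/-
PERM/Pq (S3579): the orbits of a Sylow subgroup
-/
import Cfsg.Agent.PERM.Pq.BasA

set_option autoImplicit false
set_option linter.unusedSectionVars false
set_option maxHeartbeats 400000

namespace CL.Pq

open MulAction Pointwise

variable {G Ω : Type*} [Group G] [Finite G] [MulAction G Ω] [Finite Ω] [FaithfulSMul G Ω] {p q : ℕ}
  {P A : Subgroup G} {x : G} {δ : Ω}

namespace Long

/-- orbit-stabilizer for a subgroup -/
theorem os (Q : Subgroup G) (ω : Ω) :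
    (orbit Q ω).ncard * Nat.card ↥(Q ⊓ stabilizer G ω) = Nat.card Q := by
  have e : stabilizer Q ω = (Q ⊓ stabilizer G ω).subgroupOf Q := by
    ext g
    simp [Subgroup.mem_subgroupOf, mem_stabilizer_iff, Subgroup.smul_def]
  rw [← index_stabilizer, ← Nat.card_congr (Subgroup.subgroupOfEquivOfLe
    (inf_le_left : Q ⊓ stabilizer G ω ≤ Q)).toEquiv, ← e, Subgroup.index_mul_card]

theorem mo {Q : Subgroup G} {ω ω' : Ω} : ω' ∈ orbit Q ω ↔ ∃ g ∈ Q, g • ω = ω' :=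
  ⟨fun ⟨g, e⟩ => ⟨g, g.2, e⟩, fun ⟨g, hg, e⟩ => ⟨⟨g, hg⟩, e⟩⟩

theorem inj {n : ℕ} (h : period x δ = n) (i j : ℕ) : x ^ i • δ = x ^ j • δ ↔ i ≡ j [MOD n] := by
  rw [Nat.modEq_iff_dvd, ← h, ← zpow_smul_eq_iff_period_dvd, sub_eq_neg_add, zpow_add, zpow_neg, mul_smul,
    inv_smul_eq_iff, zpow_natCast, zpow_natCast, eq_comm]

theorem cnt {f : ℕ → Ω} {n : ℕ} {X : Set Ω} (hf : ∀ i < n, ∀ j < n, f i = f j → i = j)
    (hX : ∀ i, f i ∈ X) (hc : X.ncard = n) : ∀ ω ∈ X, ∃ i, f i = ω := by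
  have h1 : f '' (Finset.range n : Set ℕ) = X := by
    refine Set.eq_of_subset_of_ncard_le (by rintro _ ⟨i, -, rfl⟩; exact hX i) ?_
    rw [Set.InjOn.ncard_image fun i hi j hj => hf i (by simpa using hi) j (by simpa using hj),
      Set.ncard_coe_finset, Finset.card_range, hc]
  intro ω hω
  obtain ⟨i, -, e⟩ := h1.ge hω
  exact ⟨i, e⟩

end Long

open Long

/-- PROOF. `P`-orbits have length `p ^ k`, `k ≥ 1` (`St.syl` with `T = P ⊓ G_ω`). If all have length `p`, `Uc Ω p P P`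
by `elem`. Otherwise the orbit `Δ` of some `δ` has length `≥ p²`; `p³ > 2 p q` and `2 p² > 2 p q`, so `|Δ| = p²` and
all other orbits have length `p`. Take `P_δ < A < P` with `|P| = p |A|` (`Sylow.exists_subgroup_card_pow_succ`),
normal in `P` (`nrm_of_card`), so `P_ω ≤ A` for all `ω ∈ Δ` and the `A`-orbits on `Δ` have length `p`; `elem` for `A`.
`few` for `Y = Δᶜ` (`|Y| = (2 q - p) p`, `2 q - p + 1 ≤ p`) and `avoid` give `x ∈ P` outside `A` and all `P_ω`, `ω ∈ Y`: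
`x` has no fixed point, so `x ^ p ≠ 1` (`el`; `x ≠ 1`), `z = x ^ p ∈ A` fixes `Y` pointwise. The `⟨x⟩`-orbit of `δ` has
length `p` or `p²` (`x ^ (p²) = 1`); `P = A⟨x⟩`. If `z • δ = δ` then `z` (central in `P`, which is transitive on `Δ`) fixes
`Δ`, `z = 1`, false. So `minimalPeriod = p²` (`inj`), `Dl x δ = Δ` by counting, and the `A`-orbit of `x ^ i • δ` (size `p`)
is its `z`-orbit (`blk`). -/
theorem long (h : St G Ω p q) (hP : ∃ S : Sylow p G, (S : Subgroup G) = P) :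
    Uc Ω p P P ∨ ∃ (A : Subgroup G) (x : G) (δ : Ω), Pc p P A x δ := by
  classical
  have hp := h.hp
  have : Fact p.Prime := ⟨hp⟩
  obtain ⟨n1, n2, -⟩ := h.num
  have n3 := h.lt2
  have pP : IsPGroup p P := by
    obtain ⟨S, rfl⟩ := hP
    exact S.isPGroup'
  obtain ⟨n, hn⟩ := IsPGroup.iff_card.1 pP
  have pos : ∀ Q : Subgroup G, 0 < Nat.card Q := fun Q => Nat.card_pos
  -- orbit lengths
  have len : ∀ ω : Ω, ∃ k, (orbit P ω).ncard = p ^ (k + 1) := by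
    intro ω
    obtain ⟨k, -, hk⟩ := (Nat.dvd_prime_pow hp).1 (hn ▸ Dvd.intro _ (os P ω))
    obtain ⟨c, hc⟩ := (h.syl hP (T := P ⊓ stabilizer G ω) pP.to_inf_left (ω := ω) inf_le_right).1
    rcases k with _ | k
    · have h1 := os P ω
      rw [hk, pow_zero, one_mul] at h1
      have h2 : Nat.card P * 1 = Nat.card P * (p * c) := by
        conv_lhs => rw [mul_one, hc, h1]
        ring
      exact absurd (Nat.eq_one_of_mul_eq_one_right (Nat.eq_of_mul_eq_mul_left (pos P) h2).symm) hp.ne_one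
    · exact ⟨k, hk⟩
  by_cases hu : ∀ ω : Ω, Nat.card P = p * Nat.card ↥(P ⊓ stabilizer G ω)
  · obtain ⟨e1, e2⟩ := elem (Ω := Ω) hp pP fun ω => (hu ω).le
    exact Or.inl ⟨hP, le_rfl, fun y hy _ => hy, e1, e2, hu⟩
  right
  push Not at hu
  obtain ⟨δ, hδ⟩ := hu
  have cΩ : (Set.univ : Set Ω).ncard = 2 * p * q := by rw [Set.ncard_univ, h.card]
  have cΔ : (orbit P δ).ncard = p ^ 2 := by
    obtain ⟨k, hk⟩ := len δ
    have h1 : p ^ (k + 1) < p ^ 3 := by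
      have := Set.ncard_le_ncard (Set.subset_univ (orbit P δ))
      rw [hk, cΩ] at this
      calc p ^ (k + 1) ≤ 2 * p * q := this
        _ < 2 * p * p := Nat.mul_lt_mul_of_pos_left h.lt (by omega)
        _ ≤ p * p * p := Nat.mul_le_mul_right _ (Nat.mul_le_mul_right _ (by omega))
        _ = p ^ 3 := by ring
    have h2 := (Nat.pow_lt_pow_iff_right hp.one_lt).1 h1
    have h3 : k ≠ 0 := by
      rintro rfl
      exact hδ (by rw [← os P δ, hk, zero_add, pow_one])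
    rw [hk, show k + 1 = 2 by omega]
  have cY : p ^ 2 + (orbit P δ)ᶜ.ncard = 2 * p * q := by
    rw [← cΔ, Set.ncard_add_ncard_compl, h.card]
  have invY : ∀ g ∈ P, ∀ ω ∈ (orbit P δ)ᶜ, g • ω ∈ (orbit P δ)ᶜ := fun g hg ω hω hm => by
    obtain ⟨g', hg', e⟩ := mo.1 hm
    exact hω (mo.2 ⟨g⁻¹ * g', mul_mem (inv_mem hg) hg', by rw [mul_smul, e, inv_smul_smul]⟩)
  have lenY : ∀ ω ∈ (orbit P δ)ᶜ, (orbit P ω).ncard = p := by
    intro ω hω
    obtain ⟨k, hk⟩ := len ω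
    have h0 : orbit P ω ⊆ (orbit P δ)ᶜ := fun ω' h' => by
      obtain ⟨g, hg, rfl⟩ := mo.1 h'
      exact invY g hg ω hω
    have h1 : p ^ (k + 1) < p ^ 2 := by
      have := Set.ncard_le_ncard h0
      rw [hk] at this
      nlinarith
    have h2 := (Nat.pow_lt_pow_iff_right hp.one_lt).1 h1
    rw [hk, show k = 0 by omega, zero_add, pow_one]
  have sm : ∀ ω ∈ (orbit P δ)ᶜ, Nat.card P = p * Nat.card ↥(P ⊓ stabilizer G ω) := fun ω hω => by
    rw [← os P ω, lenY ω hω]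
  have big : ∀ ω ∈ orbit P δ, Nat.card P = p ^ 2 * Nat.card ↥(P ⊓ stabilizer G ω) := fun ω hω => by
    rw [← os P ω, orbit_eq_iff.2 hω, cΔ]
  -- the subgroup `A`
  obtain ⟨A, AP, TA, cA⟩ : ∃ A ≤ P, P ⊓ stabilizer G δ ≤ A ∧ Nat.card P = p * Nat.card A := by
    obtain ⟨m, hm⟩ := IsPGroup.iff_card.1 (pP.to_inf_left (K := stabilizer G δ))
    have h1 := big δ (mem_orbit_self δ)
    obtain ⟨K, hK, le⟩ := Sylow.exists_subgroup_card_pow_succ (G := P) (p := p) (n := m)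
      (H := (P ⊓ stabilizer G δ).subgroupOf P) ⟨p, by rw [h1, hm]; ring⟩
      (by rw [Nat.card_congr (Subgroup.subgroupOfEquivOfLe inf_le_left).toEquiv, hm])
    refine ⟨K.map P.subtype, Subgroup.map_subtype_le K, fun g hg => ⟨⟨g, hg.1⟩, le hg, rfl⟩, ?_⟩
    rw [Subgroup.card_map_of_injective P.subtype_injective, hK, h1, hm]
    ring
  obtain ⟨nA, pw⟩ := nrm_of_card hp pP AP cA
  have TA' : ∀ ω ∈ orbit P δ, P ⊓ stabilizer G ω ≤ A := fun ω hω y hy => by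
    obtain ⟨g, hg, rfl⟩ := mo.1 hω
    obtain ⟨y1, y2⟩ := Subgroup.mem_inf.1 hy
    have h1 : g⁻¹ * y * g ∈ A := TA (Subgroup.mem_inf.2 ⟨mul_mem (mul_mem (inv_mem hg) y1) hg, by
      rw [mem_stabilizer_iff] at y2 ⊢
      rw [mul_smul, mul_smul, y2, inv_smul_smul]⟩)
    have h2 := nA g hg _ h1
    rwa [show g * (g⁻¹ * y * g) * g⁻¹ = y by group] at h2
  have orbA : ∀ ω ∈ orbit P δ, (orbit A ω).ncard = p := fun ω hω => by
    have h1 : A ⊓ stabilizer G ω = P ⊓ stabilizer G ω :=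
      le_antisymm (inf_le_inf_right _ AP) (le_inf (TA' ω hω) inf_le_right)
    have h2 := os A ω
    have h3 := big ω hω
    rw [cA, ← h2, h1, pow_two, mul_assoc] at h3
    exact Nat.eq_of_mul_eq_mul_right (pos _) (Nat.eq_of_mul_eq_mul_left hp.pos h3)
  obtain ⟨ex, cm⟩ := elem (Ω := Ω) hp (pP.to_le AP) fun ω => by
    rw [← os A ω]
    refine Nat.mul_le_mul_right _ ?_
    by_cases hω : ω ∈ orbit P δ
    · exact (orbA ω hω).le
    · rw [← lenY ω hω]
      refine Set.ncard_le_ncard fun ω' h' => ?_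
      obtain ⟨g, hg, e⟩ := mo.1 h'
      exact mo.2 ⟨g, AP hg, e⟩
  -- the element `x`
  obtain ⟨s, s1, s2, s3⟩ := few hp pP _ invY sm
  have cs : (insert A s).card ≤ p := by
    have h1 : p * (s.card + p) ≤ p * (2 * q) := by nlinarith
    have h2 := Nat.le_of_mul_le_mul_left h1 hp.pos
    have h3 := Finset.card_insert_le A s
    omega
  obtain ⟨x, xP, hx⟩ := avoid hp.two_le P (insert A s) cs fun H hH => by
    rcases Finset.mem_insert.1 hH with rfl | hH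
    · rw [inf_eq_left.2 AP, cA]
    · obtain ⟨ω, hω, rfl⟩ := s3 H hH
      rw [inf_eq_left.2 inf_le_left, ← sm ω hω]
  have xA : x ∉ A := hx A (Finset.mem_insert_self _ _)
  have z1 : x ^ p ≠ 1 := fun e => by
    obtain ⟨ω, hω⟩ := h.el x (by
      rw [orderOf_eq_prime e fun e' => xA (e' ▸ one_mem A)]; exact hp)
    by_cases hm : ω ∈ orbit P δ
    · exact xA (TA' ω hm (Subgroup.mem_inf.2 ⟨xP, hω⟩))
    · exact hx _ (Finset.mem_insert_of_mem (s2 ω hm)) (Subgroup.mem_inf.2 ⟨xP, hω⟩)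
  have zA := pw x xP
  have zc : ∀ g ∈ P, g * x ^ p = x ^ p * g := by
    have h1 : A ≤ P ⊓ Subgroup.centralizer {x ^ p} := fun a ha =>
      Subgroup.mem_inf.2 ⟨AP ha, Subgroup.mem_centralizer_singleton_iff.2 (cm a ha _ zA)⟩
    have h2 : x ∈ P ⊓ Subgroup.centralizer {x ^ p} :=
      Subgroup.mem_inf.2 ⟨xP, Subgroup.mem_centralizer_singleton_iff.2 (Commute.self_pow x p).eq⟩
    obtain ⟨c, hc⟩ := Subgroup.card_dvd_of_le h1
    obtain ⟨d, hd⟩ := Subgroup.card_dvd_of_le (inf_le_left : P ⊓ Subgroup.centralizer {x ^ p} ≤ P)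
    have h3 : p = c * d := Nat.eq_of_mul_eq_mul_left (pos A) (by rw [← mul_assoc, ← hc, ← hd, cA, mul_comm])
    rcases (Nat.dvd_prime hp).1 (Dvd.intro _ h3.symm) with e | e
    · exact absurd ((Subgroup.eq_of_le_of_card_ge h1 (by rw [hc, e, mul_one])).ge h2) xA
    · have h4 : P ⊓ Subgroup.centralizer {x ^ p} = P :=
        Subgroup.eq_of_le_of_card_ge inf_le_left (by rw [hc, e, cA, mul_comm])
      exact fun g hg => Subgroup.mem_centralizer_singleton_iff.1 (Subgroup.mem_inf.1 (h4.ge hg)).2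
  have zδ : x ^ p • δ ≠ δ := fun e => z1 (FaithfulSMul.eq_of_smul_eq_smul (α := Ω) fun ω => by
    rw [one_smul]
    by_cases hm : ω ∈ orbit P δ
    · obtain ⟨g, hg, rfl⟩ := mo.1 hm
      rw [← mul_smul, ← zc g hg, mul_smul, e]
    · exact (Subgroup.mem_inf.1 ((nrm_of_card hp pP inf_le_left (sm ω hm)).2 x xP)).2)
  have per : period x δ = p ^ 2 := by
    have h1 : period x δ ∣ p ^ 2 := pow_smul_eq_iff_period_dvd.1 (by rw [pow_two, pow_mul, ex _ zA, one_smul])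
    obtain ⟨k, hk, e⟩ := (Nat.dvd_prime_pow hp).1 h1
    have h2 : ¬ k ≤ 1 := fun hk' => zδ (pow_smul_eq_iff_period_dvd.2 (by
      rw [e]; exact (pow_dvd_pow p hk').trans (by rw [pow_one])))
    rw [e, show k = 2 by omega]
  have hi := inj per
  have xm : ∀ i : ℕ, x ^ i • δ ∈ orbit P δ := fun i => mo.2 ⟨_, pow_mem xP i, rfl⟩
  refine ⟨A, x, δ, hP, AP, cA, xP, xA, ex, cm, zA, hi, fun a ha i => ?_, fun ω hω => sm ω fun hm => hω ?_⟩
  · obtain ⟨s, e⟩ := cnt (f := fun s => x ^ (i + p * s) • δ) (n := p) (X := orbit A (x ^ i • δ))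
      (fun a ha b hb e => by
        have h1 := Nat.ModEq.add_left_cancel' i ((hi _ _).1 e)
        rw [pow_two] at h1
        exact Nat.ModEq.eq_of_lt_of_lt (Nat.ModEq.mul_left_cancel' hp.ne_zero h1) ha hb)
      (fun s => mo.2 ⟨(x ^ p) ^ s, pow_mem zA s, by rw [← mul_smul, ← pow_mul, ← pow_add, add_comm]⟩)
      (orbA _ (xm i)) _ (mo.2 ⟨a, ha, rfl⟩)
    exact ⟨s, e.symm⟩
  · exact cnt (f := fun i => x ^ i • δ) (n := p ^ 2)
      (fun a ha b hb e => Nat.ModEq.eq_of_lt_of_lt ((hi _ _).1 e) ha hb) xm cΔ ω hm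

end CL.Pq
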