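/-
PERM/Pq (S3579): a normaliser transitive on the orbits
-/
import Cfsg.Agent.PERM.Pq.BasA
import Cfsg.Agent.S5727

set_option autoImplicit false

namespace CL.Pq

open MulAction Pointwise

variable {G Ω : Type*} [Group G] [Finite G] [MulAction G Ω] [Finite Ω] [FaithfulSMul G Ω] {p q : ℕ}
  {P A : Subgroup G} {x : G} {δ : Ω}

omit [Finite Ω] [FaithfulSMul G Ω] in
theorem Nrm.orb {ω : Ω} (o : Nat.card A = p * Nat.card ↥(A ⊓ stabilizer G ω)) : (orbit A ω).ncard = p := by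
  have e := (stabilizer A ω).index_mul_card
  have e' : Nat.card (stabilizer A ω) = Nat.card ↥(A ⊓ stabilizer G ω) := by
    rw [← Subgroup.card_map_of_injective A.subtype_injective, inf_comm, ← Subgroup.subgroupOf_map_subtype]
    rfl
  rw [index_stabilizer, o, e'] at e
  exact Nat.eq_of_mul_eq_mul_right Nat.card_pos e

omit [FaithfulSMul G Ω] in
theorem Nrm.fix (h : St G Ω p q) [n : A.Normal] (cm : ∀ a ∈ A, ∀ b ∈ A, a * b = b * a)
    (o : ∀ ω : Ω, Nat.card A = p * Nat.card ↥(A ⊓ stabilizer G ω)) {y : G} {k : ℕ} (e : y ^ q ^ k = 1) (ω : Ω)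
    (hy : y ∈ stabilizer G (orbit A ω)) : y • ω = ω := by
  have := Fact.mk h.hq
  let O : SubMulAction (Subgroup.zpowers y) Ω := ⟨orbit A ω, fun c x hx => by
    have : c.1 • orbit A ω = orbit A ω := Subgroup.zpowers_le.2 hy c.2
    exact this ▸ Set.smul_mem_smul_set hx⟩
  have m := (IsPGroup.of_card (G := Subgroup.zpowers y) (((Nat.dvd_prime_pow h.hq).1
    (orderOf_dvd_of_pow_eq_one e)).choose_spec.2 ▸ Nat.card_zpowers y)).card_modEq_card_fixedPoints O
  rw [show Nat.card O = p from Nrm.orb (o ω)] at m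
  obtain ⟨a1, a2, -, -, -, a3⟩ := h.num
  have two : 1 < Nat.card (fixedPoints (Subgroup.zpowers y) O) := by
    by_contra c
    rcases (by omega : Nat.card (fixedPoints (Subgroup.zpowers y) O) = 0 ∨
      Nat.card (fixedPoints (Subgroup.zpowers y) O) = 1) with c | c <;> rw [c] at m
    · have := (Nat.prime_dvd_prime_iff_eq h.hq h.hp).1 (Nat.modEq_zero_iff_dvd.1 m)
      omega
    · exact a3 ((Nat.modEq_iff_dvd' h.hp.pos).1 m.symm)
  obtain ⟨⟨⟨u, hu⟩, fu⟩, ⟨⟨v, hv⟩, fv⟩, ne⟩ := (Finite.one_lt_card_iff_nontrivial.1 two).exists_pair_ne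
  replace fu : y • u = u := congrArg Subtype.val (fu ⟨y, Subgroup.mem_zpowers y⟩)
  replace fv : y • v = v := congrArg Subtype.val (fv ⟨y, Subgroup.mem_zpowers y⟩)
  have eo : orbit A u = orbit A ω := orbit_eq_iff.2 hu
  let K : Subgroup G :=
    { carrier := {a | a ∈ A ∧ y • a • u = a • u}
      one_mem' := ⟨one_mem _, by simpa using fu⟩
      mul_mem' := fun {a b} ha hb => ⟨mul_mem ha.1 hb.1, by
        have c : (y * a * y⁻¹) • u = a • u := by rw [mul_smul, mul_smul, inv_smul_eq_iff.2 fu.symm, ha.2]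
        calc _ = (y * a * y⁻¹) • y • b • u := by simp [mul_smul]
          _ = _ := by rw [hb.2, ← mul_smul, cm _ (n.conj_mem a ha.1 y) b hb.1, mul_smul, c, ← mul_smul, cm b hb.1 a ha.1]⟩
      inv_mem' := fun {a} ha => ⟨inv_mem ha.1, by
        have c : (y * a * y⁻¹) • u = a • u := by rw [mul_smul, mul_smul, inv_smul_eq_iff.2 fu.symm, ha.2]
        calc _ = (y * a * y⁻¹)⁻¹ • y • u := by simp [mul_smul]
          _ = _ := by
            rw [fu, inv_smul_eq_iff, ← mul_smul, cm _ (n.conj_mem a ha.1 y) _ (inv_mem ha.1), mul_smul, c, inv_smul_smul]⟩ }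
  have l1 : A ⊓ stabilizer G u ≤ K := fun a ha => ⟨ha.1, by rw [show a • u = u from ha.2, fu]⟩
  have l2 : K ≤ A := fun a ha => ha.1
  obtain ⟨s, hs⟩ := Subgroup.card_dvd_of_le l1
  have d := Subgroup.card_dvd_of_le l2
  rw [o u, hs, mul_comm] at d
  rcases (Nat.dvd_prime h.hp).1 (Nat.dvd_of_mul_dvd_mul_right Nat.card_pos d) with rfl | rfl
  · obtain ⟨⟨a, ha⟩, rfl⟩ : v ∈ orbit A u := eo ▸ hv
    have : a • u = u := ((Subgroup.eq_of_le_of_card_ge l1 (by omega)).ge (show a ∈ K from ⟨ha, fv⟩)).2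
    exact (ne (Subtype.ext (Subtype.ext this.symm))).elim
  · obtain ⟨⟨a, ha⟩, e⟩ : ω ∈ orbit A u := eo ▸ mem_orbit_self ω
    rw [← e]
    exact ((Subgroup.eq_of_le_of_card_ge l2 (by rw [o u, hs, mul_comm])).ge ha).2

theorem Nrm.nrm0 (h : St G Ω p q) [n : A.Normal] (cm : ∀ a ∈ A, ∀ b ∈ A, a * b = b * a)
    (o : ∀ ω : Ω, Nat.card A = p * Nat.card ↥(A ⊓ stabilizer G ω)) : False := by
  have := h.tr
  have p0 := h.hp.pos
  have q3 := h.q3
  obtain ⟨ω⟩ : Nonempty Ω := (Nat.card_pos_iff.1 (by rw [h.card]; positivity)).1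
  have c := (IsBlock.orbit_of_normal (N := A) ω).ncard_block_mul_ncard_orbit_eq ⟨ω, mem_orbit_self ω⟩
  rw [Nrm.orb (o ω), h.card, mul_right_comm, mul_comm] at c
  replace c := Nat.eq_of_mul_eq_mul_right p0 c
  let X := orbit G (orbit A ω)
  let φ := toPermHom G X
  let := Fintype.ofFinite X
  obtain ⟨⟨_, g, rfl⟩, og, fg⟩ := Cfsg.Agent.S5727.result (G := φ.range) (Ω := X)
    ⟨fun a b => let ⟨g, e⟩ := exists_smul_eq G a b; ⟨⟨_, g, rfl⟩, e⟩⟩ q 2 h.hq (by norm_num) (by omega)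
    (by rw [← Nat.card_eq_fintype_card]; exact c)
  replace og : orderOf (φ g) = q := by rw [← og, ← Subgroup.orderOf_coe]
  have mem : ∀ a : Ω, orbit A a ∈ X := fun a =>
    let ⟨k, e⟩ := exists_smul_eq G ω a; ⟨k, by rw [← e]; exact smul_orbit_eq_orbit_smul A ω k⟩
  obtain ⟨a, m, hm, e⟩ := Nat.exists_eq_pow_mul_and_not_dvd (orderOf_pos g).ne' q h.hq.ne_one
  have nf : ∀ b : Ω, g ^ m • b ≠ b := fun b c => by
    obtain ⟨j, hj⟩ := exists_pow_eq_self_of_coprime (x := φ g) (n := m)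
      (og ▸ ((Nat.Prime.coprime_iff_not_dvd h.hq).2 hm).symm)
    have s : (g ^ m) ^ j ∈ stabilizer G (⟨_, mem b⟩ : X) := pow_mem (Subtype.ext (by
      show g ^ m • orbit A b = orbit A b
      rw [smul_orbit_eq_orbit_smul, c])) j
    refine fg ⟨_, mem b⟩ ?_
    show φ g _ = _
    rw [← hj, ← map_pow, ← map_pow]
    exact s
  have e1 : (g ^ m) ^ q = 1 := eq_of_smul_eq_smul (α := Ω) fun b => by
    rw [one_smul]
    refine Nrm.fix h cm o (k := a) ?_ b ?_
    · rw [← pow_mul, ← pow_mul, ← orderOf_dvd_iff_pow_eq_one, e]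
      exact ⟨q, by ring⟩
    · have : φ ((g ^ m) ^ q) = 1 := by rw [← pow_mul, map_pow, mul_comm, pow_mul, ← og, pow_orderOf_eq_one, one_pow]
      exact congrArg Subtype.val (DFunLike.congr_fun this ⟨_, mem b⟩)
  have := Fact.mk h.hq
  obtain ⟨b, hb⟩ := h.el (g ^ m) (by rw [orderOf_eq_prime e1 fun c => nf ω (by rw [c, one_smul])]; exact h.hq)
  exact nf b hb

/-- PROOF. `N = N_G(A)` acts transitively on the set `X` of the `2 q` orbits of `A` (each has `p` points).
(1) An element `y ∈ N` of order `q` that stabilises every `A`-orbit is trivial: on an orbit `O`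
(`|O| = p`, `q ∤ p`) `y` fixes a point `ω`; `O = {a ^ i • ω}` for `a ∈ A` moving `ω`; if `y` fixes a second point
`a ^ i • ω` then `y a ^ i y⁻¹` and `a ^ i` agree at `ω`, hence (`A` commutative) `y` fixes all `a ^ (i k) • ω`, i.e. `O`;
otherwise `q ∣ p - 1` (`St.num`). So `y` fixes every point, `y = 1`. (2) S5727 (`m = 2`, prime `q`) for the
faithful quotient (image of `N` in `Perm X`) gives `g ∈ N` whose image has order `q` and fixes no orbit. Write
`orderOf g = q ^ a * m`, `q ∤ m`, `g' = g ^ m`: still no fixed orbit, `g' ^ q` stabilises every orbit and is a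
`q`-element, so trivial by (1) (applied to a power of order `q`). So `g'` has order `q` and no fixed point. -/
theorem nrm (h : St G Ω p q) (c : Uc Ω p P A)
    (tr : ∀ a b : Ω, ∃ n ∈ Subgroup.normalizer (A : Set G), n • a = b) : False := by
  have le : A ≤ Subgroup.normalizer (A : Set G) := Subgroup.le_normalizer
  have k : ∀ {B : Subgroup G}, B ≤ A → Nat.card (B.subgroupOf (Subgroup.normalizer (A : Set G))) = Nat.card B :=
    fun hB => Nat.card_congr (Subgroup.subgroupOfEquivOfLe (hB.trans le)).toEquiv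
  refine Nrm.nrm0 (G := Subgroup.normalizer (A : Set G)) (Ω := Ω) (A := A.subgroupOf _)
    ⟨h.hp, h.hq, h.q3, h.lt, h.lt2, ⟨fun a b => let ⟨n, hn, e⟩ := tr a b; ⟨⟨n, hn⟩, e⟩⟩, h.card,
      fun g hg => h.el g (by rwa [Subgroup.orderOf_coe])⟩
    (fun a ha b hb => Subtype.ext (c.cm _ ha _ hb)) fun ω => ?_
  rw [k le_rfl, c.orb ω, ← k inf_le_left]
  rfl

end CL.Pq
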