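/-
PERM/Pq (S3579): the elements of order p of P lie in A
-/
import Cfsg.Agent.PERM.Pq.BasB

set_option autoImplicit false
set_option linter.unusedSectionVars false

namespace CL.Pq

open MulAction Pointwise

variable {G Ω : Type*} [Group G] [Finite G] [MulAction G Ω] [Finite Ω] [FaithfulSMul G Ω] {p q : ℕ}
  {P A : Subgroup G} {x : G} {δ : Ω}

namespace Om

theorem rel {B C : Subgroup G} (h : B ≤ C) : B.relIndex C * Nat.card B = Nat.card C := by
  rw [Subgroup.relIndex, ← Nat.card_congr (Subgroup.subgroupOfEquivOfLe h).toEquiv, Subgroup.index_mul_card]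

theorem pg (c : Pc p P A x δ) : IsPGroup p P := by
  obtain ⟨S, rfl⟩ := c.syl
  exact S.isPGroup'

theorem idx (c : Pc p P A x δ) : A.relIndex P = p :=
  Nat.eq_of_mul_eq_mul_right Nat.card_pos ((rel c.le).trans c.card)

theorem dvd (hp : p.Prime) (c : Pc p P A x δ) {g : G} (hg : g ∈ P) (n : g ∉ A) {k : ℕ} (h : g ^ k ∈ A) :
    p ∣ k := by
  by_contra nd
  have h1 := Nat.gcd_eq_gcd_ab p k
  rw [(Nat.Prime.coprime_iff_not_dvd hp).2 nd, Nat.cast_one] at h1
  refine n ?_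
  rw [← zpow_one g, h1, zpow_add, zpow_mul, zpow_mul, zpow_natCast, zpow_natCast]
  exact A.mul_mem (A.zpow_mem ((nrm_of_card hp (pg c) c.le c.card).2 g hg) _) (A.zpow_mem h _)

theorem cen (hp : p.Prime) (c : Pc p P A x δ) {g : G} (hg : g ∈ P) (n : g ∉ A) {u : G} (hu : u ∈ P) :
    Commute u (g ^ p) := by
  have hA := (nrm_of_card hp (pg c) c.le c.card).2 g hg
  have l1 : A ≤ P ⊓ Subgroup.centralizer {g ^ p} := fun a ha =>
    ⟨c.le ha, Subgroup.mem_centralizer_singleton_iff.2 (c.cm a ha _ hA)⟩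
  have h1 := Subgroup.relIndex_mul_relIndex _ _ _ l1 inf_le_left
  rw [idx c] at h1
  rcases (Nat.dvd_prime hp).1 (Dvd.intro _ h1) with h2 | h2
  · exact absurd (Subgroup.relIndex_eq_one.1 h2
      ⟨hg, Subgroup.mem_centralizer_singleton_iff.2 (Commute.self_pow g p).eq⟩) n
  · rw [h2, Nat.mul_eq_left hp.ne_zero] at h1
    exact Subgroup.mem_centralizer_singleton_iff.1 (Subgroup.relIndex_eq_one.1 h1 hu).2

theorem prop (hp : p.Prime) {B H : Subgroup G} (hB : IsPGroup p B) (n : ¬ B ≤ H) :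
    p * Nat.card ↥(H ⊓ B) ≤ Nat.card B := by
  have := Fact.mk hp
  rw [← rel (inf_le_right : H ⊓ B ≤ B)]
  refine Nat.mul_le_mul_right _ ?_
  obtain ⟨k, hk⟩ := hB.index ((H ⊓ B).subgroupOf B)
  change (H ⊓ B).relIndex B = _ at hk
  rw [hk]
  refine Nat.le_self_pow (fun k0 => n ?_) p
  rw [k0, pow_zero] at hk
  exact (Subgroup.relIndex_eq_one.1 hk).trans inf_le_left

omit [Finite G] in
theorem hall {a y c : G} (h : y * a = c * a * y) (ca : Commute c a) (cy : Commute c y) (n : ℕ) :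
    (a * y) ^ n = c ^ n.choose 2 * a ^ n * y ^ n := by
  have h1 : ∀ n : ℕ, y ^ n * a = c ^ n * a * y ^ n := fun n => by
    induction n with
    | zero => simp
    | succ n ih =>
      rw [pow_succ' y, mul_assoc, ih, ← mul_assoc, ← mul_assoc, ← (cy.pow_left n).eq, mul_assoc _ y a, h, pow_succ c]
      simp only [mul_assoc]
  induction n with
  | zero => simp
  | succ n ih =>
    rw [pow_succ, ih, Nat.choose_succ_succ' n 1, Nat.choose_one_right, add_comm n, pow_add, pow_succ a, pow_succ y,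
      mul_assoc _ (y ^ n), ← mul_assoc (y ^ n), h1, mul_assoc _ (c ^ n), ← mul_assoc (c ^ n), (ca.pow_pow n n).eq]
    simp only [mul_assoc]

theorem step3 (h : St G Ω p q) (c : Pc p P A x δ) {a : G} (ha : a ∈ A)
    (fx : ∀ j : ℕ, ∃ i : ℕ, (a * x ^ (p * j)) • x ^ i • δ = x ^ i • δ) : (a * x) ^ p • δ = x ^ p • δ := by
  have hp := h.hp
  have := Fact.mk hp
  choose s hs using c.blk a ha
  have cm : ∀ i m : ℕ, a • x ^ (i + p * m) • δ = x ^ (i + p * m + p * s i) • δ := fun i m => by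
    rw [add_comm i, pow_add, mul_smul, ← mul_smul a, pow_mul, c.cm a ha _ (A.pow_mem c.zA m), mul_smul, hs,
      ← mul_smul, ← pow_mul, ← pow_add, add_assoc]
  have can : ∀ i u v : ℕ, x ^ (i + p * u) • δ = x ^ (i + p * v) • δ → (u : ZMod p) = v := fun i u v e => by
    have h1 := Nat.ModEq.add_left_cancel' i ((c.inj _ _).1 e)
    rw [pow_two] at h1
    exact (ZMod.natCast_eq_natCast_iff _ _ _).2 (Nat.ModEq.mul_left_cancel' hp.ne_zero h1)
  have per : ∀ i : ℕ, (s i : ZMod p) = s (i % p) := fun i => by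
    have h1 := cm (i % p) (i / p)
    rw [Nat.mod_add_div, hs] at h1
    exact can i _ _ h1
  have sur : Function.Surjective fun i : Fin p => (s (i + 1) : ZMod p) := fun r => by
    obtain ⟨i, hi⟩ := fx (-r).val
    rw [mul_smul, ← mul_smul (x ^ _), ← pow_add, add_comm, cm, add_assoc, ← mul_add] at hi
    have h1 := can i _ 0 (by simpa using hi)
    refine ⟨⟨(i + (p - 1)) % p, Nat.mod_lt _ hp.pos⟩, ?_⟩
    have h2 : ((i + (p - 1)) % p + 1) % p = i % p := by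
      rw [Nat.mod_add_mod, add_assoc, Nat.sub_add_cancel hp.pos, Nat.add_mod_right]
    change (s ((i + (p - 1)) % p + 1) : ZMod p) = r
    rw [per, h2, ← per]
    rw [Nat.cast_add, ZMod.natCast_zmod_val, Nat.cast_zero] at h1
    linear_combination h1
  have bij := (Fintype.bijective_iff_surjective_and_card _).2 ⟨sur, by simp⟩
  have sm : ((∑ i ∈ Finset.range p, s (i + 1) : ℕ) : ZMod p) = 0 := by
    have h1 := FiniteField.sum_pow_lt_card_sub_one (ZMod p) 1 (by have := h.num.2.1; rw [ZMod.card]; omega)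
    rw [← bij.sum_comp] at h1
    rw [Nat.cast_sum, ← Fin.sum_univ_eq_sum_range (fun i => (s (i + 1) : ZMod p))]
    simpa using h1
  have pw : ∀ k : ℕ, (a * x) ^ k • δ = x ^ (k + p * ∑ i ∈ Finset.range k, s (i + 1)) • δ := fun k => by
    induction k with
    | zero => simp
    | succ k ih =>
      rw [pow_succ', mul_smul, ih, mul_smul, ← mul_smul x, ← pow_succ', add_right_comm, cm, Finset.sum_range_succ,
        mul_add, add_assoc]
  rw [pw, c.inj]
  obtain ⟨m, hm⟩ := (ZMod.natCast_eq_zero_iff _ _).1 sm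
  rw [hm, ← mul_assoc, ← pow_two]
  exact Nat.add_mul_mod_self_left _ _ _

end Om

/-- the transfer `P → A`. PROOF. `V = MonoidHom.transfer` of the identity of the commutative group
`A.subgroupOf P` (index `p` in `↥P`), composed with the inclusions; for `g ∉ A` `MonoidHom.transfer_eq_pow` applies:
`g₀⁻¹ g ^ k g₀ ∈ A` forces `p ∣ k`, and `g ^ p ∈ A` is central in `P = A⟨g⟩`. (Alternatively define
`V (a x ^ j) = (∏ x ^ i a x ^ (-i)) z ^ j`.) -/
theorem Pc.tr (hp : p.Prime) (c : Pc p P A x δ) :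
    ∃ V : P →* G, ∀ g : P, (g : G) ∉ A → V g = (g : G) ^ p := by
  let : CommGroup (A.subgroupOf P) :=
    { (inferInstance : Group (A.subgroupOf P)) with
      mul_comm := fun a b => Subtype.ext (Subtype.ext (c.cm _ a.2 _ b.2)) }
  refine ⟨(P.subtype.comp (A.subgroupOf P).subtype).comp (MonoidHom.transfer (MonoidHom.id (A.subgroupOf P))),
    fun g n => ?_⟩
  rw [MonoidHom.comp_apply, MonoidHom.transfer_eq_pow _ g fun k u hu => ?_]
  · exact congrArg ((g : G) ^ ·) (Om.idx c)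
  · have h1 := (c.gen hp).1 u u.2 _ hu
    have h2 : (g : G) ^ k ∈ A := by simpa [mul_assoc] using h1
    obtain ⟨m, rfl⟩ := Om.dvd hp c g.2 n h2
    refine Subtype.ext ?_
    have h3 := ((Om.cen hp c g.2 n u.2).pow_right m).eq
    change (u : G)⁻¹ * (g : G) ^ (p * m) * u = (g : G) ^ (p * m)
    rw [pow_mul, mul_assoc, ← h3, inv_mul_cancel_left]

/-- PROOF. Suppose `y ∈ P ∖ A`, `y ^ p = 1`; `V` as in `Pc.tr`, `z = x ^ p = V x ≠ 1`. For `g ∉ A`, `V g = g ^ p ∈ A` commutes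
with `P = A⟨g⟩` and is trivial off `Δ`, so is a power of `z` (`Pc.cen`); for `a ∈ A`, `V a = V (a x) (V x)⁻¹`. So
`range V = ⟨z⟩` and `B = ker V` (mapped to `G`) has `|P| = p |B|`, exponent `p`, `y ∈ B`, `z ∈ B`, and
`{g ∈ P | g ^ p = 1} ⊆ A ∪ B`. STEP 1: if `B ≠ P_ω` for all `ω ∉ Δ`, `avoid` in `Q = B` for `A` and the `≤ 2 q - p`
subgroups `P_ω` (`few`; two distinct subgroups of index `p` meet in index `≥ p²`) gives `g ∈ B ∖ A` of order `p` without
fixed points (`Pc.dl`), contra `el`. So `B = P_{ω₁}`. STEP 2: for `ω ∉ Δ`, `P_ω` is conjugate to `B` (`St.conj`), so has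
exponent `p`, lies in `A ∪ B`, so equals `A` or `B`. If `P_ω = A` then `B` is commutative; take `a ∈ A ∖ B`; `c = y a y⁻¹ a⁻¹ ∈
A ⊓ B` commutes with `a`, `y`, so `V a = V (a y) = (a y) ^ p = a ^ p * c ^ (p (p-1)/2) * y ^ p = 1` (`p` odd), false. So
`P_ω = B` for all `ω ∉ Δ`. STEP 3: `a ∈ A ∖ B`, `a • x ^ i • δ = x ^ (i + p s_i) • δ` (`s_i mod p` depends on `i mod p`: `a`
commutes with `z`). For each `j`, `a z ^ j ∉ B` has order `p`, moves all points off `Δ`, so fixes a point of `Δ`: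
`s_i + j ≡ 0 [MOD p]` for some `i`. So `i ↦ s_i` is onto `ZMod p`, bijective on `ZMod p`, `∑ s_i = 0` in `ZMod p`.
`(a x) ^ k • δ = x ^ (k + p (s_1 + .. + s_k)) • δ`, so `V (a x) • δ = z • δ = V x • δ`, so `V a ∈ ⟨z⟩` fixes `δ`,
`V a = 1` (`inj`, `Pc.cen`), `a ∈ B`, false. -/
theorem Pc.om (h : St G Ω p q) (c : Pc p P A x δ) : ∀ y ∈ P, y ^ p = 1 → y ∈ A := by
  classical
  intro y yP yp
  by_contra yA
  have hp := h.hp
  have := Fact.mk hp
  have pg := Om.pg c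
  obtain ⟨V, hV⟩ := c.tr hp
  obtain ⟨d1, d2, d3, -⟩ := c.dl hp
  obtain ⟨ox, cen⟩ := c.cen hp
  have pA := (nrm_of_card hp pg c.le c.card).2
  have zz : ∀ g ∈ P, g ∉ A → ∃ s : ℕ, g ^ p = x ^ (p * s) := fun g hg n =>
    cen _ (pA g hg) (Om.cen hp c hg n c.xP).eq.symm (d3 g hg)
  have mA : ∀ a ∈ A, ∀ g, g ∉ A → a * g ∉ A := fun a ha g n h' => n ((A.mul_mem_cancel_left ha).1 h')
  have rg : V.range = Subgroup.zpowers (x ^ p) := by
    have h1 : ∀ g : P, (g : G) ∉ A → V g ∈ Subgroup.zpowers (x ^ p) := fun g n => by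
      obtain ⟨s, hs⟩ := zz g g.2 n
      rw [hV g n, hs, pow_mul]
      exact Subgroup.npow_mem_zpowers _ _
    refine le_antisymm ?_ (Subgroup.zpowers_le.2 ⟨⟨x, c.xP⟩, hV _ c.xA⟩)
    rintro _ ⟨g, rfl⟩
    by_cases n : (g : G) ∈ A
    · have h2 := h1 (g * ⟨x, c.xP⟩) (mA _ n x c.xA)
      rw [map_mul] at h2
      exact (Subgroup.mul_mem_cancel_right _ (h1 ⟨x, c.xP⟩ c.xA)).1 h2
    · exact h1 g n
  obtain ⟨B, BP, cB, b4, b6, b3, zB⟩ : ∃ B ≤ P, Nat.card P = p * Nat.card B ∧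
      (∀ g ∈ P, g ∉ A → g ^ p = 1 → g ∈ B) ∧ (∀ a ∈ A, ∀ g ∈ P, g ∉ A → (a * g) ^ p = g ^ p → a ∈ B) ∧
      (∀ g ∈ B, g ^ p = 1) ∧ x ^ p ∈ B := by
    refine ⟨V.ker.map P.subtype, Subgroup.map_subtype_le _, ?_, fun g hg n e => ⟨⟨g, hg⟩, (hV _ n).trans e, rfl⟩,
      fun a ha g hg n e => ⟨⟨a, c.le ha⟩, ?_, rfl⟩, ?_, ⟨⟨x, c.xP⟩ ^ p, ?_, rfl⟩⟩
    · rw [Subgroup.card_map_of_injective P.subtype_injective, ← V.ker.index_mul_card, Subgroup.index_ker, rg,
        Nat.card_zpowers, orderOf_pow' _ hp.ne_zero, ox, pow_two, Nat.gcd_mul_right_left, Nat.mul_div_cancel _ hp.pos]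
    · have h1 := hV (⟨a, c.le ha⟩ * ⟨g, hg⟩) (mA a ha g n)
      rw [map_mul, hV ⟨g, hg⟩ n] at h1
      exact mul_eq_right.1 (h1.trans e)
    · rintro _ ⟨g, hg, rfl⟩
      by_cases n : (g : G) ∈ A
      · exact c.ex _ n
      · exact (hV g n).symm.trans hg
    · change V (⟨x, c.xP⟩ ^ p) = 1
      rw [map_pow, hV _ c.xA]
      exact c.ex _ c.zA
  have yB := b4 y yP yA yp
  have el : ∀ g : G, g ≠ 1 → g ^ p = 1 → ∃ ω : Ω, g • ω = ω := fun g n e =>
    h.el g (by rw [orderOf_eq_prime e n]; exact hp)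
  obtain ⟨ω₁, -, le₁⟩ : ∃ ω₁ : Ω, ω₁ ∉ Dl x δ ∧ B ≤ P ⊓ stabilizer G ω₁ := by
    by_contra n
    push Not at n
    obtain ⟨s, s1, s2, s3⟩ := few hp pg (Dl x δ)ᶜ (fun g hg ω hω h' => hω ((d1 g hg ω).1 h')) c.sm
    rw [c.cardF h, mul_comm _ p] at s1
    have s4 := Nat.le_of_mul_le_mul_left s1 hp.pos
    obtain ⟨g, gB, hg⟩ := avoid hp.two_le B (insert A s)
      ((Finset.card_insert_le _ _).trans (by have := h.lt; omega)) fun H hH => by
        refine Om.prop hp (pg.to_le BP) ?_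
        rcases Finset.mem_insert.1 hH with rfl | hH
        · exact fun l => yA (l yB)
        · obtain ⟨ω, hω, rfl⟩ := s3 H hH
          exact n ω hω
    have gA := hg A (Finset.mem_insert_self _ _)
    obtain ⟨ω, hω⟩ := el g (fun e => gA (e ▸ A.one_mem)) (b3 g gB)
    by_cases m : ω ∈ Dl x δ
    · exact d2 g (BP gB) gA ω m hω
    · exact hg _ (Finset.mem_insert_of_mem (s2 ω m)) ⟨BP gB, hω⟩
  obtain ⟨a, aA, aB⟩ : ∃ a ∈ A, a ∉ B := by
    by_contra n
    push Not at n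
    have e : A = B := Subgroup.eq_of_le_of_card_ge n
      (Nat.eq_of_mul_eq_mul_left hp.pos (cB.symm.trans c.card)).le
    exact yA (e ▸ yB)
  have st : ∀ ω : Ω, ω ∉ Dl x δ → P ⊓ stabilizer G ω ≤ B := fun ω hω => by
    obtain ⟨g, -, e⟩ := h.conj c.syl (pg.to_le BP) (pg.to_le inf_le_left) (le₁.trans inf_le_right)
      (inf_le_right : P ⊓ stabilizer G ω ≤ _) cB (c.sm ω hω)
    have ex : ∀ t ∈ P ⊓ stabilizer G ω, t ^ p = 1 := fun t ht => by
      have h1 := b3 _ (e ▸ Subgroup.smul_mem_pointwise_smul t (MulAut.conj g) _ ht)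
      rwa [MulAut.smul_def, ← map_pow, map_eq_one_iff _ (MulAut.conj g).injective] at h1
    refine (SubgroupClass.subset_union.1 fun t ht => ?_ : P ⊓ stabilizer G ω ≤ A ∨ _).resolve_left fun l => aB ?_
    · by_cases m : t ∈ A
      · exact Or.inl m
      · exact Or.inr (b4 t ht.1 m (ex t ht))
    · have cm : ∀ u ∈ B, ∀ v ∈ B, u * v = v * u := by
        rw [← e]
        rintro _ ⟨u, hu, rfl⟩ _ ⟨v, hv, rfl⟩
        change MulAut.conj g u * MulAut.conj g v = MulAut.conj g v * MulAut.conj g u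
        rw [← map_mul, ← map_mul, c.cm u (l hu) v (l hv)]
      have k1 : y * a * y⁻¹ * a⁻¹ ∈ A := A.mul_mem ((c.gen hp).1 y yP a aA) (A.inv_mem aA)
      have k2 : y * a * y⁻¹ * a⁻¹ ∈ B := by
        have := B.mul_mem yB ((nrm_of_card hp pg BP cB).1 a (c.le aA) _ (B.inv_mem yB))
        simpa only [mul_assoc] using this
      refine b6 a aA y yP yA ?_
      obtain ⟨m, hm⟩ := hp.dvd_choose_self two_ne_zero (by have := h.num.2.1; omega)
      rw [Om.hall (c := y * a * y⁻¹ * a⁻¹) (by group) (c.cm _ k1 a aA) (cm _ k2 y yB), hm, pow_mul, c.ex _ k1,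
        c.ex a aA, one_pow, one_mul, one_mul]
  have h3 := Om.step3 h c aA fun j => by
    have m1 : a * x ^ (p * j) ∉ B := fun h' => aB ((B.mul_mem_cancel_right (pow_mul x p j ▸ B.pow_mem zB j)).1 h')
    have m2 : a * x ^ (p * j) ∈ A := A.mul_mem aA (pow_mul x p j ▸ A.pow_mem c.zA j)
    obtain ⟨ω, hω⟩ := el (a * x ^ (p * j)) (fun e => m1 (e ▸ B.one_mem)) (c.ex _ m2)
    obtain ⟨i, rfl⟩ : ω ∈ Dl x δ := by_contra fun m => m1 (st ω m ⟨c.le m2, hω⟩)
    exact ⟨i, hω⟩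
  obtain ⟨s, hs⟩ := zz (a * x) (P.mul_mem (c.le aA) c.xP) (mA a aA x c.xA)
  rw [hs, c.inj, ← ox, ← pow_eq_pow_iff_modEq] at h3
  exact aB (b6 a aA x c.xP c.xA (hs.trans h3))

end CL.Pq
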