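/-
PERM/Pq (S3579): only one short orbit
-/
import Cfsg.Agent.PERM.Pq.BasB
import Cfsg.Agent.CLAS.T2.Fish

set_option autoImplicit false

namespace CL.Pq

open MulAction Pointwise

variable {G Ω : Type*} [Group G] [Finite G] [MulAction G Ω] [Finite Ω] [FaithfulSMul G Ω] {p q : ℕ}
  {P A : Subgroup G} {x : G} {δ : Ω}

namespace One

/-- the stabilizer in `N(A)` of the `A`-orbit of `δ` -/
def Hb (A : Subgroup G) (δ : Ω) : Subgroup ↥(Subgroup.normalizer (A : Set G)) where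
  carrier := {n | ∃ a ∈ A, a • δ = (n : G) • δ}
  one_mem' := ⟨1, one_mem _, rfl⟩
  mul_mem' := by
    rintro n m ⟨a, ha, e⟩ ⟨b, hb, e'⟩
    refine ⟨(n : G) * b * (n : G)⁻¹ * a, mul_mem ((Subgroup.mem_normalizer_iff.1 n.2 b).1 hb) ha, ?_⟩
    rw [Subgroup.coe_mul, mul_smul, e, mul_smul, inv_smul_smul, mul_smul, e', mul_smul]
  inv_mem' := by
    rintro n ⟨a, ha, e⟩
    refine ⟨(n : G)⁻¹ * a⁻¹ * (n : G)⁻¹⁻¹,
      (Subgroup.mem_normalizer_iff.1 (inv_mem n.2) _).1 (inv_mem ha), ?_⟩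
    rw [inv_inv, mul_smul, ← e, mul_smul, inv_smul_smul, Subgroup.coe_inv]

omit [FaithfulSMul G Ω] [Finite Ω] in
theorem xN (hp : p.Prime) (c : Bc p P A x δ) : x ∈ Subgroup.normalizer (A : Set G) := by
  have g := (c.toPc.gen hp).1
  refine Subgroup.mem_normalizer_iff.2 fun a => ⟨g x c.xP a, fun ha => ?_⟩
  have := g x⁻¹ (inv_mem c.xP) _ ha
  simpa [mul_assoc] using this

omit [FaithfulSMul G Ω] [Finite Ω] in
theorem index (hp : p.Prime) (c : Bc p P A x δ) : (Hb A δ).index = p := by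
  have hx := xN hp c
  let f : Fin p → ↥(Subgroup.normalizer (A : Set G)) ⧸ Hb A δ := fun i =>
    ((⟨x ^ (i : ℕ), pow_mem hx _⟩ : ↥(Subgroup.normalizer (A : Set G))) : _ ⧸ Hb A δ)
  have bij : Function.Bijective f := by
    constructor
    · intro i j e
      obtain ⟨a, ha, e⟩ := QuotientGroup.eq.1 e
      have e : a • δ = ((x ^ (i : ℕ))⁻¹ * x ^ (j : ℕ)) • δ := e
      have ha' := (Subgroup.mem_normalizer_iff.1 (pow_mem hx (i : ℕ)) a).1 ha
      obtain ⟨s, hs⟩ := c.blk _ ha' i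
      rw [mul_smul, inv_smul_smul, mul_smul, e, mul_smul, smul_inv_smul, c.inj] at hs
      have h1 : (j : ℕ) ≡ i + p * s [MOD p] := hs.of_dvd (dvd_pow_self p two_ne_zero)
      have h2 : (i : ℕ) + p * s ≡ i [MOD p] := by simp [Nat.ModEq]
      exact Fin.ext (Nat.ModEq.eq_of_lt_of_lt (h1.trans h2) j.2 i.2).symm
    · intro y
      obtain ⟨n, rfl⟩ := QuotientGroup.mk_surjective y
      obtain ⟨k, hk⟩ := ((c.fix hp).2 n n.2 δ).2 ⟨0, by simp⟩
      refine ⟨⟨k % p, Nat.mod_lt _ hp.pos⟩, QuotientGroup.eq.2 ⟨(x ^ p) ^ (k / p), pow_mem c.zA _, ?_⟩⟩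
      show _ = ((x ^ (k % p))⁻¹ * (n : G)) • δ
      rw [mul_smul, ← hk, eq_inv_smul_iff, smul_smul, ← pow_mul, ← pow_add, Nat.mod_add_div]
  rw [Subgroup.index, ← Nat.card_eq_of_bijective f bij, Nat.card_eq_fintype_card, Fintype.card_fin]

end One

omit [FaithfulSMul G Ω] in
/-- PROOF. `N = N_G(A)` acts doubly transitively on `F = Δᶜ` (`Bc.fix`, `Bc.wit`; `|F| = (2 q - p) p ≥ 2`). Let `β = A • δ`,
`H = N ⊓ G_β` (setwise). The `N`-orbit of `β` is `{x ^ i • β | i < p}` (`n • β` is the `A`-orbit of `n • δ ∈ Δ`), so `[N : H] = p`.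
`H` is not transitive on `F`: else `|H| = |F| |H_ω|`, `A ≤ H_ω`, `p² |A| = p |P|` divides `|N|`, so `|G|`, false. Fisher
(`CL.T2.Tw.card_le` for `↥N`, `↥F`, `Y = N ⧸ H.subgroupOf N`): `(2 q - p) p ≤ p`. -/
theorem one (h : St G Ω p q) (c : Bc p P A x δ) (tw : CL.T2.Tw G Ω) : p + 1 = 2 * q := by
  have hp := h.hp
  have : Fact p.Prime := ⟨hp⟩
  have fx := (c.fix hp).2
  let N : Subgroup G := Subgroup.normalizer (A : Set G)
  let F : Type _ := {ω : Ω // ω ∉ Dl x δ}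
  letI act : MulAction N F :=
    { smul := fun n ω => ⟨(n : G) • ω.1, fun e => ω.2 ((fx n n.2 _).1 e)⟩
      one_smul := fun ω => Subtype.ext (one_smul G ω.1)
      mul_smul := fun a b ω => Subtype.ext (mul_smul (a : G) (b : G) ω.1) }
  have cF : Nat.card F = (2 * q - p) * p := by
    rw [← c.toPc.cardF h]
    exact Nat.card_coe_set_eq (Dl x δ)ᶜ
  have lt2 := h.lt2
  have h2 := hp.two_le
  have nt : Nontrivial F := by
    rw [← Finite.one_lt_card_iff_nontrivial, cF]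
    have : 1 * p ≤ (2 * q - p) * p := Nat.mul_le_mul_right _ (by omega)
    omega
  have twF : CL.T2.Tw N F := by
    refine ⟨nt, fun a b a' b' h1 h2 => ?_⟩
    obtain ⟨g, e1, e2⟩ := tw.two a.1 b.1 a'.1 b'.1 (fun e => h1 (Subtype.ext e))
      (fun e => h2 (Subtype.ext e))
    obtain ⟨n, hn, f1, f2⟩ := c.wit h g a.2 b.2 (e1 ▸ a'.2) (e2 ▸ b'.2)
    exact ⟨⟨n, hn⟩, Subtype.ext (f1.trans e1), Subtype.ext (f2.trans e2)⟩
  have hi : (One.Hb A δ).index = p := One.index hp c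
  have AN : A ≤ N := Subgroup.le_normalizer
  have ntr : ¬ CL.T2.Tr (One.Hb A δ) F := by
    intro tr
    have : IsPretransitive (One.Hb A δ) F := ⟨fun a b =>
      let ⟨g, hg, e⟩ := tr a b; ⟨⟨g, hg⟩, e⟩⟩
    obtain ⟨ω, -⟩ := nt
    have i2 : (stabilizer (One.Hb A δ) ω).index = (2 * q - p) * p :=
      (index_stabilizer_of_transitive _ ω).trans cF
    have le1 : A.subgroupOf N ≤ One.Hb A δ := fun a ha => ⟨a, ha, rfl⟩
    have le2 : (A.subgroupOf N).subgroupOf (One.Hb A δ) ≤ stabilizer (One.Hb A δ) ω :=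
      fun a ha => Subtype.ext (c.out ω.1 ω.2 _ ha)
    have d1 := Subgroup.card_dvd_of_le le2
    rw [Nat.card_congr (Subgroup.subgroupOfEquivOfLe le1).toEquiv,
      Nat.card_congr (Subgroup.subgroupOfEquivOfLe AN).toEquiv] at d1
    have m1 := (stabilizer (One.Hb A δ) ω).card_mul_index
    have m2 := (One.Hb A δ).card_mul_index
    rw [i2] at m1
    rw [hi, ← m1] at m2
    have d2 : Nat.card P * p ∣ Nat.card G := by
      refine Dvd.dvd.trans ?_ (Subgroup.card_subgroup_dvd_card N)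
      rw [← m2, c.card]
      refine Nat.mul_dvd_mul_right ?_ _
      rw [mul_comm p]
      exact Nat.mul_dvd_mul d1 (Dvd.intro_left _ rfl)
    obtain ⟨S, rfl⟩ := c.syl
    rw [← (S : Subgroup G).card_mul_index] at d2
    exact S.not_dvd_index (Nat.dvd_of_mul_dvd_mul_left Nat.card_pos d2)
  have key := twF.card_le (Y := N ⧸ One.Hb A δ) (y := ((1 : N) : N ⧸ One.Hb A δ))
    (by rwa [stabilizer_quotient])
  rw [cF] at key
  have k2 : (2 * q - p) * p ≤ 1 * p := key.trans (by rw [one_mul]; exact hi.le)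
  have := Nat.le_of_mul_le_mul_right k2 hp.pos
  omega

end CL.Pq
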