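/-
PERM/Pq (S3579): the case of a cyclic Sylow subgroup
-/
import Cfsg.Agent.PERM.Pq.BasB

set_option autoImplicit false

namespace CL.Pq

open MulAction Pointwise

variable {G Ω : Type*} [Group G] [Finite G] [MulAction G Ω] [Finite Ω] [FaithfulSMul G Ω] {p q : ℕ}
  {P A : Subgroup G} {x : G} {δ : Ω}

namespace SmA

open Subgroup

open scoped IsMulCommutative in
theorem abs {C Ω : Type*} [Group C] [Finite C] [MulAction C Ω] [FaithfulSMul C Ω] {p : ℕ} (hp : p.Prime)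
    {x : C} (ho : orderOf x = p ^ 2) (hi : ¬ p ∣ (zpowers x).index) (hz : ∀ g, g * x ^ p = x ^ p * g)
    (tr : ∀ (g : C) (ω : Ω), ∃ u ∈ zpowers x, g • ω = u • ω) : zpowers x = ⊤ := by
  have := Fact.mk hp
  have cH : Nat.card (zpowers x) = p ^ 2 := by rw [Nat.card_zpowers, ho]
  set V : C →* zpowers x := MonoidHom.transfer (MonoidHom.id (zpowers x)) with hV
  have v1 : ¬ V x ^ p ^ 1 = 1 := fun e => by
    rw [pow_one, ← map_pow, hV, MonoidHom.transfer_eq_pow _ _ (fun k g _ => by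
      rw [mul_assoc, ← (Commute.pow_right (hz g) k).eq, inv_mul_cancel_left])] at e
    have e' : (x ^ p) ^ (zpowers x).index = 1 := congrArg Subtype.val e
    rw [← pow_mul, ← orderOf_dvd_iff_pow_eq_one, ho, sq] at e'
    exact hi (Nat.dvd_of_mul_dvd_mul_left hp.pos e')
  have v2 : orderOf (V x) = p ^ 2 := orderOf_eq_prime_pow v1 (by rw [← cH]; exact pow_card_eq_one')
  have iK : V.ker.index = p ^ 2 := by
    rw [index_ker]
    exact Nat.dvd_antisymm (cH ▸ card_subgroup_dvd_card _) (v2 ▸ V.range.orderOf_dvd_natCard ⟨x, rfl⟩)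
  have cK : Nat.card V.ker = (zpowers x).index := by
    have a := V.ker.card_mul_index
    rw [← (zpowers x).card_mul_index, iK, cH, mul_comm] at a
    exact Nat.eq_of_mul_eq_mul_left (pow_pos hp.pos 2) a
  have k : ∀ ω : Ω, V.ker ≤ stabilizer C ω := fun ω => by
    have s : (stabilizer C ω).index ∣ p ^ 2 := by
      have e : orbit C ω = orbit (zpowers x) ω := Set.ext fun a =>
        ⟨fun ⟨g, hg⟩ => let ⟨u, hu, e⟩ := tr g ω; ⟨⟨u, hu⟩, e.symm.trans hg⟩, fun ⟨g, hg⟩ => ⟨g.1, hg⟩⟩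
      rw [index_stabilizer, e, ← index_stabilizer, ← cH]
      exact index_dvd_card _
    have a := relIndex_mul_index (inf_le_right : stabilizer C ω ⊓ V.ker ≤ V.ker)
    rw [← relIndex_mul_index (inf_le_left : stabilizer C ω ⊓ V.ker ≤ stabilizer C ω), inf_relIndex_right,
      inf_relIndex_left, iK] at a
    have b : (stabilizer C ω).relIndex V.ker ∣ p ^ 2 :=
      Nat.dvd_of_mul_dvd_mul_right (pow_pos hp.pos 2)
        (a ▸ mul_dvd_mul (iK ▸ relIndex_dvd_index_of_normal _ _) s)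
    exact relIndex_eq_one.1 (Nat.eq_one_of_dvd_coprimes
      (Nat.Coprime.pow_left 2 ((hp.coprime_iff_not_dvd).2 hi)) b (cK ▸ relIndex_dvd_card _ _))
  have : V.ker = ⊥ := eq_bot_iff.2 fun g hg =>
    eq_of_smul_eq_smul (α := Ω) fun ω => by rw [one_smul]; exact k ω hg
  rw [← index_eq_one, ← cK, this, card_bot]

omit [Finite G] [FaithfulSMul G Ω] [Finite Ω] in
theorem cardDl {n : ℕ} (hn : 0 < n) (h : ∀ i j : ℕ, x ^ i • δ = x ^ j • δ ↔ i ≡ j [MOD n]) :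
    (Dl x δ).ncard = n := by
  have e : Dl x δ = (fun i => x ^ i • δ) '' ↑(Finset.range n) := Set.ext fun ω =>
    ⟨fun ⟨i, hi⟩ => ⟨i % n, Finset.mem_coe.2 (Finset.mem_range.2 (Nat.mod_lt _ hn)),
      ((h _ _).2 (Nat.mod_modEq i n)).trans hi⟩, fun ⟨i, _, hi⟩ => ⟨i, hi⟩⟩
  rw [e, Set.InjOn.ncard_image fun i hi j hj e => ((h i j).1 e).eq_of_lt_of_lt
    (Finset.mem_range.1 hi) (Finset.mem_range.1 hj), Set.ncard_coe_finset, Finset.card_range]

omit [Finite Ω] in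
theorem Peq (h : St G Ω p q) (c : Bc p P A x δ) (cy : A = zpowers (x ^ p)) : P = zpowers x := by
  have ho := (c.toPc.cen h.hp).1
  refine (eq_of_le_of_card_ge (zpowers_le.2 c.xP) ?_).symm
  rw [c.card, cy, Nat.card_zpowers, Nat.card_zpowers, orderOf_pow, ho,
    Nat.gcd_eq_right (dvd_pow_self p two_ne_zero), sq, Nat.mul_div_cancel _ h.hp.pos]

theorem two (h : St G Ω p q) (c : Bc p P A x δ) (e : p + 1 = 2 * q) (cy : A = zpowers (x ^ p))
    (ω : Ω) (hω : ω ∉ Dl x δ) : (∀ i j : ℕ, x ^ i • ω = x ^ j • ω ↔ i ≡ j [MOD p]) ∧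
      ∀ ω' : Ω, ω' ∉ Dl x δ → ω' ∈ Dl x ω := by
  have pe : period x ω = p := by
    refine ((Nat.dvd_prime h.hp).1 (pow_smul_eq_iff_period_dvd.1 (c.out ω hω _ c.zA))).resolve_left
      fun e => ?_
    have a : x ^ 1 • ω = ω := pow_smul_eq_iff_period_dvd.2 (e ▸ dvd_rfl)
    have b := c.sm ω hω
    rw [inf_eq_left.2 ((Peq h c cy).le.trans (zpowers_le.2 (by simpa using a)))] at b
    have := h.hp.two_le
    have : 0 < Nat.card P := Nat.card_pos
    nlinarith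
  have k : ∀ i j : ℕ, i ≤ j → (x ^ i • ω = x ^ j • ω ↔ i ≡ j [MOD p]) := fun i j l => by
    obtain ⟨d, rfl⟩ := Nat.exists_eq_add_of_le l
    rw [pow_add, mul_smul, smul_left_cancel_iff, eq_comm, pow_smul_eq_iff_period_dvd, pe,
      Nat.modEq_iff_dvd' l, Nat.add_sub_cancel_left]
  have k' : ∀ i j : ℕ, x ^ i • ω = x ^ j • ω ↔ i ≡ j [MOD p] := fun i j =>
    (le_total i j).elim (k i j) fun l => by rw [eq_comm, k j i l, Nat.ModEq.comm]
  refine ⟨k', fun ω' h' => ?_⟩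
  have s : Dl x ω ⊆ (Dl x δ)ᶜ := by
    rintro _ ⟨i, rfl⟩ m
    exact hω (((c.toPc.dl h.hp).1 _ (pow_mem c.xP i) ω).1 m)
  exact (Set.eq_of_subset_of_ncard_le s (by
    rw [c.toPc.cardF h, cardDl h.hp.pos k', ← e, Nat.add_sub_cancel_left, one_mul])).ge h'

theorem same (h : St G Ω p q) (c : Bc p P A x δ) (e : p + 1 = 2 * q) (cy : A = zpowers (x ^ p))
    {a b : Ω} (hab : b ∈ Dl x δ ↔ a ∈ Dl x δ) : ∃ i : ℕ, x ^ i • a = b := by
  by_cases ha : a ∈ Dl x δ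
  · obtain ⟨j, rfl⟩ := hab.2 ha
    obtain ⟨i, rfl⟩ := ha
    obtain ⟨k, hk⟩ := (mem_powers_iff_mem_zpowers.2 (mul_mem (npow_mem_zpowers x j)
      (inv_mem (npow_mem_zpowers x i))))
    exact ⟨k, by rw [show x ^ k = _ from hk, smul_smul, inv_mul_cancel_right]⟩
  · exact (two h c e cy a ha).2 b (mt hab.1 ha)

omit [Finite G] [FaithfulSMul G Ω] [Finite Ω] in
/-- `t x t⁻¹ = x ^ m`, `m ≢ 1`: `t` fixes at most one point of a cycle of `x` -/
theorem fix1 (hp : p.Prime) {t : G} {m k i : ℕ} (ht : t * x * t⁻¹ = x ^ m) (hm : ¬ m ≡ 1 [MOD p]) {a : Ω}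
    (ha : ∀ i j : ℕ, x ^ i • a = x ^ j • a ↔ i ≡ j [MOD p ^ k]) (h1 : t • a = a)
    (h2 : t • x ^ i • a = x ^ i • a) : x ^ i • a = a := by
  have e : x ^ (m * i) • a = x ^ i • a := by
    rw [pow_mul, ← ht, conj_pow, mul_smul, mul_smul, inv_smul_eq_iff.2 h1.symm, h2]
  have d := (Nat.modEq_iff_dvd.1 ((ha _ _).1 e))
  have c : IsCoprime ((p : ℤ) ^ k) (1 - m) := IsCoprime.pow_left
    (((Nat.prime_iff_prime_int.1 hp).irreducible.coprime_iff_not_dvd).2 fun e =>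
      hm (Nat.modEq_iff_dvd.2 (by simpa using e)))
  have d' : ((p : ℤ) ^ k) ∣ i := c.dvd_of_dvd_mul_right (by
    have : (i : ℤ) * (1 - m) = i - ((m * i : ℕ) : ℤ) := by push_cast; ring
    rw [this]; simpa using d)
  simpa using (ha i 0).2 ((Nat.modEq_zero_iff_dvd).2 (by exact_mod_cast d'))

end SmA

/-- `C(z) = P = ⟨x⟩`. PROOF. `|P| = p²`, `P = ⟨x⟩` (`Pc.cen`). In `C = C_G(z) ≥ P`: `g ∈ N_C(P)` has `g x g⁻¹ = x ^ m`, `m ≡ 1 [MOD p]`, and `g ^ e`
centralises `P` for `e = [N_C(P) : C_C(P)]` prime to `p`, so `m ≡ 1 [MOD p²]`. Burnside (`MonoidHom.ker_transferSylow_isComplement'`):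
`C = K ⋊ P`, `p ∤ |K|`. `K` is normalised by `x`; `C` preserves `Δ` and `F` (`Bc.fix`), on each of which `⟨x⟩` is transitive (`|F| = p`, `x` fixes no
point of `F` by `St.syl`, `x ^ p` fixes `F`), so the `K`-orbits there have a common size dividing `p²` and `|K|`: `K = 1`. -/
theorem cenz (h : St G Ω p q) (c : Bc p P A x δ) (e : p + 1 = 2 * q) (cy : A = Subgroup.zpowers (x ^ p)) :
    (∀ g : G, g * x ^ p = x ^ p * g → g ∈ Subgroup.zpowers x) ∧
      ∀ ω : Ω, ω ∉ Dl x δ → (∀ i j : ℕ, x ^ i • ω = x ^ j • ω ↔ i ≡ j [MOD p]) ∧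
        ∀ ω' : Ω, ω' ∉ Dl x δ → ω' ∈ Dl x ω := by
  have := Fact.mk h.hp
  refine ⟨fun g hg => ?_, SmA.two h c e cy⟩
  set C := Subgroup.centralizer ({x ^ p} : Set G)
  have mC : ∀ g, g ∈ C ↔ g * x ^ p = x ^ p * g := fun g => Subgroup.mem_centralizer_singleton_iff
  have xC : x ∈ C := (mC x).2 (Commute.self_pow x p)
  have k := SmA.abs (Ω := Ω) h.hp (x := (⟨x, xC⟩ : C)) (by
    rw [← Subgroup.orderOf_coe]; exact (c.toPc.cen h.hp).1) (fun d => by
      obtain ⟨S, hS⟩ := c.syl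
      apply S.not_dvd_index
      rw [hS, SmA.Peq h c cy, ← show _ = Subgroup.zpowers x from C.subtype.map_zpowers ⟨x, xC⟩,
        Subgroup.index_map_subtype]
      exact d.mul_right _) (fun g => Subtype.ext ((mC _).1 g.2)) fun g ω => by
    obtain ⟨i, hi⟩ := SmA.same h c e cy ((c.fix h.hp).2 g.1 (by
      rw [cy]
      refine Subgroup.centralizer_le_normalizer _ ?_
      rintro _ ⟨j, rfl⟩
      exact (Commute.zpow_right ((mC _).1 g.2) j).eq.symm) ω)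
    exact ⟨_, Subgroup.npow_mem_zpowers _ i, hi.symm⟩
  have := Subgroup.mem_map_of_mem C.subtype (k.ge (Subgroup.mem_top ⟨g, (mC g).2 hg⟩))
  rwa [MonoidHom.map_zpowers] at this

/-- two-point stabilizers in `N(A)`, and an involution with few fixed points. PROOF. `n ∈ N(A)` normalises `C(z) = ⟨x⟩` (`cenz`):
`n x n⁻¹ = x ^ m`. If `n` fixes `ω` and `ω' = x ^ i • ω` (`p ∤ i`) then `m i ≡ i [MOD p]`, `n` centralises `z`, `n = x ^ k` fixes `ω`, `p ∣ k`.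
By `tw` and `Bc.wit` some `n ∈ N(A)` fixes `ω` and maps `x • ω` to `x ^ (p - 1) • ω`: `m ≡ -1 [MOD p]`, `n ^ 2 ∈ A` (it fixes `ω`, `x • ω`),
`t = n ^ p` has `t ^ 2 = 1`, `t x t⁻¹ = x ^ (m ^ p) = x⁻¹`. If `t` fixes `a` and `x ^ i • a` then `x ^ (2 i) • a = a`, so `x ^ i • a = a`
(`p` odd): at most one fixed point in `Δ` and one in `F`. `t ≠ 1` as `x ≠ x⁻¹`. -/
theorem smA (h : St G Ω p q) (c : Bc p P A x δ) (tw : CL.T2.Tw G Ω) (e : p + 1 = 2 * q)
    (cy : A = Subgroup.zpowers (x ^ p)) {ω : Ω} (hω : ω ∉ Dl x δ) :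
    (∀ n ∈ Subgroup.normalizer (A : Set G), ∀ ω' : Ω, ω' ∉ Dl x δ → ω' ≠ ω → n • ω = ω → n • ω' = ω' →
      n ∈ A) ∧ ∃ t : G, orderOf t = 2 ∧ t • ω = ω ∧ {a : Ω | t • a = a}.ncard ≤ 2 := by
  obtain ⟨cz, cF⟩ := cenz h c e cy
  obtain ⟨-, p5, op, -⟩ := h.num
  have ho := (c.toPc.cen h.hp).1
  have per := (cF ω hω).1
  have nx : ∀ n ∈ Subgroup.normalizer (A : Set G), ∃ m : ℕ, n * x * n⁻¹ = x ^ m := fun n hn => by
    obtain ⟨j, hj⟩ := cy.le ((Subgroup.mem_normalizer_iff''.1 hn _).1 c.zA)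
    obtain ⟨m, hm⟩ := mem_powers_iff_mem_zpowers.2 (cz (n * x * n⁻¹) (by
      have := (Commute.zpow_right (Commute.self_pow x p) j).eq
      rw [show (x ^ p) ^ j = _ from hj] at this
      calc _ = n * (x * (n⁻¹ * x ^ p * n)) * n⁻¹ := by group
        _ = _ := by rw [this]; group))
    exact ⟨m, hm.symm⟩
  have one : ∀ n ∈ Subgroup.normalizer (A : Set G), ∀ ω' : Ω, ω' ∉ Dl x δ → ω' ≠ ω → n • ω = ω →
      n • ω' = ω' → n ∈ A := fun n hn ω' h1 h2 h3 h4 => by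
    obtain ⟨m, hm⟩ := nx n hn
    obtain ⟨i, rfl⟩ := (cF ω hω).2 ω' h1
    have m1 : m ≡ 1 [MOD p] := by
      by_contra d
      exact h2 (SmA.fix1 (k := 1) h.hp hm d (by simpa only [pow_one] using per) h3 h4)
    obtain ⟨k, rfl⟩ := mem_powers_iff_mem_zpowers.2 (cz n (by
      rw [← mul_inv_eq_iff_eq_mul, ← conj_pow, hm, ← pow_mul, pow_eq_pow_iff_modEq, ho, sq]
      simpa only [one_mul] using m1.mul_right' p))
    exact ((c.toPc.gen h.hp).2.2 k).2 (Nat.modEq_zero_iff_dvd.1 ((per k 0).1 (by simpa using h3)))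
  refine ⟨one, ?_⟩
  have F : ∀ i : ℕ, x ^ i • ω ∉ Dl x δ := fun i m =>
    hω (((c.toPc.dl h.hp).1 _ (pow_mem c.xP i) ω).1 m)
  have ne : ∀ i : ℕ, 0 < i → i < p → ω ≠ x ^ i • ω := fun i a b d =>
    Nat.not_dvd_of_pos_of_lt a b (Nat.modEq_zero_iff_dvd.1 ((per i 0).1 (by simpa using d.symm)))
  obtain ⟨g, g1, g2⟩ := tw.two ω (x ^ 1 • ω) ω (x ^ (p - 1) • ω) (ne 1 one_pos (by omega))
    (ne _ (by omega) (by omega))
  obtain ⟨n, hn, n1, n2⟩ := c.wit h g hω (F 1) (g1.symm ▸ hω) (g2.symm ▸ F _)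
  rw [g1] at n1
  rw [g2] at n2
  obtain ⟨m, hm⟩ := nx n hn
  have act : ∀ i : ℕ, n • x ^ i • ω = x ^ (m * i) • ω := fun i => by
    rw [pow_mul, ← hm, conj_pow, mul_smul, mul_smul, inv_smul_eq_iff.2 n1.symm]
  have m1 : (m : ℤ) ≡ -1 [ZMOD p] := by
    have := (per _ _).1 ((act 1).symm.trans n2)
    rw [mul_one, ← Int.natCast_modEq_iff, Nat.cast_sub h.hp.one_le] at this
    exact this.trans (Int.modEq_iff_dvd.2 ⟨-1, by push_cast; ring⟩)
  have n2A : n * n ∈ A := one _ (mul_mem hn hn) _ (F 1) (ne 1 one_pos (by omega)).symm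
    (by rw [mul_smul, n1, n1]) (by
      rw [mul_smul, act, act, per, ← Int.natCast_modEq_iff]
      simpa using m1.mul m1)
  have ht : ∀ k : ℕ, n ^ k * x * (n ^ k)⁻¹ = x ^ m ^ k := fun k => by
    induction k with
    | zero => simp
    | succ k ih =>
      calc _ = n * (n ^ k * x * (n ^ k)⁻¹) * n⁻¹ := by rw [pow_succ']; group
        _ = _ := by rw [ih, ← conj_pow, hm, ← pow_mul, pow_succ']
  have mp : ¬ m ^ p ≡ 1 [MOD p] := fun d => by
    have a := m1.pow p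
    rw [op.neg_one_pow] at a
    have b : ((m : ℤ) ^ p) ≡ 1 [ZMOD p] := by exact_mod_cast Int.natCast_modEq_iff.2 d
    have := Int.le_of_dvd (by norm_num) (a.symm.trans b).dvd
    omega
  have := Fact.mk Nat.prime_two
  refine ⟨n ^ p, orderOf_eq_prime (by rw [← pow_mul, mul_comm, pow_mul, sq, c.ex _ n2A]) fun d => mp ?_,
    (stabilizer G ω).pow_mem n1 p, ?_⟩
  · have a := ht p
    rw [d, one_mul, inv_one, mul_one, eq_comm, ← pow_one x, ← pow_mul, one_mul, pow_eq_pow_iff_modEq,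
      ho] at a
    exact a.of_dvd (dvd_pow_self p two_ne_zero)
  · rw [← Set.ncard_inter_add_ncard_sdiff_eq_ncard _ (Dl x δ)]
    refine add_le_add (b := 1) (d := 1) ((Set.ncard_le_one).2 fun a ha b hb => ?_)
      ((Set.ncard_le_one).2 fun a ha b hb => ?_)
    · obtain ⟨i, rfl⟩ := SmA.same h c e cy (iff_of_true hb.2 ha.2)
      obtain ⟨a1, s, rfl⟩ := ha
      refine (SmA.fix1 (k := 2) h.hp (ht p) mp (fun i j => ?_) a1 hb.1).symm
      rw [smul_smul, smul_smul, ← pow_add, ← pow_add, c.inj]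
      exact ⟨fun d => d.add_right_cancel' s, fun d => d.add_right s⟩
    · obtain ⟨i, rfl⟩ := SmA.same h c e cy (iff_of_false hb.2 ha.2)
      exact (SmA.fix1 (k := 1) h.hp (ht p) mp (by simpa only [pow_one] using (cF a ha.2).1) ha.1
        hb.1).symm

end CL.Pq
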