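/-
PERM/Pq (S3579): the end of the cyclic case
-/
import Cfsg.Agent.PERM.Pq.SmA
import Cfsg.Agent.SOLV.CoprimeSylow

set_option autoImplicit false

namespace CL.Pq

open MulAction Pointwise

variable {G Ω : Type*} [Group G] [Finite G] [MulAction G Ω] [Finite Ω] [FaithfulSMul G Ω] {p q : ℕ}
  {P A : Subgroup G} {x : G} {δ : Ω}

namespace SmB

omit [Finite Ω] [FaithfulSMul G Ω] [MulAction G Ω] in
/-- a self-normalising commutative Sylow subgroup normalises a Sylow `2`-subgroup -/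
theorem exS (hp : p.Prime) (o : Odd p) {L : Subgroup G} (le : A ≤ L) (hA : IsPGroup p A)
    (cm : ∀ a ∈ A, ∀ b ∈ A, a * b = b * a) (hi : ¬ p ∣ A.relIndex L)
    (sn : ∀ n ∈ L, n ∈ Subgroup.normalizer (A : Set G) → n ∈ A) :
    ∃ S ≤ L, IsPGroup 2 S ∧ ¬ 2 ∣ S.relIndex L ∧ ∀ a ∈ A, ∀ s ∈ S, a * s * a⁻¹ ∈ S := by
  have := Fact.mk hp
  have hA' : IsPGroup p (A.subgroupOf L) := hA.of_equiv (Subgroup.subgroupOfEquivOfLe le).symm
  let Q : Sylow p L := hA'.toSylow hi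
  have hQ : (Q : Subgroup L) = A.subgroupOf L := rfl
  have hN : Subgroup.normalizer ((Q : Subgroup L) : Set L) ≤ Subgroup.centralizer ((Q : Subgroup L) : Set L) := by
    intro n hn b hb
    have : (n : G) ∈ A := sn n n.2 (Subgroup.mem_normalizer_fintype fun a ha =>
      (Subgroup.mem_normalizer_iff.1 hn ⟨a, le ha⟩).1 ha)
    exact Subtype.ext (cm _ hb _ this)
  have cp := MonoidHom.ker_transferSylow_isComplement' Q hN
  set U := (MonoidHom.transferSylow Q hN).ker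
  obtain ⟨k, hk⟩ := hA'.exists_card_eq
  have e1 : U.index = p ^ k := cp.symm.index_eq_card.trans hk
  have e2 : Nat.card U = A.relIndex L := cp.index_eq_card.symm
  have : IsMulCommutative (A.subgroupOf L) := ⟨⟨fun a b => Subtype.ext (Subtype.ext (cm _ a.2 _ b.2))⟩⟩
  obtain ⟨R, hR⟩ := CL.coprime_exists_invariant_sylow (A.subgroupOf L) U
    (by rw [Subgroup.normalizer_eq_top]; exact le_top)
    (by rw [hk, e2]; exact Nat.Coprime.pow_left _ ((Nat.Prime.coprime_iff_not_dvd hp).2 hi))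
    (Or.inl (have := hA'.isNilpotent; inferInstance)) 2
  refine ⟨((R : Subgroup U).map U.subtype).map L.subtype, Subgroup.map_subtype_le _, (R.2.map _).map _, ?_, ?_⟩
  · rw [Subgroup.relIndex, ← Subgroup.comap_subtype, Subgroup.comap_map_eq_self_of_injective L.subtype_injective,
      Subgroup.index_map_of_injective _ U.subtype_injective, Subgroup.range_subtype, e1, Nat.prime_two.dvd_mul]
    rintro (e | e)
    · exact R.not_dvd_index e
    · exact (Nat.not_even_iff_odd.2 o.pow) (even_iff_two_dvd.2 e)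
  · rintro a ha _ ⟨s, hs, rfl⟩
    exact ⟨_, (Subgroup.mem_normalizer_iff.1 (hR (show (⟨a, le ha⟩ : L) ∈ A.subgroupOf L from ha)) s).1 hs, rfl⟩

omit [Finite Ω] [FaithfulSMul G Ω] [MulAction G Ω] in
theorem conj_in {H S : Subgroup G} (hS : IsPGroup 2 S) (le : S ≤ H) (hi : ¬ 2 ∣ S.relIndex H) {t : G}
    (ht : orderOf t = 2) (tH : t ∈ H) : ∃ g ∈ H, g * t * g⁻¹ ∈ S := by
  have hS' : IsPGroup 2 (S.subgroupOf H) := hS.of_equiv (Subgroup.subgroupOfEquivOfLe le).symm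
  have hT : IsPGroup 2 (Subgroup.zpowers (⟨t, tH⟩ : H)) := IsPGroup.of_card (n := 1) (by
    rw [Nat.card_zpowers, ← Subgroup.orderOf_coe, pow_one]; exact ht)
  obtain ⟨R, hR⟩ := hT.exists_le_sylow
  obtain ⟨g, hg⟩ := exists_smul_eq H R (hS'.toSylow hi)
  refine ⟨g, g.2, ?_⟩
  have : g * ⟨t, tH⟩ * g⁻¹ ∈ ((g • R : Sylow 2 H) : Subgroup H) :=
    Subgroup.smul_mem_pointwise_smul _ (MulAut.conj g) _ (hR (Subgroup.mem_zpowers _))
  rw [hg] at this
  exact this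

omit [Finite G] [FaithfulSMul G Ω] in
theorem modp (hp : p.Prime) {z : G} (hz : z ^ p = 1) {O : Set Ω} (inv : ∀ a ∈ O, z • a ∈ O) {θ : Ω}
    (hθ : θ ∈ O) (fx : ∀ a ∈ O, z • a = a ↔ a = θ) : O.ncard ≡ 1 [MOD p] := by
  classical
  have := Fact.mk hp
  have := Fintype.ofFinite O
  let f : Function.End O := fun a => ⟨z • a.1, inv _ a.2⟩
  have hf : ∀ (k : ℕ) (a : O), ((f ^ k) a).1 = z ^ k • a.1 := fun k => by
    induction k with
    | zero => intro a; rw [pow_zero, pow_zero, one_smul]; rfl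
    | succ k ih => intro a; rw [pow_succ, pow_succ, mul_smul]; exact ih (f a)
  have e := Equiv.Perm.card_fixedPoints_modEq (f := f) (p := p) (n := 1)
    (funext fun a => Subtype.ext (by rw [hf, pow_one, hz, one_smul]; rfl))
  have e1 : Fintype.card f.fixedPoints = 1 := Fintype.card_eq_one_iff.2
    ⟨⟨⟨θ, hθ⟩, Subtype.ext ((fx θ hθ).2 rfl)⟩, fun a =>
      Subtype.ext (Subtype.ext ((fx _ a.1.2).1 (congrArg Subtype.val a.2)))⟩
  rwa [e1, ← Nat.card_eq_fintype_card, Nat.card_coe_set_eq] at e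

theorem arith {p q a : ℕ} (hq : q.Prime) (q3 : 3 ≤ q) (e : p + 1 = 2 * q) (a0 : 2 ^ a ≠ 1)
    (h : 2 ^ a ≡ 1 [MOD p]) : 3 * p + 1 ≤ 2 ^ a := by
  obtain ⟨j, hj⟩ := (Nat.modEq_iff_dvd' Nat.one_le_two_pow).1 h.symm
  have h1 : 1 ≤ 2 ^ a := Nat.one_le_two_pow
  obtain ⟨b, rfl⟩ : ∃ b, a = b + 1 := Nat.exists_eq_succ_of_ne_zero fun e => a0 (by rw [e]; rfl)
  obtain rfl | rfl | rfl | hj3 : j = 0 ∨ j = 1 ∨ j = 2 ∨ 3 ≤ j := by omega
  · omega
  · have : q ∣ 2 ^ (b + 1) := ⟨2, by omega⟩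
    have := Nat.le_of_dvd two_pos (hq.dvd_of_dvd_pow this)
    omega
  · rw [pow_succ] at hj h1; omega
  · have := Nat.mul_le_mul_left p hj3
    omega

end SmB

/-- PROOF. `ω ≠ ω'` in `F` (`|F| = p`), `L = G_ω ⊓ G_ω'`, `A = ⟨z⟩` is Sylow in `L` (`St.syl`), `N_L(A) = A` (`smA`); Burnside: `L = U ⋊ A`,
`p ∤ |U|`. `A` normalises a Sylow `2`-subgroup `S` of `U` (it acts on `Sylow 2 U`, of size prime to `p`); `[L : S]` is odd and
`[G_ω : L] = n - 1` is odd (`tw`), so `S` is Sylow in `G_ω` and contains a `G_ω`-conjugate `t'` of `t` (`smA`); `t'` fixes only `ω, ω'`.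
For `θ ∈ F ∖ {ω, ω'}` let `O_θ` be its `S`-orbit: `|O_θ| = 2 ^ a`, `a ≥ 1`, `z • O_θ = O_θ`. `O_θ ∩ F = {θ}`: if `s • θ ∈ F` then `A` and
`conj s⁻¹ • A` are Sylow in `L_θ`, `witt` gives `l ∈ L_θ` with `s l⁻¹ ∈ N_L(A) = A`, so `s • θ = θ`. `z` has no fixed point on `O_θ ∖ {θ} ⊆ Δ`,
so `2 ^ a = 1 + j p`, `j` odd, `j ≠ 1` (`2 q` is not a power of `2`), `|O_θ ∖ {θ}| ≥ 3 p`. These `p - 2` sets are disjoint subsets of
`Δ`: `3 p (p - 2) ≤ p²`, false for `p ≥ 5`. -/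
theorem smB (h : St G Ω p q) (c : Bc p P A x δ) (tw : CL.T2.Tw G Ω) (e : p + 1 = 2 * q)
    (cy : A = Subgroup.zpowers (x ^ p)) : False := by
  classical
  have hp := h.hp
  have := Fact.mk hp
  obtain ⟨-, p5, op, -⟩ := h.num
  have cF : (Dl x δ)ᶜ.ncard = p := by rw [c.toPc.cardF h, ← e, Nat.add_sub_cancel_left, one_mul]
  obtain ⟨ω, hω, ω', hω', ne⟩ := (Set.one_lt_ncard (Set.toFinite _)).1 (show 1 < (Dl x δ)ᶜ.ncard by omega)
  obtain ⟨sn, t, t2, tω, tf⟩ := smA h c tw e cy hω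
  have hA : IsPGroup p A := fun a => ⟨1, Subtype.ext (by rw [pow_one]; exact c.ex _ a.2)⟩
  have AF : ∀ θ ∉ Dl x δ, A ≤ stabilizer G θ := fun θ hθ a ha => c.out θ hθ a ha
  have i0 := (h.syl c.syl hA (AF ω hω)).2 c.card
  have idx : ∀ H, A ≤ H → H ≤ stabilizer G ω → ¬ p ∣ A.relIndex H := fun H h1 h2 d =>
    i0 (by rw [← Subgroup.relIndex_mul_relIndex A H _ h1 h2]; exact d.mul_right _)
  set L := stabilizer G ω ⊓ stabilizer G ω' with hL
  have AL : A ≤ L := le_inf (AF ω hω) (AF ω' hω')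
  obtain ⟨S, SL, S2, Si, Sn⟩ := SmB.exS hp op AL hA c.cm (idx L AL inf_le_left)
    fun n hn hn' => sn n hn' ω' hω' ne.symm hn.1 hn.2
  have iL : L.relIndex (stabilizer G ω) + 1 = 2 * p * q := by
    have e1 : L.subgroupOf (stabilizer G ω) = stabilizer (stabilizer G ω) ω' :=
      Subgroup.ext fun g => ⟨fun a => a.2, fun a => ⟨g.2, a⟩⟩
    have e2 : orbit (stabilizer G ω) ω' = {ω}ᶜ := by
      ext b
      constructor
      · rintro ⟨g, rfl⟩ (e' : g.1 • ω' = ω)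
        exact ne (smul_left_cancel g.1 ((show g.1 • ω = ω from g.2).trans e'.symm))
      · intro hb
        obtain ⟨g, g1, g2⟩ := tw.two ω ω' ω b ne (Ne.symm hb)
        exact ⟨⟨g, g1⟩, g2⟩
    rw [Subgroup.relIndex, e1, index_stabilizer, e2, ← h.card, ← Set.ncard_add_ncard_compl {ω}, Set.ncard_singleton,
      add_comm]
  obtain ⟨g, hg, tS⟩ := SmB.conj_in S2 (SL.trans inf_le_left) (by
    rw [← Subgroup.relIndex_mul_relIndex S L _ SL inf_le_left, Nat.prime_two.dvd_mul]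
    rintro (d | d)
    · exact Si d
    · rw [mul_assoc] at iL; omega) t2 tω
  have tm : ∀ θ, θ ≠ ω → θ ≠ ω' → (g * t * g⁻¹) • θ ≠ θ := fun θ n1 n2 f => by
    have k : ∀ a : Ω, (g * t * g⁻¹) • a = a → t • g⁻¹ • a = g⁻¹ • a := fun a ha => by
      rw [eq_inv_smul_iff, ← mul_smul, ← mul_smul]; exact ha
    have : 2 < {a : Ω | t • a = a}.ncard := (Set.two_lt_ncard (Set.toFinite _)).2
      ⟨_, k _ (SL tS).1, _, k _ (SL tS).2, _, k _ f, fun e => ne (smul_left_cancel _ e),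
        fun e => n1 (smul_left_cancel _ e).symm, fun e => n2 (smul_left_cancel _ e).symm⟩
    omega
  have uq : ∀ θ ∉ Dl x δ, ∀ a ∈ orbit S θ, a ∉ Dl x δ → a = θ := by
    rintro θ hθ _ ⟨s, rfl⟩ (ha : s.1 • θ ∉ Dl x δ)
    have l1 : A ≤ L ⊓ stabilizer G θ := le_inf AL (AF θ hθ)
    obtain ⟨l, hl, el⟩ := witt (H := L ⊓ stabilizer G θ) (T := MulAut.conj s.1⁻¹ • A) hA (hA.map _) l1 (by
      rintro _ ⟨a, ha', rfl⟩
      refine ⟨L.mul_mem (L.mul_mem (L.inv_mem (SL s.2)) (AL ha')) (L.inv_mem (L.inv_mem (SL s.2))), ?_⟩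
      show (s.1⁻¹ * a * s.1⁻¹⁻¹) • θ = θ
      rw [inv_inv, mul_smul, mul_smul, c.out _ ha a ha', inv_smul_smul])
      (idx _ l1 (inf_le_left.trans inf_le_left)) (Subgroup.card_map_of_injective (MulAut.conj s.1⁻¹).injective)
    rw [← mul_smul, ← map_mul] at el
    have m : l * s.1⁻¹ ∈ L := L.mul_mem hl.1 (L.inv_mem (SL s.2))
    have := sn _ (Subgroup.mem_normalizer_fintype fun a ha => by
      rw [← el]; exact ⟨a, ha, rfl⟩) ω' hω' ne.symm m.1 m.2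
    have e2 := c.out _ ha _ this
    rw [mul_smul, inv_smul_smul, show l • θ = θ from hl.2] at e2
    exact e2.symm
  have big : ∀ θ ∉ Dl x δ, θ ≠ ω → θ ≠ ω' → 3 * p + 1 ≤ (orbit S θ).ncard := fun θ hθ n1 n2 => by
    obtain ⟨a, ha⟩ := S2.index (stabilizer S θ)
    have e1 := SmB.modp hp (c.ex _ c.zA) (O := orbit S θ) (by
      rintro _ ⟨s, rfl⟩
      refine ⟨⟨_, Sn _ c.zA s s.2⟩, ?_⟩
      show (x ^ p * s.1 * (x ^ p)⁻¹) • θ = x ^ p • s.1 • θ
      rw [mul_smul, mul_smul, c.out θ hθ _ (A.inv_mem c.zA)]) (mem_orbit_self θ) fun a ha =>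
        ⟨fun f => uq θ hθ a ha (((c.fix hp).1 a).2 f), fun f => f ▸ c.out θ hθ _ c.zA⟩
    rw [← index_stabilizer, ha] at e1 ⊢
    refine SmB.arith h.hq h.q3 e (fun e2 => tm θ n1 n2 ?_) e1
    have : stabilizer S θ = ⊤ := Subgroup.index_eq_one.1 (ha.trans e2)
    exact (show (⟨_, tS⟩ : S) ∈ stabilizer S θ from this ▸ Subgroup.mem_top _)
  have := Fintype.ofFinite Ω
  let Fs : Finset Ω := (((Dl x δ)ᶜ.toFinset).erase ω).erase ω'
  have mF : ∀ θ ∈ Fs, θ ∉ Dl x δ ∧ θ ≠ ω ∧ θ ≠ ω' := fun θ hθ => by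
    simp only [Fs, Finset.mem_erase, Set.mem_toFinset] at hθ
    exact ⟨hθ.2.2, hθ.2.1, hθ.1⟩
  have cFs : Fs.card + 2 = p := by
    rw [Finset.card_erase_of_mem (Finset.mem_erase.2 ⟨ne.symm, Set.mem_toFinset.2 hω'⟩),
      Finset.card_erase_of_mem (Set.mem_toFinset.2 hω), ← Set.ncard_eq_toFinset_card', cF]
    omega
  have c1 : (Fs.biUnion fun θ => (orbit S θ).toFinset).card ≤ 2 * p * q := by
    rw [← h.card, Nat.card_eq_fintype_card]; exact Finset.card_le_univ _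
  rw [Finset.card_biUnion fun θ hθ θ' hθ' n => Finset.disjoint_left.2 fun a h1 h2 => n
    (uq θ' (mF _ hθ').1 θ (by
      rw [← orbit_eq_iff.2 (Set.mem_toFinset.1 h2), orbit_eq_iff.2 (Set.mem_toFinset.1 h1)]
      exact mem_orbit_self θ) (mF _ hθ).1)] at c1
  have c2 := Finset.card_nsmul_le_sum Fs (fun θ => (orbit S θ).toFinset.card) (3 * p + 1) fun θ hθ => by
    rw [← Set.ncard_eq_toFinset_card']; exact big θ (mF θ hθ).1 (mF θ hθ).2.1 (mF θ hθ).2.2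
  have c3 := c2.trans c1
  rw [smul_eq_mul, mul_comm 2 p, mul_assoc, ← e, ← cFs] at c3
  have : 3 ≤ Fs.card := by omega
  nlinarith

end CL.Pq
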