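/-
PERM/Pq (S3579): double transitivity
-/
import Cfsg.Agent.PERM.Pq.Alg
import Cfsg.Agent.PERM.Pq.Hom

set_option autoImplicit false

namespace CL.Pq

open MulAction Pointwise

variable {G Ω : Type*} [Group G] [Finite G] [MulAction G Ω] [Finite Ω] [FaithfulSMul G Ω] {p q : ℕ}
  {P A : Subgroup G} {x : G} {δ : Ω}

namespace Tw2

open Finset

omit [Finite G] [Finite Ω] [FaithfulSMul G Ω]

theorem row [Fintype Ω] (tr : IsPretransitive G Ω) {X : Matrix Ω Ω ℚ} (hX : Inv G X) (δ a : Ω) :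
    ∑ b, X a b = ∑ b, X δ b := by
  obtain ⟨g, rfl⟩ := exists_smul_eq G δ a
  rw [← Equiv.sum_comp (MulAction.toPerm g)]
  exact sum_congr rfl fun b _ => hX g δ b

theorem col [Fintype Ω] (tr : IsPretransitive G Ω) {X : Matrix Ω Ω ℚ} (hX : Inv G X) (δ b : Ω) :
    ∑ a, X a b = ∑ b, X δ b := by
  have hT : Inv G X.transpose := fun g a b => hX g b a
  have h1 : ∑ a, ∑ b, X a b = Fintype.card Ω * ∑ b, X δ b := by
    rw [sum_congr rfl fun a _ => row tr hX δ a, sum_const, card_univ, nsmul_eq_mul]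
  have h2 : ∑ c, ∑ a, X a c = Fintype.card Ω * ∑ a, X a b := by
    rw [sum_congr rfl fun c _ => show ∑ a, X a c = ∑ a, X a b from row tr hT b c, sum_const, card_univ,
      nsmul_eq_mul]
  have : Nonempty Ω := ⟨δ⟩
  rw [sum_comm, h1] at h2
  exact (mul_left_cancel₀ (Nat.cast_ne_zero.2 Fintype.card_ne_zero) h2).symm

theorem shift {f : ℕ → ℚ} {p : ℕ} (h : ∀ k, f (k + p) = f k) (j : ℕ) :
    ∑ s ∈ range p, f (s + j) = ∑ s ∈ range p, f s := by
  induction j with
  | zero => rfl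
  | succ j ih =>
    have e1 := sum_range_succ (fun s => f (s + j)) p
    have e2 := sum_range_succ' (fun s => f (s + j)) p
    have e3 := h j
    rw [add_comm] at e3
    simp only [zero_add] at e2
    rw [← ih, sum_congr rfl fun s _ => show f (s + (j + 1)) = f (s + 1 + j) by congr 1; ring]
    linarith

theorem zpow (l : Lc p x δ) (ω : Ω) : x ^ (p * p) • ω = ω := by
  by_cases h : ω ∈ Dl x δ
  · obtain ⟨i, rfl⟩ := h
    rw [← mul_smul, ← pow_add, l.inj, pow_two]
    exact Nat.add_modEq_left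
  · have : x ^ p ∈ stabilizer G ω := l.out ω h
    rw [pow_mul]
    exact Subgroup.pow_mem _ this p

end Tw2

omit [Finite G] [Finite Ω] [FaithfulSMul G Ω] in
/-- the trace identity and the coset property. PROOF. `K = CyclotomicField (p ^ 2) ℚ`, `ζ = IsCyclotomicExtension.zeta ..`,
`θ = th X`, `μ = minpoly ℚ θ`. `th (μ(X)) = μ(θ) = 0` (`th_aeval`), so `μ(X)` has constant rows (`th_ker`). Row sums are all `d`
(invariance + transitivity), column sums are constant too, hence `d`. `algM`: `n - 1 = k deg μ`, `trace X - d = - k c`, and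
`trace X = n * X δ δ`. `cyc1`: `e deg μ = p (p - 1)`, `- e c = T`. So `p (p-1) (trace X - d) = - e k c deg μ = (n - 1) T`.
`p ∤ n - 1` gives `p ∤ deg μ`; `cyc2`, extended to all `i` by the period `p²`. -/
theorem key [Fintype Ω] (hp : p.Prime) (pr : IsPreprimitive G Ω) (l : Lc p x δ)
    (dv : p ∣ Fintype.card Ω) {X : Matrix Ω Ω ℚ} (hX : Inv G X) :
    (p * (p - 1) * (Fintype.card Ω * X δ δ - ∑ b, X δ b) = (Fintype.card Ω - 1) *
      (p * (p - 1) * X δ δ - p * ∑ s ∈ Finset.Ico 1 p, X δ (x ^ (p * s) • δ)) : Prop) ∧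
    ∀ i : ℕ, ¬ p ∣ i → X δ (x ^ (i + p) • δ) = X δ (x ^ i • δ) := by
  classical
  have := Fact.mk hp
  have : NeZero (p ^ 2) := ⟨pow_ne_zero 2 hp.ne_zero⟩
  have : Nonempty Ω := ⟨δ⟩
  have tr := pr.toIsPretransitive
  let K := CyclotomicField (p ^ 2) ℚ
  have : NeZero ((p ^ 2 : ℕ) : ℚ) := ⟨Nat.cast_ne_zero.2 (pow_ne_zero 2 hp.ne_zero)⟩
  have : IsCyclotomicExtension {p ^ 2} ℚ K := CyclotomicField.isCyclotomicExtension (p ^ 2) ℚ
  have hζ := IsCyclotomicExtension.zeta_spec (p ^ 2) ℚ K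
  set ζ := IsCyclotomicExtension.zeta (p ^ 2) ℚ K
  have hi : IsIntegral ℚ (th p x δ ζ X) := (IsCyclotomicExtension.integral {p ^ 2} ℚ K).isIntegral _
  obtain ⟨i1, i2⟩ := th_aeval l hζ hX (minpoly ℚ (th p x δ ζ X))
  rw [minpoly.aeval] at i2
  obtain ⟨k, k1, k2⟩ := algM X _ (Tw2.row tr hX δ) (Tw2.col tr hX δ) _ (minpoly.monic hi)
    (minpoly.irreducible hi) (th_ker pr l hζ i1 i2)
  obtain ⟨e, e1, e2⟩ := cyc1 hζ (fun i => X δ (x ^ i • δ)) (th p x δ ζ X) rfl
  have t : X.trace = Fintype.card Ω * X δ δ := by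
    rw [Matrix.trace, Finset.sum_congr rfl fun a _ => show X.diag a = X δ δ from ?_, Finset.sum_const,
      Finset.card_univ, nsmul_eq_mul]
    obtain ⟨g, rfl⟩ := exists_smul_eq G δ a
    exact hX g δ δ
  have n1 : 1 ≤ Fintype.card Ω := Fintype.card_pos
  refine ⟨?_, fun i hi' => ?_⟩
  · have k1' := congrArg (Nat.cast (R := ℚ)) k1
    have e1' := congrArg (Nat.cast (R := ℚ)) e1
    push_cast [Nat.cast_sub n1, Nat.cast_sub hp.one_le] at k1' e1'
    simp only [pow_zero, one_smul] at e2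
    rw [← t, k2, ← e2, k1', ← e1']
    ring
  · have nd : ¬ p ∣ (minpoly ℚ (th p x δ ζ X)).natDegree := fun h => by
      have h1 : p ∣ Fintype.card Ω - 1 := k1 ▸ h.mul_left k
      have h2 := Nat.dvd_sub dv h1
      rw [Nat.sub_sub_self n1] at h2
      exact hp.one_lt.ne' (Nat.dvd_one.1 h2)
    have c := cyc2 hζ (fun i => X δ (x ^ i • δ)) (th p x δ ζ X) rfl nd
    have a : ∀ j s : ℕ, ¬ p ∣ j → j + p * s < p ^ 2 → X δ (x ^ (j + p * s) • δ) = X δ (x ^ j • δ) := by
      intro j s hj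
      induction s with
      | zero => exact fun _ => rfl
      | succ s ih =>
        intro h
        rw [mul_add_one, ← add_assoc] at h ⊢
        exact (c _ h fun d => hj ((Nat.dvd_add_left (dvd_mul_right p s)).1 d)).trans (ih (by omega))
    have b : ∀ j : ℕ, ¬ p ∣ j → X δ (x ^ j • δ) = X δ (x ^ (j % p) • δ) := by
      intro j hj
      have m : j % p ^ 2 % p = j % p := Nat.mod_mod_of_dvd j (dvd_pow_self p two_ne_zero)
      have r := Nat.mod_add_div (j % p ^ 2) p
      rw [m] at r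
      rw [← a (j % p) (j % p ^ 2 / p) (fun d => hj ((Nat.dvd_mod_iff dvd_rfl).1 d))
        (by rw [r]; exact Nat.mod_lt _ (pow_pos hp.pos 2)), r, (l.inj _ _).2 (Nat.mod_modEq j (p ^ 2))]
    rw [b _ hi', b _ fun d => hi' ((Nat.dvd_add_left dvd_rfl).1 d), Nat.add_mod_right]

omit [Finite G] [FaithfulSMul G Ω] in
/-- PROOF. Let `a ≠ b`, `M` the `0/1` matrix of the orbit of `(a, b)`, `d ≥ 1` its row sum, `n = |Ω| ≥ p²`, `z = x ^ p`,
`S = {s < p | M δ (z ^ s • δ) = 1} ∌ 0`, `σ = |S|`. `key` for `M` (`M δ δ = 0`): `(p - 1) d = (n - 1) σ`. `key` for `X = M * Mᵀ`: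
`X δ δ = d`, row sum `d²`, and `X δ (z ^ s • δ) = ∑_γ M δ γ * M δ (z ^ (p - s) • γ)`; for `γ` off the `z`-cycle of `δ`,
`M δ (z • γ) = M δ γ` (off `Δ`: `out`; on `Δ`: second part of `key`), so `∑_{s<p} X δ (z ^ s • δ) = p (d - σ) + σ²`. Hence
`p (p-1) (n d - d²) = (n - 1) p σ (p - σ) = p (p - 1) d (p - σ)`, `n - d = p - σ`, `(p - 1 - σ)(n - p) = 0`, `σ = p - 1`,
`d = n - 1`: `M` is `1` off the diagonal. -/
theorem two (hp : p.Prime) (pr : IsPreprimitive G Ω) (l : Lc p x δ) (dv : p ∣ Nat.card Ω) :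
    CL.T2.Tw G Ω := by
  classical
  have := Fintype.ofFinite Ω
  rw [Nat.card_eq_fintype_card] at dv
  have tr := pr.toIsPretransitive
  have p1 := hp.one_lt
  have pp : p < p ^ 2 := by nlinarith
  have np : p ^ 2 ≤ Fintype.card Ω := by
    have := Fintype.card_le_of_injective (fun i : Fin (p ^ 2) => x ^ (i : ℕ) • δ) fun i j h =>
      Fin.ext (Nat.ModEq.eq_of_lt_of_lt ((l.inj _ _).1 h) i.2 j.2)
    simpa using this
  refine ⟨Fintype.one_lt_card_iff_nontrivial.1 (by omega), fun a b c d ab cd => ?_⟩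
  let M : Matrix Ω Ω ℚ := Matrix.of fun u v => if ∃ g : G, g • a = u ∧ g • b = v then 1 else 0
  have hM : Inv G M := fun g u v => if_congr
    ⟨fun ⟨h, h1, h2⟩ => ⟨g⁻¹ * h, by rw [mul_smul, h1, inv_smul_smul], by rw [mul_smul, h2, inv_smul_smul]⟩,
      fun ⟨h, h1, h2⟩ => ⟨g * h, by rw [mul_smul, h1], by rw [mul_smul, h2]⟩⟩ rfl rfl
  have m0 : ∀ u, M u u = 0 := fun u => if_neg fun ⟨g, h1, h2⟩ => ab (smul_left_cancel g (h1.trans h2.symm))
  have m01 : ∀ u v, M u v = 0 ∨ M u v = 1 := fun u v => by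
    by_cases h : ∃ g : G, g • a = u ∧ g • b = v
    · exact Or.inr (if_pos h)
    · exact Or.inl (if_neg h)
  have mm : ∀ u v, M u v * M u v = M u v := fun u v => by rcases m01 u v with h | h <;> rw [h] <;> ring
  have hX : Inv G (M * M.transpose) := fun g u v => by
    simp only [Matrix.mul_apply, Matrix.transpose_apply]
    rw [← Equiv.sum_comp (MulAction.toPerm g)]
    exact Finset.sum_congr rfl fun γ _ => by rw [MulAction.toPerm_apply, hM, hM]
  obtain ⟨k1, k2⟩ := key hp pr l dv hM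
  have k3 := (key hp pr l dv hX).1
  set D := ∑ b, M δ b with hD
  have per : ∀ k, M δ (x ^ (p * (k + p)) • δ) = M δ (x ^ (p * k) • δ) := fun k => by
    rw [mul_add, pow_add, mul_smul, Tw2.zpow l]
  have rg : ∀ f : ℕ → ℚ, ∑ s ∈ Finset.Ico 1 p, f s = ∑ s ∈ Finset.range p, f s - f 0 := fun f => by
    rw [Finset.range_eq_Ico, Finset.sum_eq_sum_Ico_succ_bot hp.pos]; ring
  rw [rg] at k1 k3
  set σ := ∑ s ∈ Finset.range p, M δ (x ^ (p * s) • δ) with hσ
  have x0 : (M * M.transpose) δ δ = D := by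
    simp only [Matrix.mul_apply, Matrix.transpose_apply, mm, hD]
  have x1 : ∑ v, (M * M.transpose) δ v = D * D := by
    simp only [Matrix.mul_apply, Matrix.transpose_apply]
    rw [Finset.sum_comm, Finset.sum_mul]
    exact Finset.sum_congr rfl fun γ _ => by rw [← Finset.mul_sum, Tw2.col tr hM δ]
  let β := (Finset.range p).image fun j => x ^ (p * j) • δ
  have mv : ∀ s ∈ Finset.range p, ∀ γ, M (x ^ (p * s) • δ) γ = M δ (x ^ (p * (p - s)) • γ) := fun s hs γ => by
    rw [← hM (x ^ (p * s)) δ, ← mul_smul, ← pow_add, ← mul_add,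
      Nat.add_sub_cancel' (Finset.mem_range.1 hs).le, Tw2.zpow l]
  have F : ∀ γ, M δ γ * ∑ s ∈ Finset.range p, M (x ^ (p * s) • δ) γ =
      p * M δ γ + if γ ∈ β then M δ γ * (σ - p) else 0 := fun γ => by
    rw [Finset.sum_congr rfl fun s hs => mv s hs γ]
    split_ifs with h
    · obtain ⟨j, -, rfl⟩ := Finset.mem_image.1 h
      rw [Finset.sum_congr rfl fun s hs => show M δ (x ^ (p * (p - s)) • x ^ (p * j) • δ) =
        M δ (x ^ (p * (p - 1 - s + (j + 1))) • δ) from ?_,
        Finset.sum_range_reflect (fun k => M δ (x ^ (p * (k + (j + 1))) • δ)),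
        Tw2.shift (f := fun k => M δ (x ^ (p * k) • δ)) per]
      · ring
      · have := Finset.mem_range.1 hs
        rw [← mul_smul, ← pow_add, ← mul_add, show p - s + j = p - 1 - s + (j + 1) by omega]
    · have z : ∀ k, M δ (x ^ (p * k) • γ) = M δ γ := fun k => by
        by_cases hγ : γ ∈ Dl x δ
        · obtain ⟨i, rfl⟩ := hγ
          have hi : ¬ p ∣ i := by
            rintro ⟨j, rfl⟩
            refine h (Finset.mem_image.2 ⟨j % p, Finset.mem_range.2 (Nat.mod_lt _ hp.pos), ?_⟩)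
            rw [l.inj, pow_two]
            exact (Nat.mod_modEq j p).mul_left' p
          rw [← mul_smul, ← pow_add]
          induction k with
          | zero => rw [mul_zero, zero_add]
          | succ k ih =>
            rw [← ih, ← k2 _ fun d => hi ((Nat.dvd_add_right (dvd_mul_right p k)).1 d)]
            congr 3; ring
        · have : x ^ p ∈ stabilizer G γ := l.out γ hγ
          rw [pow_mul, show (x ^ p) ^ k • γ = γ from Subgroup.pow_mem _ this k]
      rw [Finset.sum_congr rfl fun s _ => z (p - s), Finset.sum_const, Finset.card_range, nsmul_eq_mul,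
        mul_left_comm, mm, add_zero]
  have x2 : ∑ s ∈ Finset.range p, (M * M.transpose) δ (x ^ (p * s) • δ) = p * D + σ * (σ - p) := by
    simp only [Matrix.mul_apply, Matrix.transpose_apply]
    rw [Finset.sum_comm, Finset.sum_congr rfl fun γ _ => (Finset.mul_sum ..).symm.trans (F γ),
      Finset.sum_add_distrib, ← Finset.mul_sum, Finset.sum_ite_mem, Finset.univ_inter, ← Finset.sum_mul,
      Finset.sum_image]
    intro i hi j hj h
    have h' := (l.inj _ _).1 h
    rw [pow_two] at h'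
    exact Nat.ModEq.eq_of_lt_of_lt (Nat.ModEq.mul_left_cancel' hp.ne_zero h') (Finset.mem_range.1 hi)
      (Finset.mem_range.1 hj)
  simp only [mul_zero, pow_zero, one_smul] at k1 k3
  rw [x0, x1, x2] at k3
  rw [m0] at k1
  have nn : ∀ u v, 0 ≤ M u v := fun u v => by rcases m01 u v with h | h <;> simp [h]
  have D0 : 0 < D := by
    have h1 : M a b = 1 := if_pos ⟨1, one_smul _ _, one_smul _ _⟩
    have h2 := Finset.single_le_sum (f := M a) (fun v _ => nn a v) (Finset.mem_univ b)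
    rw [Tw2.row tr hM δ a, h1] at h2
    linarith
  have P1 : (1 : ℚ) < p := by exact_mod_cast p1
  have NP : (p : ℚ) < Fintype.card Ω := by exact_mod_cast pp.trans_le np
  set n : ℚ := (Fintype.card Ω : ℚ)
  have a1 : (p - 1) * D = (n - 1) * σ := mul_left_cancel₀ (by linarith : (p : ℚ) ≠ 0) (by linear_combination -k1)
  have a2 : n - D = p - σ := mul_left_cancel₀
    (by have : (0 : ℚ) < p - 1 := by linarith
        positivity : (p : ℚ) * (p - 1) * D ≠ 0) (by linear_combination k3 - p * (p - σ) * a1)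
  have a3 : σ = p - 1 := mul_left_cancel₀ (by linarith : n - p ≠ 0) (by linear_combination -a1 - (p - 1) * a2)
  by_contra hn
  have h0 : M c d = 0 := if_neg hn
  have h2 := Finset.add_le_sum (f := fun v => 1 - M c v) (s := Finset.univ)
    (fun v _ => by rcases m01 c v with h | h <;> simp [h]) (Finset.mem_univ c) (Finset.mem_univ d) cd
  simp only [Finset.sum_sub_distrib, Finset.sum_const, Finset.card_univ, nsmul_eq_mul, mul_one, m0, h0] at h2
  rw [Tw2.row tr hM δ c] at h2
  linarith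

end CL.Pq
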