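/-
PERM/Pq (S3579): glue
-/
import Cfsg.Agent.PERM.Pq.Nrm
import Cfsg.Agent.PERM.Pq.Cov
import Cfsg.Agent.PERM.Pq.Long
import Cfsg.Agent.PERM.Pq.Om
import Cfsg.Agent.PERM.Pq.Blk
import Cfsg.Agent.PERM.Pq.Imp
import Cfsg.Agent.PERM.Pq.Two
import Cfsg.Agent.PERM.Pq.One
import Cfsg.Agent.PERM.Pq.BigA
import Cfsg.Agent.PERM.Pq.BigB
import Cfsg.Agent.PERM.Pq.SmB

set_option autoImplicit false

namespace CL.Pq

open MulAction Pointwise

variable {G Ω : Type*} [Group G] [Finite G] [MulAction G Ω] [Finite Ω] [FaithfulSMul G Ω] {p q : ℕ}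
  {P A : Subgroup G} {x : G} {δ : Ω}

theorem St.false (h : St G Ω p q) : False := by
  have := Fact.mk h.hp
  obtain ⟨S⟩ : Nonempty (Sylow p G) := inferInstance
  have uc : ∀ {P A : Subgroup G}, Uc Ω p P A → False := fun c => nrm h c (c.trans h)
  rcases long h ⟨S, rfl⟩ with c | ⟨A, x, δ, c⟩
  · exact uc c
  rcases c.tri h (c.om h) with c | c
  · exact uc c
  by_cases pr : IsPreprimitive G Ω
  · have tw := two h.hp pr c.lc (h.card ▸ ⟨2 * q, by ring⟩)
    have e := one h c tw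
    by_cases cy : A = Subgroup.zpowers (x ^ p)
    · exact smB h c tw e cy
    · obtain ⟨Γ, M, j⟩ := bigA h c cy
      obtain ⟨s, m, hs, hm⟩ := bigB h.hp j
      rw [e] at hm
      have h2 : 2 = s := (Nat.prime_dvd_prime_iff_eq Nat.prime_two hs).mp
        (Nat.prime_two.dvd_of_dvd_pow (hm ▸ dvd_mul_right 2 q))
      have h3 : q = s := (Nat.prime_dvd_prime_iff_eq h.hq hs).mp
        (h.hq.dvd_of_dvd_pow (hm ▸ dvd_mul_left q 2))
      have := h.q3
      omega
  · obtain ⟨B, s⟩ := c.sy h pr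
    by_cases fa : ∀ k ∈ Kb x B, (∀ b ∈ B, k • b = b) → k = 1
    · exact s.faith h c fa
    · push Not at fa
      obtain ⟨k, hk, h1, h2⟩ := fa
      exact s.nfaith h c ⟨k, hk, h2, h1⟩

theorem main (tr : IsPretransitive G Ω) (hp : p.Prime) (hq : q.Prime) (hq2 : q ≠ 2) (lt : q < p)
    (card : Nat.card Ω = 2 * p * q) : ∃ g : G, (orderOf g).Prime ∧ ∀ ω : Ω, g • ω ≠ ω := by
  by_cases lt2 : p < 2 * q
  · by_contra hn
    push Not at hn
    have := hq.two_le
    exact St.false (G := G) (Ω := Ω) ⟨hp, hq, by omega, lt, lt2, tr, card, hn⟩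
  · have := Fintype.ofFinite Ω
    obtain ⟨g, hg, h⟩ := Cfsg.Agent.S5727.result tr p (2 * q) hp (by have := hq.two_le; omega)
      (by omega) (by rw [← Nat.card_eq_fintype_card, card]; ring)
    exact ⟨g, hg ▸ hp, h⟩

end CL.Pq
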