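/-
PERM/Pq (S3579): the transfer `P → A` and the last step of `Pc.om`
-/
import Cfsg.Agent.PERM.Pq.BasB

set_option autoImplicit false

namespace CL.Pq.Om2

open MulAction Pointwise

variable {G Ω : Type*} [Group G] [Finite G] [MulAction G Ω] [Finite Ω] [FaithfulSMul G Ω] {p q : ℕ}
  {P A : Subgroup G} {x : G} {δ : Ω}

omit [Finite Ω] [FaithfulSMul G Ω] in
theorem idx (c : Pc p P A x δ) : A.relIndex P = p := by
  have := (A.subgroupOf P).card_mul_index
  rw [Nat.card_congr (Subgroup.subgroupOfEquivOfLe c.le).toEquiv, c.card, mul_comm] at this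
  exact Nat.eq_of_mul_eq_mul_right Nat.card_pos this

omit [Finite Ω] [FaithfulSMul G Ω] in
/-- `A` is maximal in `P` -/
theorem mx (hp : p.Prime) (c : Pc p P A x δ) {K : Subgroup G} (h : A ≤ K) {g : G} (hg : g ∈ P) (gK : g ∈ K)
    (gA : g ∉ A) : P ≤ K := by
  have e := Subgroup.relIndex_mul_relIndex A (P ⊓ K) P (le_inf c.le h) inf_le_left
  rw [idx c] at e
  rcases (Nat.dvd_prime hp).1 ⟨_, e.symm⟩ with k | k
  · exact absurd (Subgroup.relIndex_eq_one.1 k ⟨hg, gK⟩) gA
  · rw [k] at e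
    exact (Subgroup.relIndex_eq_one.1 (Nat.eq_of_mul_eq_mul_left hp.pos (e.trans (mul_one p).symm))).trans
      inf_le_right

omit [Finite Ω] [FaithfulSMul G Ω] in
/-- an element of `A` commuting with an element of `P ∖ A` is central -/
theorem cen (hp : p.Prime) (c : Pc p P A x δ) {a g : G} (ha : a ∈ A) (hg : g ∈ P) (gA : g ∉ A)
    (e : a * g = g * a) {y : G} (hy : y ∈ P) : a * y = y * a :=
  (Subgroup.mem_centralizer_singleton_iff.1 (mx hp c (K := Subgroup.centralizer {a})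
    (fun b hb => Subgroup.mem_centralizer_singleton_iff.2 (c.cm b hb a ha)) hg
    (Subgroup.mem_centralizer_singleton_iff.2 e.symm) gA hy)).symm

theorem tr (hp : p.Prime) (c : Pc p P A x δ) :
    ∃ V : P →* G, ∀ g : P, (g : G) ∉ A → V g = (g : G) ^ p := by
  letI : CommGroup A := { (inferInstance : Group A) with
    mul_comm := fun a b => Subtype.ext (c.cm a a.2 b b.2) }
  refine ⟨A.subtype.comp (MonoidHom.transfer (Subgroup.subgroupOfEquivOfLe c.le).toMonoidHom), fun g hg => ?_⟩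
  rw [MonoidHom.comp_apply, MonoidHom.transfer_eq_pow _ g fun k g₀ hk => ?_]
  · change ((g ^ A.relIndex P : P) : G) = _
    rw [idx c]; rfl
  · have h1 := (c.gen hp).1 g₀ g₀.2 _ hk
    have h2 : (g : G) ^ k ∈ A := by simpa [mul_assoc] using h1
    have h3 := cen hp c h2 g.2 hg ((Commute.refl (g : G)).pow_left k).eq g₀.2
    apply Subtype.ext
    simp [mul_assoc, h3]

theorem step3 (h : St G Ω p q) (c : Pc p P A x δ) (V : P →* G) (hV : ∀ g : P, (g : G) ∉ A → V g = (g : G) ^ p)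
    (hB : ∀ ω ∉ Dl x δ, ∀ g : P, (g : G) • ω = ω → V g = 1) : ∀ a : P, (a : G) ∈ A → V a = 1 := by
  intro a ha
  by_contra ne
  haveI := Fact.mk h.hp
  obtain ⟨s, hs⟩ : ∃ s : ℕ → ℕ, ∀ i, (a : G) • x ^ i • δ = x ^ (i + p * s i) • δ :=
    ⟨fun i => (c.blk a ha i).choose, fun i => (c.blk a ha i).choose_spec⟩
  have zc : ∀ m, (a : G) * x ^ (p * m) = x ^ (p * m) * a := fun m =>
    c.cm _ ha _ (pow_mul x p m ▸ A.pow_mem c.zA m)
  have act : ∀ i m, (a : G) • x ^ (i + p * m) • δ = x ^ (i + p * m + p * s i) • δ := fun i m => by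
    rw [add_comm i, pow_add, mul_smul, ← mul_smul, zc, mul_smul, hs, ← mul_smul, ← pow_add, add_assoc]
  have Vx : V ⟨x, c.xP⟩ = x ^ p := hV _ c.xA
  have sj : Set.SurjOn (fun k => (s k : ZMod p)) (Finset.range p : Set ℕ) (Finset.univ : Finset (ZMod p)) := by
    intro u _
    let g : P := a * ⟨x, c.xP⟩ ^ (p * (-u).val)
    have Vg : V g = V a := by
      rw [map_mul, map_pow, Vx, pow_mul, c.ex _ c.zA, one_pow, mul_one]
    have gA : (g : G) ∈ A := A.mul_mem ha (by simpa [pow_mul] using A.pow_mem c.zA (-u).val)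
    have g1 : (g : G) ≠ 1 := fun e => ne (by rw [← Vg, show g = 1 from Subtype.ext e, map_one])
    obtain ⟨ω, hω⟩ := h.el g (by rw [orderOf_eq_prime (c.ex _ gA) g1]; exact h.hp)
    obtain ⟨i, rfl⟩ : ω ∈ Dl x δ := by_contra fun n => ne (Vg ▸ hB ω n g hω)
    refine ⟨i % p, by simpa using Nat.mod_lt i h.hp.pos, ?_⟩
    have e : (g : G) = a * x ^ (p * (-u).val) := by simp [g]
    rw [e, mul_smul, ← mul_smul (x ^ _), ← pow_add, show p * (-u).val + i = i % p + p * ((-u).val + i / p) by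
      rw [mul_add, add_left_comm, Nat.mod_add_div], act, c.inj,
      show i % p + p * ((-u).val + i / p) + p * s (i % p) = i % p + p * (i / p) + p * ((-u).val + s (i % p)) by ring,
      Nat.mod_add_div, Nat.add_modEq_left_iff, sq, Nat.mul_dvd_mul_iff_left h.hp.pos, ← ZMod.natCast_eq_zero_iff,
      Nat.cast_add, ZMod.natCast_zmod_val, neg_add_eq_zero] at hω
    exact hω.symm
  have ij := Finset.injOn_of_surjOn_of_card_le (fun k => (s k : ZMod p)) (fun _ _ => Finset.mem_univ _) sj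
    (by simp [ZMod.card])
  have sm : p ∣ ∑ k ∈ Finset.range p, s k := by
    rw [← ZMod.natCast_eq_zero_iff, Nat.cast_sum,
      Finset.sum_nbij (g := fun u => u) _ (fun _ _ => Finset.mem_univ _) ij sj fun _ _ => rfl]
    simpa using FiniteField.sum_pow_lt_card_sub_one (ZMod p) 1 (by have := h.num.2.1; rw [ZMod.card]; omega)
  have it : ∀ k, (x * a) ^ k • δ = x ^ (k + p * ∑ i ∈ Finset.range k, s i) • δ := fun k => by
    induction k with
    | zero => simp
    | succ k ih =>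
      rw [pow_succ', mul_smul, ih, mul_smul, act, ← mul_smul, ← pow_succ', Finset.sum_range_succ]
      congr 2; ring
  have xa : x * a ∉ A := fun e => c.xA ((A.mul_mem_cancel_right ha).1 e)
  have xP : x * a ∈ P := P.mul_mem c.xP a.2
  have pA : (x * a) ^ p ∈ A := by
    obtain ⟨S, rfl⟩ := c.syl
    exact (nrm_of_card h.hp S.2 c.le c.card).2 _ xP
  obtain ⟨o, k⟩ := c.cen h.hp
  obtain ⟨m, hm⟩ := k _ pA (cen h.hp c pA xP xa ((Commute.refl _).pow_left p).eq c.xP)
    ((c.dl h.hp).2.2.1 _ xP)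
  have e := it p
  rw [hm, c.inj] at e
  have e2 : x ^ (p * m) = x ^ p := by
    rw [pow_eq_pow_iff_modEq, o]
    exact e.trans (Nat.add_modEq_left_iff.2 (sq p ▸ Nat.mul_dvd_mul_left p sm))
  have := hV (⟨x, c.xP⟩ * a) xa
  rw [map_mul, Vx, Subgroup.coe_mul, hm, e2] at this
  exact ne (mul_eq_left.1 this)

end CL.Pq.Om2
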