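/-
PERM/Pq (S3579): no two commuting transitive normal subgroups
-/
import Cfsg.Agent.PERM.Pq.Defs

set_option autoImplicit false

namespace CL.Pq.Reg2

open MulAction Pointwise

variable {G Ω : Type*} [Group G] [MulAction G Ω] {p q : ℕ} {K U V : Subgroup G} {B : Set Ω} {c : G} {β : Ω}

theorem ncard_Dl (hp : 0 < p) (inj : ∀ i j : ℕ, c ^ i • β = c ^ j • β ↔ i ≡ j [MOD p]) :
    (Dl c β).ncard = p := by
  have e : Dl c β = (fun i : ℕ => c ^ i • β) '' (Finset.range p : Set ℕ) := by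
    ext ω
    constructor
    · rintro ⟨i, rfl⟩
      exact ⟨i % p, by simpa using Nat.mod_lt i hp, (inj _ _).2 (Nat.mod_modEq i p)⟩
    · rintro ⟨i, -, rfl⟩
      exact ⟨i, rfl⟩
  rw [e, Set.InjOn.ncard_image, Set.ncard_coe_finset, Finset.card_range]
  intro i hi j hj e
  exact Nat.ModEq.eq_of_lt_of_lt ((inj i j).1 e) (by simpa using hi) (by simpa using hj)

theorem regl [Finite G] [Finite Ω] (h : Cy p q K B c β) (tU : ∀ a ∈ B, ∀ b ∈ B, ∃ u ∈ U, u • a = b)
    (tV : ∀ a ∈ B, ∀ b ∈ B, ∃ v ∈ V, v • a = b) (le : U ≤ K)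
    (nU : ∀ k ∈ K, ∀ u ∈ U, k * u * k⁻¹ ∈ U) (cm : ∀ u ∈ U, ∀ v ∈ V, u * v = v * u) : False := by
  classical
  have agr : ∀ u ∈ U, ∀ u' ∈ U, ∀ a ∈ B, u • a = u' • a → ∀ b ∈ B, u • b = u' • b := by
    intro u hu u' hu' a ha e b hb
    obtain ⟨v, hv, rfl⟩ := tV a ha b hb
    rw [← mul_smul, cm u hu v hv, mul_smul, e, ← mul_smul, ← cm u' hu' v hv, mul_smul]
  have sub : Dl c β ⊆ B := by
    rintro _ ⟨i, rfl⟩
    exact h.inv _ (pow_mem h.cK i) _ h.mem
  have hF := Set.ncard_sdiff_add_ncard_of_subset sub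
  rw [ncard_Dl h.hp.pos h.inj, h.card] at hF
  have lt := h.lt
  have lt2 := h.lt2
  have q3 := h.q3
  obtain ⟨ω, hω, nω⟩ : (B \ Dl c β).Nonempty := Set.nonempty_of_ncard_ne_zero (by omega)
  have cω : ∀ k : ℕ, (c ^ k)⁻¹ • ω = ω := fun k =>
    (inv_mem (pow_mem (show c ∈ stabilizer G ω from h.out ω hω nω) k) : _ ∈ stabilizer G ω)
  have nrm : (stabilizer U ω).Normal := ⟨fun n hn g => by
    rw [mem_stabilizer_iff, mul_smul, mul_smul]
    have := agr n n.2 1 (one_mem _) ω hω (by rw [one_smul]; exact hn) ((g⁻¹ : U) • ω)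
      (h.inv _ (le (g⁻¹).2) _ hω)
    rw [one_smul] at this
    exact (congrArg (g • ·) this).trans (smul_inv_smul g ω)⟩
  have idx : Nat.card (U ⧸ stabilizer U ω) = 2 * q := by
    rw [← Subgroup.index, index_stabilizer, ← h.card]
    congr 1
    ext b
    exact ⟨by rintro ⟨u, rfl⟩; exact h.inv _ (le u.2) _ hω,
      fun hb => let ⟨u, hu, e⟩ := tU ω hω b hb; ⟨⟨u, hu⟩, e⟩⟩
  have cau : ∀ l : ℕ, l.Prime → l ∣ 2 * q → ∃ u ∈ U, u • ω ≠ ω ∧ u ^ l • ω = ω := fun l hl hd => by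
    have := Fact.mk hl
    obtain ⟨x, hx⟩ := exists_prime_orderOf_dvd_card' l (idx ▸ hd)
    obtain ⟨u, rfl⟩ := QuotientGroup.mk_surjective x
    refine ⟨u, u.2, fun e => ?_, ?_⟩
    · rw [(QuotientGroup.eq_one_iff u).2 e, orderOf_one] at hx
      exact hl.one_lt.ne hx
    · have := pow_orderOf_eq_one (u : U ⧸ stabilizer U ω)
      rw [hx, ← QuotientGroup.mk_pow, QuotientGroup.eq_one_iff] at this
      exact this
  obtain ⟨u, hu, u1, u2⟩ := cau 2 Nat.prime_two (dvd_mul_right _ _)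
  obtain ⟨v, hv, v1, v2⟩ := cau q h.hq (dvd_mul_left _ _)
  have uu : ∀ b ∈ B, u • u • b = b := fun b hb => by
    have := agr _ (pow_mem hu 2) 1 (one_mem _) ω hω (by rw [u2, one_smul]) b hb
    rwa [one_smul, pow_two, mul_smul] at this
  by_cases hD : u • ω ∈ Dl c β
  · obtain ⟨i, hi⟩ := hD
    have vo : ∀ n : ℕ, v ^ n • ω = ω → q ∣ n := fun n e => by
      by_contra hn
      obtain ⟨m, -, hm⟩ := Nat.exists_mul_mod_eq_one_of_coprime
        ((Nat.Prime.coprime_iff_not_dvd h.hq).2 hn).symm h.hq.one_lt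
      have k1 : v ^ (n * m) ∈ stabilizer G ω := by rw [pow_mul]; exact pow_mem e m
      rw [← Nat.div_add_mod (n * m) q, hm, pow_add, pow_one, pow_mul,
        Subgroup.mul_mem_cancel_left _ (pow_mem (show v ^ q ∈ stabilizer G ω from v2) _)] at k1
      exact v1 k1
    have k : ∀ n ∈ (Finset.range q : Set ℕ), v ^ n • ω ∈ B \ Dl c β := fun n hn => by
      refine ⟨h.inv _ (le (pow_mem hv n)) _ hω, fun ⟨j, hj⟩ => ?_⟩
      have hw := nU _ (pow_mem h.cK (j + (p - 1) * i)) u hu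
      have e : (c ^ (j + (p - 1) * i) * u * (c ^ (j + (p - 1) * i))⁻¹) • ω = v ^ n • ω := by
        rw [mul_smul, mul_smul, cω, ← hi, ← hj, ← mul_smul, ← pow_add, h.inj]
        obtain ⟨r, rfl⟩ : ∃ r, p = r + 1 := ⟨p - 1, by omega⟩
        rw [Nat.add_sub_cancel, show j + r * i + i = j + (r + 1) * i by ring]
        exact Nat.add_mul_mod_self_left _ _ _
      have e2 := agr _ hw _ (pow_mem hv n) ω hω e _ (h.inv _ (le (pow_mem hv n)) _ hω)
      have ww : ∀ g : G, g⁻¹ • ω = ω → (g * u * g⁻¹) • (g * u * g⁻¹) • ω = ω := fun g hg => by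
        rw [← mul_smul, conj_mul, mul_smul, mul_smul, hg, mul_smul, uu ω hω, smul_eq_iff_eq_inv_smul, hg]
      have e4 := ww _ (cω (j + (p - 1) * i))
      rw [e, e2, ← mul_smul, ← pow_add] at e4
      have := vo _ e4
      rw [← two_mul, (Nat.Prime.dvd_mul h.hq)] at this
      have hn' : n < q := by simpa using hn
      rcases this with e3 | e3
      · have := Nat.le_of_dvd two_pos e3
        omega
      · rw [Nat.eq_zero_of_dvd_of_lt e3 hn', pow_zero, one_smul] at hj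
        exact nω ⟨j, hj⟩
    have k2 := Set.ncard_le_ncard_of_injOn (fun n : ℕ => v ^ n • ω) k (by
      have key : ∀ a b : ℕ, b < q → a ≤ b → v ^ a • ω = v ^ b • ω → a = b := fun a b hb hab e => by
        obtain ⟨d, rfl⟩ := Nat.exists_eq_add_of_le hab
        rw [pow_add, mul_smul, smul_left_cancel_iff] at e
        rw [Nat.eq_zero_of_dvd_of_lt (vo d e.symm) (by omega), add_zero]
      intro a ha b hb e
      rcases le_total a b with hab | hab
      · exact key a b (by simpa using hb) hab e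
      · exact (key b a (by simpa using ha) hab e.symm).symm)
    rw [Set.ncard_coe_finset, Finset.card_range] at k2
    omega
  · have uB : ∀ b ∈ B, u • b ∈ B := h.inv u (le hu)
    have e : (c * u * c⁻¹) • ω = u • ω := by
      have := cω 1
      rw [pow_one] at this
      rw [mul_smul, mul_smul, this, h.out _ (uB ω hω) hD]
    have k : ∀ b ∈ B \ Dl c β, u • b ∈ B \ Dl c β := fun b hb => by
      refine ⟨uB b hb.1, fun ⟨j, hj⟩ => ?_⟩
      have e2 := agr _ (nU c h.cK u hu) u hu ω hω e b hb.1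
      rw [mul_smul, mul_smul, inv_smul_eq_iff.2 (h.out b hb.1 hb.2).symm, ← hj, ← mul_smul, ← pow_succ',
        h.inj] at e2
      have := (Nat.modEq_iff_dvd' (Nat.le_succ j)).1 e2.symm
      rw [Nat.succ_eq_add_one, Nat.add_sub_cancel_left] at this
      exact h.hp.one_lt.ne' (Nat.dvd_one.1 this)
    have k2 := Finset.sum_involution (s := (Set.toFinite (B \ Dl c β)).toFinset) (f := fun _ => (1 : ZMod 2))
      (fun b _ => u • b) (fun _ _ => rfl)
      (fun b hb _ e => u1 (by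
        have := agr u hu 1 (one_mem _) b ((Set.Finite.mem_toFinset _).1 hb).1 (by rw [e, one_smul]) ω hω
        rwa [one_smul] at this))
      (fun b hb => (Set.Finite.mem_toFinset _).2 (k b ((Set.Finite.mem_toFinset _).1 hb)))
      (fun b hb => uu b ((Set.Finite.mem_toFinset _).1 hb).1)
    rw [Finset.sum_const, nsmul_eq_mul, mul_one, ZMod.natCast_eq_zero_iff, ← Set.ncard_eq_toFinset_card] at k2
    have := h.hp.eq_two_or_odd
    omega

end CL.Pq.Reg2
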